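import Mathlib
import Cfsg.Agent.H41.Pack

/-!
# The regular representation of `S₅`
-/

set_option autoImplicit false
set_option maxRecDepth 1000000

namespace Cfsg.Agent.H41.NA

open Cfsg.Agent.H42

noncomputable def gd_0 : ℕ := (nat_lit 0xa5aa503c20f608c20c0cc3ac3b330c)
noncomputable def gd_1 : ℕ := (nat_lit 0xc3accce0044c958f5ab4440dfff4d0)
noncomputable def gd_2 : ℕ := (nat_lit 0x816673409955225105bb11ccc410)
noncomputable def gd_3 : ℕ := (nat_lit 0x226447461918410004000600)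
noncomputable def gd_4 : ℕ := (nat_lit 0x4000265a960e8a0a2a0a010480000)
noncomputable def gd_5 : ℕ := (nat_lit 0x9bee00000be8f8b02000f8000000)
noncomputable def gd_6 : ℕ := (nat_lit 0xbe8f8000000)
noncomputable def gd : Net := [hi 7 0 gd_0, hi 7 1 gd_1, hi 7 2 gd_2, hi 7 3 gd_3, hi 7 4 gd_4, hi 7 5 gd_5, lo 7 6 gd_6, lo 7 5 gd_5, lo 7 4 gd_4, lo 7 3 gd_3, lo 7 2 gd_2, lo 7 1 gd_1, lo 7 0 gd_0]
theorem gd_ok : netOk 120 gd = true := by decide +kernel

noncomputable def ge_0 : ℕ := (nat_lit 0xaa9688aa66aaa2aa69845aaa5156aa)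
noncomputable def ge_1 : ℕ := (nat_lit 0x909f6900ff6968fff27ce499066000)
noncomputable def ge_2 : ℕ := (nat_lit 0xa921e100d6ea521295c3c2321cc800)
noncomputable def ge_3 : ℕ := (nat_lit 0x12220808a5601f145652e79cc000)
noncomputable def ge_4 : ℕ := (nat_lit 0x7a0002086f002b1bd10dda78800000)
noncomputable def ge_5 : ℕ := (nat_lit 0x790024006b010400de0c0000000000)
noncomputable def ge_6 : ℕ := (nat_lit 0x69010400820000)
noncomputable def ge : Net := [hi 7 0 ge_0, hi 7 1 ge_1, hi 7 2 ge_2, hi 7 3 ge_3, hi 7 4 ge_4, hi 7 5 ge_5, lo 7 6 ge_6, lo 7 5 ge_5, lo 7 4 ge_4, lo 7 3 ge_3, lo 7 2 ge_2, lo 7 1 ge_1, lo 7 0 ge_0]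
theorem ge_ok : netOk 120 ge = true := by decide +kernel

noncomputable def gh_0 : ℕ := (nat_lit 0xaa959a5aa6a9aaa9aa55aaaaaaa56a)
noncomputable def gh_1 : ℕ := (nat_lit 0xf61d0000d103333a45996f0866060c)
noncomputable def gh_2 : ℕ := (nat_lit 0xb878a8d04f620b22d421ff33edcc00)
noncomputable def gh_3 : ℕ := (nat_lit 0x3515eaca563a3c348281c303c000)
noncomputable def gh_4 : ℕ := (nat_lit 0x9b00bafd0c3f088003800380700000)
noncomputable def gh_5 : ℕ := (nat_lit 0xeb350800080000d70303406b000000)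
noncomputable def gh_6 : ℕ := (nat_lit 0x1880007f000000)
noncomputable def gh : Net := [hi 7 0 gh_0, hi 7 1 gh_1, hi 7 2 gh_2, hi 7 3 gh_3, hi 7 4 gh_4, hi 7 5 gh_5, lo 7 6 gh_6, lo 7 5 gh_5, lo 7 4 gh_4, lo 7 3 gh_3, lo 7 2 gh_2, lo 7 1 gh_1, lo 7 0 gh_0]
theorem gh_ok : netOk 120 gh = true := by decide +kernel

noncomputable def gi_0 : ℕ := (nat_lit 0xaa66aaa65a5aaa65a6995955a6aaaa)
noncomputable def gi_1 : ℕ := (nat_lit 0xed9006990fc90660f0960fff90600)
noncomputable def gi_2 : ℕ := (nat_lit 0xff8400b7ccff84ff33deedb7cc8430)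
noncomputable def gi_3 : ℕ := (nat_lit 0x70b051a10001d2e28341814e0c00)
noncomputable def gi_4 : ℕ := (nat_lit 0xf00000cfc3c102108f1141fb040000)
noncomputable def gi_5 : ℕ := (nat_lit 0x32c2000032c20021c3120000000000)
noncomputable def gi_6 : ℕ := (nat_lit 0x32c20001010000)
noncomputable def gi : Net := [hi 7 0 gi_0, hi 7 1 gi_1, hi 7 2 gi_2, hi 7 3 gi_3, hi 7 4 gi_4, hi 7 5 gi_5, lo 7 6 gi_6, lo 7 5 gi_5, lo 7 4 gi_4, lo 7 3 gi_3, lo 7 2 gi_2, lo 7 1 gi_1, lo 7 0 gi_0]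
theorem gi_ok : netOk 120 gi = true := by decide +kernel

noncomputable def nets : List Net := [[], [], [], gd, ge, [], [], gh, gi, [], [], [], [], []]

/-- The action on bit sets. -/
noncomputable def ap : ℕ → ℕ → ℕ := apN nets

/-- The generators. -/
noncomputable def π : ℕ → Equiv.Perm (Fin 120) := genN 120 nets

theorem act : Act 120 ap π := act_nets (by
  intro N hN
  simp only [nets, List.mem_cons, List.not_mem_nil, or_false] at hN
  rcases hN with rfl | rfl | rfl | rfl | rfl | rfl | rfl | rfl | rfl | rfl | rfl | rfl | rfl | rfl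
  exacts [rfl, rfl, rfl, gd_ok, ge_ok, rfl, rfl, gh_ok, gi_ok, rfl, rfl, rfl, rfl, rfl])

end Cfsg.Agent.H41.NA
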