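import Mathlib
import Cfsg.Agent.H41.Pack

/-!
# `U₄(2)` on 216 points
-/

set_option autoImplicit false
set_option maxRecDepth 1000000

namespace Cfsg.Agent.H41.NB

open Cfsg.Agent.H42

noncomputable def gd_0 : ℕ := (nat_lit 0xc03ff03b3030222f0b003ccc3cbb0f2f33cc838c38cc20f22230ac)
noncomputable def gd_1 : ℕ := (nat_lit 0x4555af80a0a5a000faf00f0d45a50f05f488ae5d05adf0a000a008)
noncomputable def gd_2 : ℕ := (nat_lit 0xc422440080bb00669980dd107722ba44aa000011442200c4008000)
noncomputable def gd_3 : ℕ := (nat_lit 0xeaea232308086444212140404a4a222000000444004014144000)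
noncomputable def gd_4 : ℕ := (nat_lit 0x400040a240a0400d4c0d48cc008c00508010805000104000040000)
noncomputable def gd_5 : ℕ := (nat_lit 0xd049302810483028e890c40020808400001054c000000000)
noncomputable def gd_6 : ℕ := (nat_lit 0xc07bfb000000000080009224ca2224150800000048200015000000)
noncomputable def gd_7 : ℕ := (nat_lit 0x8084920048200015000000)
noncomputable def gd : Net := [hi 8 0 gd_0, hi 8 1 gd_1, hi 8 2 gd_2, hi 8 3 gd_3, hi 8 4 gd_4, hi 8 5 gd_5, hi 8 6 gd_6, lo 8 7 gd_7, lo 8 6 gd_6, lo 8 5 gd_5, lo 8 4 gd_4, lo 8 3 gd_3, lo 8 2 gd_2, lo 8 1 gd_1, lo 8 0 gd_0]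
theorem gd_ok : netOk 216 gd = true := by decide +kernel

noncomputable def ge_0 : ℕ := (nat_lit 0x1fff00e09ecc032032c000323c200f0b22333c00382ccc3030bc0)
noncomputable def ge_1 : ℕ := (nat_lit 0xfaaf0005aaa0f05a0ea5f50a05d5550a0a0fe08a005f5ffa0a0000)
noncomputable def ge_2 : ℕ := (nat_lit 0xeeccffee8877ffec0011bbcc9911446466cc440066331100aa0000)
noncomputable def ge_3 : ℕ := (nat_lit 0xcb8b1212a3e1c9c9c9894a4ac08084c4cccc08480303f8b00000)
noncomputable def ge_4 : ℕ := (nat_lit 0xce008e0d8b0d0a818489c4f944b140488300030098001080a00000)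
noncomputable def ge_5 : ℕ := (nat_lit 0x85b8bdd38139dd1258f7a9a200a760a24052738400820000)
noncomputable def ge_6 : ℕ := (nat_lit 0x3dcde2000000000040002080e718f2490000408000181009000000)
noncomputable def ge_7 : ℕ := (nat_lit 0xc2622c8100181009000000)
noncomputable def ge : Net := [hi 8 0 ge_0, hi 8 1 ge_1, hi 8 2 ge_2, hi 8 3 ge_3, hi 8 4 ge_4, hi 8 5 ge_5, hi 8 6 ge_6, lo 8 7 ge_7, lo 8 6 ge_6, lo 8 5 ge_5, lo 8 4 ge_4, lo 8 3 ge_3, lo 8 2 ge_2, lo 8 1 ge_1, lo 8 0 ge_0]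
theorem ge_ok : netOk 216 ge = true := by decide +kernel

noncomputable def gh_0 : ℕ := (nat_lit 0x2fcf3e8c233083c3323c0c3c8f0030c2a0b8c80802883ffccc2030)
noncomputable def gh_1 : ℕ := (nat_lit 0x55550500a5aa405e54808050f5540d00a00050a500058088805e0)
noncomputable def gh_2 : ℕ := (nat_lit 0x44d5ffc800fd6610000000dcfe1100000011440044002200000080)
noncomputable def gh_3 : ℕ := (nat_lit 0xc3c08080191908080404eeec3030808020209494434300000400)
noncomputable def gh_4 : ℕ := (nat_lit 0x4e000ac89ec89620890089e28c4280d042c0006840480000000000)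
noncomputable def gh_5 : ℕ := (nat_lit 0xca2610810a2010000042836400428244d4000b0000000000)
noncomputable def gh_6 : ℕ := (nat_lit 0x19408000000000001000022c0e4d40c000000028004000c000000)
noncomputable def gh_7 : ℕ := (nat_lit 0xb420002b004000c000000)
noncomputable def gh : Net := [hi 8 0 gh_0, hi 8 1 gh_1, hi 8 2 gh_2, hi 8 3 gh_3, hi 8 4 gh_4, hi 8 5 gh_5, hi 8 6 gh_6, lo 8 7 gh_7, lo 8 6 gh_6, lo 8 5 gh_5, lo 8 4 gh_4, lo 8 3 gh_3, lo 8 2 gh_2, lo 8 1 gh_1, lo 8 0 gh_0]
theorem gh_ok : netOk 216 gh = true := by decide +kernel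

noncomputable def gi_0 : ℕ := (nat_lit 0xb3330823c3cefb0cb0b2383f0cccbc0c083030f300302ce080c280)
noncomputable def gi_1 : ℕ := (nat_lit 0xeff50fa85a500f8a50a00af00050d0d0005a0a5aff00400088008)
noncomputable def gi_2 : ℕ := (nat_lit 0x203322bb00113355802200ee00002200112291c488808044000000)
noncomputable def gi_3 : ℕ := (nat_lit 0xbe1ec0c0d2c2a1a14040c0400606000021200f0b000004040000)
noncomputable def gi_4 : ℕ := (nat_lit 0xc000433e033607102710229502050402040203002000000040000)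
noncomputable def gi_5 : ℕ := (nat_lit 0x417153014151000000306641002040010b00400000000000)
noncomputable def gi_6 : ℕ := (nat_lit 0xc602120000000000c2020022268200750100002206820075000000)
noncomputable def gi_7 : ℕ := (nat_lit 0xc252016217820075000000)
noncomputable def gi : Net := [hi 8 0 gi_0, hi 8 1 gi_1, hi 8 2 gi_2, hi 8 3 gi_3, hi 8 4 gi_4, hi 8 5 gi_5, hi 8 6 gi_6, lo 8 7 gi_7, lo 8 6 gi_6, lo 8 5 gi_5, lo 8 4 gi_4, lo 8 3 gi_3, lo 8 2 gi_2, lo 8 1 gi_1, lo 8 0 gi_0]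
theorem gi_ok : netOk 216 gi = true := by decide +kernel

noncomputable def gx_0 : ℕ := (nat_lit 0xf0230230ecc38a89220f2c8c83f308c8c33323c0b0c0f038f08c02)
noncomputable def gx_1 : ℕ := (nat_lit 0xa5a05f0af8f4ac0a05aa000faf0f0000d0f5af0000800040a00800)
noncomputable def gx_2 : ℕ := (nat_lit 0xfd998ab96622420066aa555599fd008800a2008833116400800000)
noncomputable def gx_3 : ℕ := (nat_lit 0xc5c5b6a6ca4a5151de5ac2c293134a4a29290202858500000000)
noncomputable def gx_4 : ℕ := (nat_lit 0x80022c620c620180318038c0484043b4c114ce801e00100000000)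
noncomputable def gx_5 : ℕ := (nat_lit 0xcecc6a40eac42340560009400600088233340000021000)
noncomputable def gx_6 : ℕ := (nat_lit 0xd28c2300000000000000024526d21c510200600022420051000000)
noncomputable def gx_7 : ℕ := (nat_lit 0x15102002a420051000000)
noncomputable def gx : Net := [hi 8 0 gx_0, hi 8 1 gx_1, hi 8 2 gx_2, hi 8 3 gx_3, hi 8 4 gx_4, hi 8 5 gx_5, hi 8 6 gx_6, lo 8 7 gx_7, lo 8 6 gx_6, lo 8 5 gx_5, lo 8 4 gx_4, lo 8 3 gx_3, lo 8 2 gx_2, lo 8 1 gx_1, lo 8 0 gx_0]
theorem gx_ok : netOk 216 gx = true := by decide +kernel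

noncomputable def nets : List Net := [[], [], [], gd, ge, [], [], gh, gi, [], [], [], [], gx]

/-- The action on bit sets. -/
noncomputable def ap : ℕ → ℕ → ℕ := apN nets

/-- The generators. -/
noncomputable def π : ℕ → Equiv.Perm (Fin 216) := genN 216 nets

theorem act : Act 216 ap π := act_nets (by
  intro N hN
  simp only [nets, List.mem_cons, List.not_mem_nil, or_false] at hN
  rcases hN with rfl | rfl | rfl | rfl | rfl | rfl | rfl | rfl | rfl | rfl | rfl | rfl | rfl | rfl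
  exacts [rfl, rfl, rfl, gd_ok, ge_ok, rfl, rfl, gh_ok, gi_ok, rfl, rfl, rfl, rfl, gx_ok])

end Cfsg.Agent.H41.NB
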