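import Mathlib

/-!
# Relations for the tower `U₆(2) < Fi₂₂ < Fi₂₃ < Fi₂₄`

Letters: `a b c d e f g h i j k l` are `0, …, 11` (the nodes of the diagram `Y₅₄₂`), `12` is `ω = (b c d e f g h)⁹`, `13` is a
further transposition `x`.
-/

set_option autoImplicit false

namespace Cfsg.Agent.H41

/-- Relations. -/
def RA : List (List ℕ × List ℕ) := [([6, 6], []),
  ([12, 12], []),
  ([12, 6], [6, 12]),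
  ([11, 11], []),
  ([11, 6], [6, 11]),
  ([11, 12], [12, 11]),
  ([4, 4], []),
  ([4, 6], [6, 4]),
  ([4, 12], [12, 4]),
  ([4, 11], [11, 4]),
  ([3, 3], []),
  ([3, 6], [6, 3]),
  ([3, 12], [12, 3]),
  ([3, 11], [11, 3]),
  ([3, 4, 3], [4, 3, 4]),
  ([7, 7], []),
  ([7, 6], [6, 7]),
  ([7, 12], [12, 7]),
  ([7, 11], [11, 7]),
  ([7, 4], [4, 7]),
  ([7, 3, 7], [3, 7, 3]),
  ([8, 8], []),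
  ([8, 6], [6, 8]),
  ([8, 12], [12, 8]),
  ([8, 11], [11, 8]),
  ([8, 4], [4, 8]),
  ([8, 3], [3, 8]),
  ([8, 7, 8], [7, 8, 7])]

/-- Relations. -/
def RB : List (List ℕ × List ℕ) := RA ++ [([13, 13], []),
  ([13, 6], [6, 13]),
  ([13, 12], [12, 13]),
  ([13, 11], [11, 13]),
  ([13, 4], [4, 13]),
  ([13, 3, 13], [3, 13, 3]),
  ([13, 7], [7, 13]),
  ([13, 8, 13], [8, 13, 8]),
  ([3, 7, 8, 13, 8, 7, 3, 7, 8], [7, 8, 13, 8, 7, 3, 7, 8, 13]),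
  ([4, 3, 7, 8, 13, 4, 3, 7, 8, 13, 4, 3, 7, 8, 13, 4, 3, 7, 8, 13, 4, 3, 7, 8], [11, 12, 6, 13, 8, 7, 3, 4, 13, 8, 7, 3, 4, 13, 8, 7, 3, 4, 13, 8, 7, 3, 4, 13])]

/-- Relations. -/
def RC : List (List ℕ × List ℕ) := RB ++ [([2, 2], []),
  ([2, 13], [13, 2]),
  ([2, 6], [6, 2]),
  ([2, 12], [12, 2]),
  ([2, 11], [11, 2]),
  ([2, 4], [4, 2]),
  ([2, 3, 2], [3, 2, 3]),
  ([2, 7], [7, 2]),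
  ([2, 8], [8, 2]),
  ([0, 0], []),
  ([0, 13], [13, 0]),
  ([0, 6], [6, 0]),
  ([0, 12], [12, 0]),
  ([0, 11], [11, 0]),
  ([0, 4], [4, 0]),
  ([0, 3], [3, 0]),
  ([0, 7], [7, 0]),
  ([0, 8], [8, 0]),
  ([0, 2], [2, 0]),
  ([2, 3, 4, 7, 13, 3, 13, 7, 4, 3], [3, 7, 4, 3, 13, 3, 7, 4, 3, 2]),
  ([2, 3, 7, 13, 0, 3, 8, 13, 2, 7, 8, 3, 13, 7], [11, 12, 8, 3, 13, 7, 8, 3, 13, 7, 8, 3, 2, 3]),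
  ([2, 3, 4, 7, 8, 3, 13, 2, 3, 7, 4, 3, 0, 13, 8, 7, 3, 2], [12, 6, 13, 3, 7, 8, 4, 3, 13, 8, 3, 7, 4, 3, 13, 8, 7, 3]),
  ([2, 3, 4, 13, 3, 8, 2, 7, 3, 13, 8, 7, 4, 3, 2, 13, 8, 3, 13], [12, 6, 13, 8, 7, 3, 13, 8, 7, 4, 3, 13, 8, 7, 4, 3, 2, 3, 7])]

/-- Relations. -/
def R21 : List (List ℕ × List ℕ) := RC ++ [([1, 1], []),
  ([1, 2, 1], [2, 1, 2]),
  ([1, 0, 1], [0, 1, 0]),
  ([1, 13], [13, 1]),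
  ([1, 6], [6, 1]),
  ([1, 12], [12, 1]),
  ([1, 11], [11, 1]),
  ([1, 4], [4, 1]),
  ([1, 3], [3, 1]),
  ([1, 7], [7, 1]),
  ([1, 8], [8, 1]),
  ([1, 2, 3, 13, 8, 0, 1, 2, 3, 7, 13, 3, 2, 1, 0, 8, 7, 3, 2], [11, 12, 7, 3, 13, 8, 7, 3, 2, 0, 3, 13, 8, 7, 3, 13, 8, 3, 1])]

/-- Relations. -/
def X22 : List (List ℕ × List ℕ) := [([5, 5], []),
  ([5, 1], [1, 5]),
  ([5, 0], [0, 5]),
  ([5, 2], [2, 5]),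
  ([5, 13], [13, 5]),
  ([5, 4, 5], [4, 5, 4]),
  ([5, 3], [3, 5]),
  ([5, 7], [7, 5]),
  ([5, 8], [8, 5]),
  ([5, 6, 5], [6, 5, 6]),
  ([5, 12], [12, 5]),
  ([5, 11], [11, 5]),
  ([0, 5, 4, 6, 5], [5, 4, 6, 5, 0]),
  ([1, 5, 4, 6, 5], [5, 4, 6, 5, 1]),
  ([2, 5, 4, 6, 5], [5, 4, 6, 5, 2]),
  ([7, 5, 4, 6, 5], [5, 4, 6, 5, 7]),
  ([8, 5, 4, 6, 5], [5, 4, 6, 5, 8]),
  ([13, 5, 4, 6, 5], [5, 4, 6, 5, 13]),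
  ([12, 5, 4, 6, 5], [5, 4, 6, 5, 12]),
  ([11, 5, 4, 6, 5], [5, 4, 6, 5, 11]),
  ([6, 5, 4, 6, 5], [5, 4, 6, 5, 4]),
  ([4, 5, 4, 6, 5], [5, 4, 6, 5, 6]),
  ([3, 13, 7, 3, 2, 3, 7, 13, 3, 5, 4, 6, 5], [5, 4, 6, 5, 3, 13, 7, 3, 2, 3, 7, 13, 3]),
  ([3, 7, 4, 3, 2, 3, 4, 7, 3, 5, 4, 6, 5], [5, 4, 6, 5, 1, 2, 3, 13, 4, 3, 2, 1, 0, 1, 2, 3, 4, 13, 3, 2, 1]),
  ([5, 1, 0, 2, 1, 3, 2, 4, 3, 5, 4, 6, 5], [1, 0, 2, 1, 3, 2, 4, 3, 5, 4, 6, 5, 3])]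

/-- Relations. -/
def R22 : List (List ℕ × List ℕ) := R21 ++ X22

/-- Relations. -/
def X23 : List (List ℕ × List ℕ) := [([9, 9], []),
  ([9, 5], [5, 9]),
  ([9, 1], [1, 9]),
  ([9, 0], [0, 9]),
  ([9, 2], [2, 9]),
  ([9, 13, 9], [13, 9, 13]),
  ([9, 4], [4, 9]),
  ([9, 3], [3, 9]),
  ([9, 7], [7, 9]),
  ([9, 8], [8, 9]),
  ([9, 6, 9], [6, 9, 6]),
  ([9, 12, 9], [12, 9, 12]),
  ([9, 11], [11, 9]),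
  ([0, 9, 6, 12, 9], [9, 6, 12, 9, 0]),
  ([1, 9, 6, 12, 9], [9, 6, 12, 9, 1]),
  ([2, 9, 6, 12, 9], [9, 6, 12, 9, 2]),
  ([3, 9, 6, 12, 9], [9, 6, 12, 9, 3]),
  ([4, 9, 6, 12, 9], [9, 6, 12, 9, 4]),
  ([7, 9, 6, 12, 9], [9, 6, 12, 9, 7]),
  ([8, 9, 6, 12, 9], [9, 6, 12, 9, 8]),
  ([11, 9, 6, 12, 9], [9, 6, 12, 9, 11]),
  ([12, 9, 6, 12, 9], [9, 6, 12, 9, 6]),
  ([6, 9, 6, 12, 9], [9, 6, 12, 9, 12]),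
  ([13, 9, 6, 12, 9], [9, 6, 12, 9, 3, 13, 7, 4, 3, 4, 7, 13, 3]),
  ([9, 1, 0, 2, 1, 3, 2, 4, 3, 5, 4, 6, 5, 9, 6, 12, 9], [1, 0, 2, 1, 3, 2, 4, 3, 5, 4, 6, 5, 9, 6, 12, 9, 5])]

/-- Relations. -/
def R23 : List (List ℕ × List ℕ) := R22 ++ X23

/-- Relations. -/
def X24 : List (List ℕ × List ℕ) := [([10, 10], []),
  ([10, 9], [9, 10]),
  ([10, 5], [5, 10]),
  ([10, 1], [1, 10]),
  ([10, 0, 10], [0, 10, 0]),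
  ([10, 2], [2, 10]),
  ([10, 13, 10], [13, 10, 13]),
  ([10, 4], [4, 10]),
  ([10, 3], [3, 10]),
  ([10, 7], [7, 10]),
  ([10, 8], [8, 10]),
  ([10, 6], [6, 10]),
  ([10, 12], [12, 10]),
  ([10, 11, 10], [11, 10, 11]),
  ([10, 13, 9, 8, 13, 3, 7, 8, 13, 4, 3, 2, 3, 4, 13, 8, 7, 3, 13, 8, 9, 13], [13, 9, 8, 13, 3, 7, 8, 13, 4, 3, 2, 3, 4, 13, 8, 7, 3, 13, 8, 9, 13, 10]),
  ([2, 10, 0, 11, 10], [10, 0, 11, 10, 2]),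
  ([3, 10, 0, 11, 10], [10, 0, 11, 10, 3]),
  ([4, 10, 0, 11, 10], [10, 0, 11, 10, 4]),
  ([5, 10, 0, 11, 10], [10, 0, 11, 10, 5]),
  ([6, 10, 0, 11, 10], [10, 0, 11, 10, 6]),
  ([7, 10, 0, 11, 10], [10, 0, 11, 10, 7]),
  ([8, 10, 0, 11, 10], [10, 0, 11, 10, 8]),
  ([9, 10, 0, 11, 10], [10, 0, 11, 10, 9]),
  ([12, 10, 0, 11, 10], [10, 0, 11, 10, 12]),
  ([11, 10, 0, 11, 10], [10, 0, 11, 10, 0]),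
  ([0, 10, 0, 11, 10], [10, 0, 11, 10, 11]),
  ([13, 10, 0, 11, 10], [10, 0, 11, 10, 3, 13, 7, 3, 2, 3, 7, 13, 3]),
  ([10, 9, 12, 6, 9, 5, 6, 4, 5, 3, 4, 2, 3, 1, 2, 0, 1, 10, 0, 11, 10], [9, 12, 6, 9, 5, 6, 4, 5, 3, 4, 2, 3, 1, 2, 0, 1, 10, 0, 11, 10, 1])]

/-- Relations. -/
def R24 : List (List ℕ × List ℕ) := R23 ++ X24

/-- Letters. -/
def gsA : List ℕ := [4, 3, 7, 8, 6, 12, 11]

/-- Letters. -/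
def gsB : List ℕ := [13, 4, 3, 7, 8, 6, 12, 11]

/-- Letters. -/
def es20 : List ℕ := [0, 2, 13, 4, 3, 7, 8, 6, 12, 11]

/-- Letters. -/
abbrev all21 : List ℕ := 1 :: es20

/-- Letters. -/
abbrev all22 : List ℕ := 5 :: all21

/-- Letters. -/
abbrev all23 : List ℕ := 9 :: all22

/-- Letters. -/
abbrev all24 : List ℕ := 10 :: all23

end Cfsg.Agent.H41
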