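import Mathlib
import Cfsg.Agent.H41.Pack
import Cfsg.Agent.H41.Rel
import Cfsg.Agent.H41.N24

/-!
# Level 24: relations, part 0
-/

set_option autoImplicit false
set_option maxRecDepth 1000000
set_option Elab.async false

namespace Cfsg.Agent.H41.L24

open Cfsg.Agent.H42

/-- Relations. -/
def C0 : List (List ℕ × List ℕ) := [([6, 6], []),
  ([12, 12], []),
  ([12, 6], [6, 12]),
  ([11, 11], []),
  ([11, 6], [6, 11]),
  ([11, 12], [12, 11]),
  ([4, 4], []),
  ([4, 6], [6, 4]),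
  ([4, 12], [12, 4]),
  ([4, 11], [11, 4]),
  ([3, 3], []),
  ([3, 6], [6, 3]),
  ([3, 12], [12, 3]),
  ([3, 11], [11, 3]),
  ([3, 4, 3], [4, 3, 4]),
  ([7, 7], []),
  ([7, 6], [6, 7]),
  ([7, 12], [12, 7]),
  ([7, 11], [11, 7]),
  ([7, 4], [4, 7]),
  ([7, 3, 7], [3, 7, 3]),
  ([8, 8], []),
  ([8, 6], [6, 8]),
  ([8, 12], [12, 8]),
  ([8, 11], [11, 8]),
  ([8, 4], [4, 8]),
  ([8, 3], [3, 8]),
  ([8, 7, 8], [7, 8, 7]),
  ([13, 13], []),
  ([13, 6], [6, 13]),
  ([13, 12], [12, 13]),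
  ([13, 11], [11, 13]),
  ([13, 4], [4, 13]),
  ([13, 3, 13], [3, 13, 3]),
  ([13, 7], [7, 13]),
  ([13, 8, 13], [8, 13, 8]),
  ([3, 7, 8, 13, 8, 7, 3, 7, 8], [7, 8, 13, 8, 7, 3, 7, 8, 13])]

theorem s0_0 : relB N24.ap 306936 19 C0 0 = true := by decide +kernel
theorem s0_1 : relB N24.ap 306936 19 C0 1 = true := by decide +kernel
theorem s0_2 : relB N24.ap 306936 19 C0 2 = true := by decide +kernel
theorem s0_3 : relB N24.ap 306936 19 C0 3 = true := by decide +kernel
theorem s0_4 : relB N24.ap 306936 19 C0 4 = true := by decide +kernel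
theorem s0_5 : relB N24.ap 306936 19 C0 5 = true := by decide +kernel
theorem s0_6 : relB N24.ap 306936 19 C0 6 = true := by decide +kernel
theorem s0_7 : relB N24.ap 306936 19 C0 7 = true := by decide +kernel
theorem s0_8 : relB N24.ap 306936 19 C0 8 = true := by decide +kernel
theorem s0_9 : relB N24.ap 306936 19 C0 9 = true := by decide +kernel
theorem s0_10 : relB N24.ap 306936 19 C0 10 = true := by decide +kernel
theorem s0_11 : relB N24.ap 306936 19 C0 11 = true := by decide +kernel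
theorem s0_12 : relB N24.ap 306936 19 C0 12 = true := by decide +kernel
theorem s0_13 : relB N24.ap 306936 19 C0 13 = true := by decide +kernel
theorem s0_14 : relB N24.ap 306936 19 C0 14 = true := by decide +kernel
theorem s0_15 : relB N24.ap 306936 19 C0 15 = true := by decide +kernel
theorem s0_16 : relB N24.ap 306936 19 C0 16 = true := by decide +kernel
theorem s0_17 : relB N24.ap 306936 19 C0 17 = true := by decide +kernel
theorem s0_18 : relB N24.ap 306936 19 C0 18 = true := by decide +kernel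

theorem sat0 : Sat N24.π C0 := N24.act.sat (K := 19) (by norm_num) fun j hj => by
  interval_cases j
  exacts [s0_0, s0_1, s0_2, s0_3, s0_4, s0_5, s0_6, s0_7, s0_8, s0_9, s0_10, s0_11, s0_12, s0_13, s0_14, s0_15, s0_16, s0_17, s0_18]

/-- Relations. -/
def C1 : List (List ℕ × List ℕ) := [([4, 3, 7, 8, 13, 4, 3, 7, 8, 13, 4, 3, 7, 8, 13, 4, 3, 7, 8, 13, 4, 3, 7, 8], [11, 12, 6, 13, 8, 7, 3, 4, 13, 8, 7, 3, 4, 13, 8, 7, 3, 4, 13, 8, 7, 3, 4, 13]),
  ([2, 2], []),
  ([2, 13], [13, 2]),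
  ([2, 6], [6, 2]),
  ([2, 12], [12, 2]),
  ([2, 11], [11, 2]),
  ([2, 4], [4, 2]),
  ([2, 3, 2], [3, 2, 3]),
  ([2, 7], [7, 2]),
  ([2, 8], [8, 2]),
  ([0, 0], []),
  ([0, 13], [13, 0]),
  ([0, 6], [6, 0]),
  ([0, 12], [12, 0]),
  ([0, 11], [11, 0]),
  ([0, 4], [4, 0]),
  ([0, 3], [3, 0]),
  ([0, 7], [7, 0]),
  ([0, 8], [8, 0]),
  ([0, 2], [2, 0]),
  ([2, 3, 4, 7, 13, 3, 13, 7, 4, 3], [3, 7, 4, 3, 13, 3, 7, 4, 3, 2]),
  ([2, 3, 7, 13, 0, 3, 8, 13, 2, 7, 8, 3, 13, 7], [11, 12, 8, 3, 13, 7, 8, 3, 13, 7, 8, 3, 2, 3])]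

theorem s1_0 : relB N24.ap 306936 19 C1 0 = true := by decide +kernel
theorem s1_1 : relB N24.ap 306936 19 C1 1 = true := by decide +kernel
theorem s1_2 : relB N24.ap 306936 19 C1 2 = true := by decide +kernel
theorem s1_3 : relB N24.ap 306936 19 C1 3 = true := by decide +kernel
theorem s1_4 : relB N24.ap 306936 19 C1 4 = true := by decide +kernel
theorem s1_5 : relB N24.ap 306936 19 C1 5 = true := by decide +kernel
theorem s1_6 : relB N24.ap 306936 19 C1 6 = true := by decide +kernel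
theorem s1_7 : relB N24.ap 306936 19 C1 7 = true := by decide +kernel
theorem s1_8 : relB N24.ap 306936 19 C1 8 = true := by decide +kernel
theorem s1_9 : relB N24.ap 306936 19 C1 9 = true := by decide +kernel
theorem s1_10 : relB N24.ap 306936 19 C1 10 = true := by decide +kernel
theorem s1_11 : relB N24.ap 306936 19 C1 11 = true := by decide +kernel
theorem s1_12 : relB N24.ap 306936 19 C1 12 = true := by decide +kernel
theorem s1_13 : relB N24.ap 306936 19 C1 13 = true := by decide +kernel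
theorem s1_14 : relB N24.ap 306936 19 C1 14 = true := by decide +kernel
theorem s1_15 : relB N24.ap 306936 19 C1 15 = true := by decide +kernel
theorem s1_16 : relB N24.ap 306936 19 C1 16 = true := by decide +kernel
theorem s1_17 : relB N24.ap 306936 19 C1 17 = true := by decide +kernel
theorem s1_18 : relB N24.ap 306936 19 C1 18 = true := by decide +kernel

theorem sat1 : Sat N24.π C1 := N24.act.sat (K := 19) (by norm_num) fun j hj => by
  interval_cases j
  exacts [s1_0, s1_1, s1_2, s1_3, s1_4, s1_5, s1_6, s1_7, s1_8, s1_9, s1_10, s1_11, s1_12, s1_13, s1_14, s1_15, s1_16, s1_17, s1_18]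

/-- Relations. -/
def C2 : List (List ℕ × List ℕ) := [([2, 3, 4, 7, 8, 3, 13, 2, 3, 7, 4, 3, 0, 13, 8, 7, 3, 2], [12, 6, 13, 3, 7, 8, 4, 3, 13, 8, 3, 7, 4, 3, 13, 8, 7, 3]),
  ([2, 3, 4, 13, 3, 8, 2, 7, 3, 13, 8, 7, 4, 3, 2, 13, 8, 3, 13], [12, 6, 13, 8, 7, 3, 13, 8, 7, 4, 3, 13, 8, 7, 4, 3, 2, 3, 7]),
  ([1, 1], []),
  ([1, 2, 1], [2, 1, 2]),
  ([1, 0, 1], [0, 1, 0]),
  ([1, 13], [13, 1]),
  ([1, 6], [6, 1]),
  ([1, 12], [12, 1]),
  ([1, 11], [11, 1]),
  ([1, 4], [4, 1]),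
  ([1, 3], [3, 1]),
  ([1, 7], [7, 1]),
  ([1, 8], [8, 1]),
  ([1, 2, 3, 13, 8, 0, 1, 2, 3, 7, 13, 3, 2, 1, 0, 8, 7, 3, 2], [11, 12, 7, 3, 13, 8, 7, 3, 2, 0, 3, 13, 8, 7, 3, 13, 8, 3, 1]),
  ([5, 5], []),
  ([5, 1], [1, 5]),
  ([5, 0], [0, 5]),
  ([5, 2], [2, 5]),
  ([5, 13], [13, 5]),
  ([5, 4, 5], [4, 5, 4]),
  ([5, 3], [3, 5]),
  ([5, 7], [7, 5]),
  ([5, 8], [8, 5]),
  ([5, 6, 5], [6, 5, 6])]

theorem s2_0 : relB N24.ap 306936 19 C2 0 = true := by decide +kernel
theorem s2_1 : relB N24.ap 306936 19 C2 1 = true := by decide +kernel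
theorem s2_2 : relB N24.ap 306936 19 C2 2 = true := by decide +kernel
theorem s2_3 : relB N24.ap 306936 19 C2 3 = true := by decide +kernel
theorem s2_4 : relB N24.ap 306936 19 C2 4 = true := by decide +kernel
theorem s2_5 : relB N24.ap 306936 19 C2 5 = true := by decide +kernel
theorem s2_6 : relB N24.ap 306936 19 C2 6 = true := by decide +kernel
theorem s2_7 : relB N24.ap 306936 19 C2 7 = true := by decide +kernel
theorem s2_8 : relB N24.ap 306936 19 C2 8 = true := by decide +kernel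
theorem s2_9 : relB N24.ap 306936 19 C2 9 = true := by decide +kernel
theorem s2_10 : relB N24.ap 306936 19 C2 10 = true := by decide +kernel
theorem s2_11 : relB N24.ap 306936 19 C2 11 = true := by decide +kernel
theorem s2_12 : relB N24.ap 306936 19 C2 12 = true := by decide +kernel
theorem s2_13 : relB N24.ap 306936 19 C2 13 = true := by decide +kernel
theorem s2_14 : relB N24.ap 306936 19 C2 14 = true := by decide +kernel
theorem s2_15 : relB N24.ap 306936 19 C2 15 = true := by decide +kernel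
theorem s2_16 : relB N24.ap 306936 19 C2 16 = true := by decide +kernel
theorem s2_17 : relB N24.ap 306936 19 C2 17 = true := by decide +kernel
theorem s2_18 : relB N24.ap 306936 19 C2 18 = true := by decide +kernel

theorem sat2 : Sat N24.π C2 := N24.act.sat (K := 19) (by norm_num) fun j hj => by
  interval_cases j
  exacts [s2_0, s2_1, s2_2, s2_3, s2_4, s2_5, s2_6, s2_7, s2_8, s2_9, s2_10, s2_11, s2_12, s2_13, s2_14, s2_15, s2_16, s2_17, s2_18]

end Cfsg.Agent.H41.L24
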