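import Mathlib
import Cfsg.Agent.H41.Pack
import Cfsg.Agent.H41.Rel
import Cfsg.Agent.H41.N24

/-!
# Level 24: relations, part 1
-/

set_option autoImplicit false
set_option maxRecDepth 1000000
set_option Elab.async false

namespace Cfsg.Agent.H41.L24

open Cfsg.Agent.H42

/-- Relations. -/
def C3 : List (List ℕ × List ℕ) := [([5, 12], [12, 5]),
  ([5, 11], [11, 5]),
  ([0, 5, 4, 6, 5], [5, 4, 6, 5, 0]),
  ([1, 5, 4, 6, 5], [5, 4, 6, 5, 1]),
  ([2, 5, 4, 6, 5], [5, 4, 6, 5, 2]),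
  ([7, 5, 4, 6, 5], [5, 4, 6, 5, 7]),
  ([8, 5, 4, 6, 5], [5, 4, 6, 5, 8]),
  ([13, 5, 4, 6, 5], [5, 4, 6, 5, 13]),
  ([12, 5, 4, 6, 5], [5, 4, 6, 5, 12]),
  ([11, 5, 4, 6, 5], [5, 4, 6, 5, 11]),
  ([6, 5, 4, 6, 5], [5, 4, 6, 5, 4]),
  ([4, 5, 4, 6, 5], [5, 4, 6, 5, 6]),
  ([3, 13, 7, 3, 2, 3, 7, 13, 3, 5, 4, 6, 5], [5, 4, 6, 5, 3, 13, 7, 3, 2, 3, 7, 13, 3]),
  ([3, 7, 4, 3, 2, 3, 4, 7, 3, 5, 4, 6, 5], [5, 4, 6, 5, 1, 2, 3, 13, 4, 3, 2, 1, 0, 1, 2, 3, 4, 13, 3, 2, 1]),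
  ([5, 1, 0, 2, 1, 3, 2, 4, 3, 5, 4, 6, 5], [1, 0, 2, 1, 3, 2, 4, 3, 5, 4, 6, 5, 3]),
  ([9, 9], []),
  ([9, 5], [5, 9])]

theorem s3_0 : relB N24.ap 306936 19 C3 0 = true := by decide +kernel
theorem s3_1 : relB N24.ap 306936 19 C3 1 = true := by decide +kernel
theorem s3_2 : relB N24.ap 306936 19 C3 2 = true := by decide +kernel
theorem s3_3 : relB N24.ap 306936 19 C3 3 = true := by decide +kernel
theorem s3_4 : relB N24.ap 306936 19 C3 4 = true := by decide +kernel
theorem s3_5 : relB N24.ap 306936 19 C3 5 = true := by decide +kernel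
theorem s3_6 : relB N24.ap 306936 19 C3 6 = true := by decide +kernel
theorem s3_7 : relB N24.ap 306936 19 C3 7 = true := by decide +kernel
theorem s3_8 : relB N24.ap 306936 19 C3 8 = true := by decide +kernel
theorem s3_9 : relB N24.ap 306936 19 C3 9 = true := by decide +kernel
theorem s3_10 : relB N24.ap 306936 19 C3 10 = true := by decide +kernel
theorem s3_11 : relB N24.ap 306936 19 C3 11 = true := by decide +kernel
theorem s3_12 : relB N24.ap 306936 19 C3 12 = true := by decide +kernel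
theorem s3_13 : relB N24.ap 306936 19 C3 13 = true := by decide +kernel
theorem s3_14 : relB N24.ap 306936 19 C3 14 = true := by decide +kernel
theorem s3_15 : relB N24.ap 306936 19 C3 15 = true := by decide +kernel
theorem s3_16 : relB N24.ap 306936 19 C3 16 = true := by decide +kernel
theorem s3_17 : relB N24.ap 306936 19 C3 17 = true := by decide +kernel
theorem s3_18 : relB N24.ap 306936 19 C3 18 = true := by decide +kernel

theorem sat3 : Sat N24.π C3 := N24.act.sat (K := 19) (by norm_num) fun j hj => by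
  interval_cases j
  exacts [s3_0, s3_1, s3_2, s3_3, s3_4, s3_5, s3_6, s3_7, s3_8, s3_9, s3_10, s3_11, s3_12, s3_13, s3_14, s3_15, s3_16, s3_17, s3_18]

/-- Relations. -/
def C4 : List (List ℕ × List ℕ) := [([9, 1], [1, 9]),
  ([9, 0], [0, 9]),
  ([9, 2], [2, 9]),
  ([9, 13, 9], [13, 9, 13]),
  ([9, 4], [4, 9]),
  ([9, 3], [3, 9]),
  ([9, 7], [7, 9]),
  ([9, 8], [8, 9]),
  ([9, 6, 9], [6, 9, 6]),
  ([9, 12, 9], [12, 9, 12]),
  ([9, 11], [11, 9]),
  ([0, 9, 6, 12, 9], [9, 6, 12, 9, 0]),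
  ([1, 9, 6, 12, 9], [9, 6, 12, 9, 1]),
  ([2, 9, 6, 12, 9], [9, 6, 12, 9, 2]),
  ([3, 9, 6, 12, 9], [9, 6, 12, 9, 3]),
  ([4, 9, 6, 12, 9], [9, 6, 12, 9, 4]),
  ([7, 9, 6, 12, 9], [9, 6, 12, 9, 7]),
  ([8, 9, 6, 12, 9], [9, 6, 12, 9, 8]),
  ([11, 9, 6, 12, 9], [9, 6, 12, 9, 11]),
  ([12, 9, 6, 12, 9], [9, 6, 12, 9, 6]),
  ([6, 9, 6, 12, 9], [9, 6, 12, 9, 12]),
  ([13, 9, 6, 12, 9], [9, 6, 12, 9, 3, 13, 7, 4, 3, 4, 7, 13, 3])]

theorem s4_0 : relB N24.ap 306936 19 C4 0 = true := by decide +kernel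
theorem s4_1 : relB N24.ap 306936 19 C4 1 = true := by decide +kernel
theorem s4_2 : relB N24.ap 306936 19 C4 2 = true := by decide +kernel
theorem s4_3 : relB N24.ap 306936 19 C4 3 = true := by decide +kernel
theorem s4_4 : relB N24.ap 306936 19 C4 4 = true := by decide +kernel
theorem s4_5 : relB N24.ap 306936 19 C4 5 = true := by decide +kernel
theorem s4_6 : relB N24.ap 306936 19 C4 6 = true := by decide +kernel
theorem s4_7 : relB N24.ap 306936 19 C4 7 = true := by decide +kernel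
theorem s4_8 : relB N24.ap 306936 19 C4 8 = true := by decide +kernel
theorem s4_9 : relB N24.ap 306936 19 C4 9 = true := by decide +kernel
theorem s4_10 : relB N24.ap 306936 19 C4 10 = true := by decide +kernel
theorem s4_11 : relB N24.ap 306936 19 C4 11 = true := by decide +kernel
theorem s4_12 : relB N24.ap 306936 19 C4 12 = true := by decide +kernel
theorem s4_13 : relB N24.ap 306936 19 C4 13 = true := by decide +kernel
theorem s4_14 : relB N24.ap 306936 19 C4 14 = true := by decide +kernel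
theorem s4_15 : relB N24.ap 306936 19 C4 15 = true := by decide +kernel
theorem s4_16 : relB N24.ap 306936 19 C4 16 = true := by decide +kernel
theorem s4_17 : relB N24.ap 306936 19 C4 17 = true := by decide +kernel
theorem s4_18 : relB N24.ap 306936 19 C4 18 = true := by decide +kernel

theorem sat4 : Sat N24.π C4 := N24.act.sat (K := 19) (by norm_num) fun j hj => by
  interval_cases j
  exacts [s4_0, s4_1, s4_2, s4_3, s4_4, s4_5, s4_6, s4_7, s4_8, s4_9, s4_10, s4_11, s4_12, s4_13, s4_14, s4_15, s4_16, s4_17, s4_18]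

/-- Relations. -/
def C5 : List (List ℕ × List ℕ) := [([9, 1, 0, 2, 1, 3, 2, 4, 3, 5, 4, 6, 5, 9, 6, 12, 9], [1, 0, 2, 1, 3, 2, 4, 3, 5, 4, 6, 5, 9, 6, 12, 9, 5]),
  ([10, 10], []),
  ([10, 9], [9, 10]),
  ([10, 5], [5, 10]),
  ([10, 1], [1, 10]),
  ([10, 0, 10], [0, 10, 0]),
  ([10, 2], [2, 10]),
  ([10, 13, 10], [13, 10, 13]),
  ([10, 4], [4, 10]),
  ([10, 3], [3, 10]),
  ([10, 7], [7, 10]),
  ([10, 8], [8, 10]),
  ([10, 6], [6, 10]),
  ([10, 12], [12, 10]),
  ([10, 11, 10], [11, 10, 11]),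
  ([10, 13, 9, 8, 13, 3, 7, 8, 13, 4, 3, 2, 3, 4, 13, 8, 7, 3, 13, 8, 9, 13], [13, 9, 8, 13, 3, 7, 8, 13, 4, 3, 2, 3, 4, 13, 8, 7, 3, 13, 8, 9, 13, 10]),
  ([2, 10, 0, 11, 10], [10, 0, 11, 10, 2]),
  ([3, 10, 0, 11, 10], [10, 0, 11, 10, 3]),
  ([4, 10, 0, 11, 10], [10, 0, 11, 10, 4]),
  ([5, 10, 0, 11, 10], [10, 0, 11, 10, 5]),
  ([6, 10, 0, 11, 10], [10, 0, 11, 10, 6]),
  ([7, 10, 0, 11, 10], [10, 0, 11, 10, 7])]

theorem s5_0 : relB N24.ap 306936 19 C5 0 = true := by decide +kernel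
theorem s5_1 : relB N24.ap 306936 19 C5 1 = true := by decide +kernel
theorem s5_2 : relB N24.ap 306936 19 C5 2 = true := by decide +kernel
theorem s5_3 : relB N24.ap 306936 19 C5 3 = true := by decide +kernel
theorem s5_4 : relB N24.ap 306936 19 C5 4 = true := by decide +kernel
theorem s5_5 : relB N24.ap 306936 19 C5 5 = true := by decide +kernel
theorem s5_6 : relB N24.ap 306936 19 C5 6 = true := by decide +kernel
theorem s5_7 : relB N24.ap 306936 19 C5 7 = true := by decide +kernel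
theorem s5_8 : relB N24.ap 306936 19 C5 8 = true := by decide +kernel
theorem s5_9 : relB N24.ap 306936 19 C5 9 = true := by decide +kernel
theorem s5_10 : relB N24.ap 306936 19 C5 10 = true := by decide +kernel
theorem s5_11 : relB N24.ap 306936 19 C5 11 = true := by decide +kernel
theorem s5_12 : relB N24.ap 306936 19 C5 12 = true := by decide +kernel
theorem s5_13 : relB N24.ap 306936 19 C5 13 = true := by decide +kernel
theorem s5_14 : relB N24.ap 306936 19 C5 14 = true := by decide +kernel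
theorem s5_15 : relB N24.ap 306936 19 C5 15 = true := by decide +kernel
theorem s5_16 : relB N24.ap 306936 19 C5 16 = true := by decide +kernel
theorem s5_17 : relB N24.ap 306936 19 C5 17 = true := by decide +kernel
theorem s5_18 : relB N24.ap 306936 19 C5 18 = true := by decide +kernel

theorem sat5 : Sat N24.π C5 := N24.act.sat (K := 19) (by norm_num) fun j hj => by
  interval_cases j
  exacts [s5_0, s5_1, s5_2, s5_3, s5_4, s5_5, s5_6, s5_7, s5_8, s5_9, s5_10, s5_11, s5_12, s5_13, s5_14, s5_15, s5_16, s5_17, s5_18]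

/-- Relations. -/
def C6 : List (List ℕ × List ℕ) := [([8, 10, 0, 11, 10], [10, 0, 11, 10, 8]),
  ([9, 10, 0, 11, 10], [10, 0, 11, 10, 9]),
  ([12, 10, 0, 11, 10], [10, 0, 11, 10, 12]),
  ([11, 10, 0, 11, 10], [10, 0, 11, 10, 0]),
  ([0, 10, 0, 11, 10], [10, 0, 11, 10, 11]),
  ([13, 10, 0, 11, 10], [10, 0, 11, 10, 3, 13, 7, 3, 2, 3, 7, 13, 3]),
  ([10, 9, 12, 6, 9, 5, 6, 4, 5, 3, 4, 2, 3, 1, 2, 0, 1, 10, 0, 11, 10], [9, 12, 6, 9, 5, 6, 4, 5, 3, 4, 2, 3, 1, 2, 0, 1, 10, 0, 11, 10, 1])]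

theorem s6_0 : relB N24.ap 306936 19 C6 0 = true := by decide +kernel
theorem s6_1 : relB N24.ap 306936 19 C6 1 = true := by decide +kernel
theorem s6_2 : relB N24.ap 306936 19 C6 2 = true := by decide +kernel
theorem s6_3 : relB N24.ap 306936 19 C6 3 = true := by decide +kernel
theorem s6_4 : relB N24.ap 306936 19 C6 4 = true := by decide +kernel
theorem s6_5 : relB N24.ap 306936 19 C6 5 = true := by decide +kernel
theorem s6_6 : relB N24.ap 306936 19 C6 6 = true := by decide +kernel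
theorem s6_7 : relB N24.ap 306936 19 C6 7 = true := by decide +kernel
theorem s6_8 : relB N24.ap 306936 19 C6 8 = true := by decide +kernel
theorem s6_9 : relB N24.ap 306936 19 C6 9 = true := by decide +kernel
theorem s6_10 : relB N24.ap 306936 19 C6 10 = true := by decide +kernel
theorem s6_11 : relB N24.ap 306936 19 C6 11 = true := by decide +kernel
theorem s6_12 : relB N24.ap 306936 19 C6 12 = true := by decide +kernel
theorem s6_13 : relB N24.ap 306936 19 C6 13 = true := by decide +kernel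
theorem s6_14 : relB N24.ap 306936 19 C6 14 = true := by decide +kernel
theorem s6_15 : relB N24.ap 306936 19 C6 15 = true := by decide +kernel
theorem s6_16 : relB N24.ap 306936 19 C6 16 = true := by decide +kernel
theorem s6_17 : relB N24.ap 306936 19 C6 17 = true := by decide +kernel
theorem s6_18 : relB N24.ap 306936 19 C6 18 = true := by decide +kernel

theorem sat6 : Sat N24.π C6 := N24.act.sat (K := 19) (by norm_num) fun j hj => by
  interval_cases j
  exacts [s6_0, s6_1, s6_2, s6_3, s6_4, s6_5, s6_6, s6_7, s6_8, s6_9, s6_10, s6_11, s6_12, s6_13, s6_14, s6_15, s6_16, s6_17, s6_18]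

end Cfsg.Agent.H41.L24
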