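import Mathlib
import Cfsg.Agent.H41.Pack
import Cfsg.Agent.H41.Lev2
import Cfsg.Agent.H41.L23
import Cfsg.Agent.H41.M22

/-!
# Level 23: the letters as points, local facts
-/

set_option autoImplicit false
set_option maxRecDepth 1000000

namespace Cfsg.Agent.H41.L23

open Cfsg.Agent.H42

theorem T_w : F.T (pn 31671 12) = N23.π 12 := lev.T_base

theorem T_j : F.T (pn 31671 9) = N23.π 9 :=
  FS.T_of_braid N23.act sat T_w (lev.letter_aut (by decide +kernel)) (by decide +kernel) (by decide +kernel)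
    (by decide +kernel)

theorem T_x : F.T (pn 31671 13) = N23.π 13 :=
  FS.T_of_braid N23.act sat T_j (lev.letter_aut (by decide +kernel)) (by decide +kernel) (by decide +kernel)
    (by decide +kernel)

theorem T_d : F.T (pn 31671 3) = N23.π 3 :=
  FS.T_of_braid N23.act sat T_x (lev.letter_aut (by decide +kernel)) (by decide +kernel) (by decide +kernel)
    (by decide +kernel)

theorem T_h : F.T (pn 31671 7) = N23.π 7 :=
  FS.T_of_braid N23.act sat T_d (lev.letter_aut (by decide +kernel)) (by decide +kernel) (by decide +kernel)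
    (by decide +kernel)

theorem T_i : F.T (pn 31671 8) = N23.π 8 :=
  FS.T_of_braid N23.act sat T_x (lev.letter_aut (by decide +kernel)) (by decide +kernel) (by decide +kernel)
    (by decide +kernel)

theorem T_g : F.T (pn 31671 6) = N23.π 6 :=
  FS.T_of_braid N23.act sat T_j (lev.letter_aut (by decide +kernel)) (by decide +kernel) (by decide +kernel)
    (by decide +kernel)

theorem T_f : F.T (pn 31671 5) = N23.π 5 :=
  FS.T_of_braid N23.act sat T_g (lev.letter_aut (by decide +kernel)) (by decide +kernel) (by decide +kernel)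
    (by decide +kernel)

theorem T_c : F.T (pn 31671 2) = N23.π 2 :=
  FS.T_of_braid N23.act sat T_d (lev.letter_aut (by decide +kernel)) (by decide +kernel) (by decide +kernel)
    (by decide +kernel)

theorem T_e : F.T (pn 31671 4) = N23.π 4 :=
  FS.T_of_braid N23.act sat T_d (lev.letter_aut (by decide +kernel)) (by decide +kernel) (by decide +kernel)
    (by decide +kernel)

theorem T_b : F.T (pn 31671 1) = N23.π 1 :=
  FS.T_of_braid N23.act sat T_c (lev.letter_aut (by decide +kernel)) (by decide +kernel) (by decide +kernel)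
    (by decide +kernel)

theorem T_a : F.T (pn 31671 0) = N23.π 0 :=
  FS.T_of_braid N23.act sat T_b (lev.letter_aut (by decide +kernel)) (by decide +kernel) (by decide +kernel)
    (by decide +kernel)

/-- The letters that are points. -/
def pl : List ℕ := [9, 5, 1, 0, 2, 13, 4, 3, 7, 8, 6, 12]

theorem TP : ∀ i ∈ pl, F.T (pn 31671 i) = N23.π i := by
  intro i hi
  simp only [pl, List.mem_cons, List.not_mem_nil, or_false] at hi
  rcases hi with rfl | rfl | rfl | rfl | rfl | rfl | rfl | rfl | rfl | rfl | rfl | rfl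
  exacts [T_j, T_f, T_b, T_a, T_c, T_x, T_e, T_d, T_h, T_i, T_g, T_w]

theorem letters : ∀ i ∈ all23, N23.π i = 1 ∨ i ∈ pl := fun i hi =>
  ((by decide +kernel : ∀ i ∈ all23, i ∈ ([11] : List ℕ) ∨ i ∈ pl) i hi).imp_left (triv i)

theorem grp_eq : F.grp = clos N23.π all23 :=
  FS.grp_eq_clos lev.le1 fun i hi => (letters i hi).imp_right fun h => ⟨_, TP i h⟩

theorem card_grp : Nat.card F.grp = 4089470473293004800 := by
  rw [grp_eq, card]

theorem es_cl : ∀ i ∈ all22, N23.π i = 1 ∨ ∃ p ∈ F.cl ⟨3510, by norm_num⟩, F.T p = N23.π i := fun i hi =>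
  (letters i (List.mem_cons_of_mem _ hi)).imp_right fun h => ⟨_, (lev.cl _).mpr
    ((by decide +kernel : ∀ i ∈ all22, i ∈ pl → ((pn 31671 i : Fin 31671) : ℕ) ≤ 3510) i hi h), TP i h⟩

theorem emb : L22.F.Emb F (Fin.castLE (by norm_num : 3510 ≤ 31671)) :=
  L22.lev.emb lev (by decide +kernel) res T_g

theorem range_emb : Set.range (Fin.castLE (by norm_num : 3510 ≤ 31671)) = F.nb ⟨3510, by norm_num⟩ :=
  lev.range_castLE

theorem kl_check : candB N23.ap 31671 15 [([0], true), ([1], true), ([2], true), ([3], true), ([4], true), ([5], true), ([7], true), ([8], true), ([12], false)] = Nat.lor (pt 3781) (pt 17861) := by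
  decide +kernel

theorem lm : F.LM ⟨3510, by norm_num⟩ :=
  lev.lm N23.act (K := 15) (by norm_num) (k := pn 31671 9) (k' := 17861) T_j (by decide +kernel) es_cl
    (by decide +kernel) kl_check (by decide +kernel) (by decide +kernel) (by decide +kernel)

theorem trN : ∀ p ∈ F.nb ⟨3510, by norm_num⟩, ∀ q ∈ F.nb ⟨3510, by norm_num⟩,
    ∃ g ∈ F.grp, g ⟨3510, by norm_num⟩ = ⟨3510, by norm_num⟩ ∧ g p = q := fun p hp q hq => by
  obtain ⟨g, hg, h⟩ := lev.trN p q (lev.mem_nb.mp hp) (lev.mem_nb.mp hq)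
  exact ⟨g, grp_eq ▸ clos_mono _ (fun i hi => List.mem_cons_of_mem _ hi) hg, lev.fix g hg, h⟩

theorem trA : ∀ p ∉ F.cl ⟨3510, by norm_num⟩, ∀ q ∉ F.cl ⟨3510, by norm_num⟩,
    ∃ g ∈ F.grp, g ⟨3510, by norm_num⟩ = ⟨3510, by norm_num⟩ ∧ g p = q := fun p hp q hq => by
  obtain ⟨g, hg, h⟩ := lev.trA p q (not_le.mp (mt (lev.cl p).mpr hp)) (not_le.mp (mt (lev.cl q).mpr hq))
  exact ⟨g, grp_eq ▸ clos_mono _ (fun i hi => List.mem_cons_of_mem _ hi) hg, lev.fix g hg, h⟩

theorem mem_nb_of {i j : ℕ} (hi : i ∈ pl) (h1 : pn 31671 j ≠ pn 31671 i)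
    (h2 : ptW N23.ap [i] (pn 31671 j) (pn 31671 j) = true) : pn 31671 j ∈ F.nb (pn 31671 i) :=
  ⟨h1, by rw [TP i hi]; exact N23.act.apply_eq1 h2⟩

theorem not_mem_cl_of {i j : ℕ} (hi : i ∈ pl) (h2 : ptW N23.ap [i] (pn 31671 j) (pn 31671 j) = false) :
    pn 31671 j ∉ F.cl (pn 31671 i) := by
  rw [FS.mem_cl, TP i hi]
  simpa using N23.act.apply_ne h2

theorem clos_le_gen_nb {l c : List ℕ} (hc : ∀ i ∈ c, i ∈ pl) (hl : ∀ j ∈ l, j ∈ pl)
    (h : ∀ i ∈ c, ∀ j ∈ l, pn 31671 j ≠ pn 31671 i ∧ ptW N23.ap [i] (pn 31671 j) (pn 31671 j) = true) {S : Set (Fin 31671)}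
    (hS : ∀ p, (∀ i ∈ c, p ∈ F.nb (pn 31671 i)) → p ∈ S) : clos N23.π l ≤ F.gen S :=
  FS.clos_le_gen fun j hj => Or.inr ⟨_, hS _ fun i hi => mem_nb_of (hc i hi) (h i hi j hj).1 (h i hi j hj).2,
    TP j (hl j hj)⟩

theorem o_mem : F.T ⟨3510, by norm_num⟩ ∈ F.gen (F.nb ⟨3510, by norm_num⟩ ∩ F.nb (pn 31671 6)) := by
  have h1 := clos_le_gen_nb (c := [12, 6]) (l := [0, 2, 3, 7, 8, 13]) (by decide) (by decide) (by decide +kernel)
    (S := F.nb ⟨3510, by norm_num⟩ ∩ F.nb (pn 31671 6))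
    (fun p hp => ⟨hp 12 (by decide), hp 6 (by decide)⟩)
  have h2 := block_mem_of_rel (l1 := [11]) (b := [12]) (l2 := [8, 3, 13, 7, 8, 3, 13, 7, 8, 3, 2, 3]) (r := [2, 3, 7, 13, 0, 3, 8, 13, 2, 7, 8, 3, 13, 7])
    (sat ([2, 3, 7, 13, 0, 3, 8, 13, 2, 7, 8, 3, 13, 7], [11, 12, 8, 3, 13, 7, 8, 3, 13, 7, 8, 3, 2, 3]) (by decide +kernel)).symm
    (fun i hi => by rw [triv i ((by decide : ∀ i ∈ ([11] : List ℕ), i ∈ ([11] : List ℕ)) i hi)]; exact Subgroup.one_mem _)
    (fun i hi => h1 (mem_clos _ ((by decide : ∀ i ∈ ([8, 3, 13, 7, 8, 3, 13, 7, 8, 3, 2, 3] : List ℕ), i ∈ ([0, 2, 3, 7, 8, 13] : List ℕ)) i hi)))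
    (fun i hi => h1 (mem_clos _ ((by decide : ∀ i ∈ ([2, 3, 7, 13, 0, 3, 8, 13, 2, 7, 8, 3, 13, 7] : List ℕ), i ∈ ([0, 2, 3, 7, 8, 13] : List ℕ)) i hi)))
  rw [lev.T_base]
  simpa using h2

theorem loc_T {Y : Type*} {F' : FS Y} (hL : F.Loc F') (hC : F'.Conn) {d e : Y} (he : e ∈ F'.nb d) :
    F'.T d ∈ F'.gen (F'.nb d ∩ F'.nb e) :=
  FS.loc_two lm hL hC (z := pn 31671 6) (lev.mem_nb.mpr (by decide))
    (fun p hp => by
      obtain ⟨g, hg, h⟩ := trN _ (lev.mem_nb.mpr (by decide : ((pn 31671 6 : Fin 31671) : ℕ) < 3510)) p hp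
      exact ⟨g, FS.grp_le_aut hg, h⟩) o_mem he

end Cfsg.Agent.H41.L23
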