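import Mathlib
import Cfsg.Agent.H41.Pack
import Cfsg.Agent.H41.Lev2
import Cfsg.Agent.H41.L24
import Cfsg.Agent.H41.M23

/-!
# Level 24: the letters as points, local facts
-/

set_option autoImplicit false
set_option maxRecDepth 1000000

namespace Cfsg.Agent.H41.L24

open Cfsg.Agent.H42

theorem T_l : F.T (pn 306936 11) = N24.π 11 := lev.T_base

theorem T_k : F.T (pn 306936 10) = N24.π 10 :=
  FS.T_of_braid N24.act sat T_l (lev.letter_aut (by decide +kernel)) (by decide +kernel) (by decide +kernel)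
    (by decide +kernel)

theorem T_a : F.T (pn 306936 0) = N24.π 0 :=
  FS.T_of_braid N24.act sat T_k (lev.letter_aut (by decide +kernel)) (by decide +kernel) (by decide +kernel)
    (by decide +kernel)

theorem T_x : F.T (pn 306936 13) = N24.π 13 :=
  FS.T_of_braid N24.act sat T_k (lev.letter_aut (by decide +kernel)) (by decide +kernel) (by decide +kernel)
    (by decide +kernel)

theorem T_d : F.T (pn 306936 3) = N24.π 3 :=
  FS.T_of_braid N24.act sat T_x (lev.letter_aut (by decide +kernel)) (by decide +kernel) (by decide +kernel)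
    (by decide +kernel)

theorem T_h : F.T (pn 306936 7) = N24.π 7 :=
  FS.T_of_braid N24.act sat T_d (lev.letter_aut (by decide +kernel)) (by decide +kernel) (by decide +kernel)
    (by decide +kernel)

theorem T_i : F.T (pn 306936 8) = N24.π 8 :=
  FS.T_of_braid N24.act sat T_x (lev.letter_aut (by decide +kernel)) (by decide +kernel) (by decide +kernel)
    (by decide +kernel)

theorem T_j : F.T (pn 306936 9) = N24.π 9 :=
  FS.T_of_braid N24.act sat T_x (lev.letter_aut (by decide +kernel)) (by decide +kernel) (by decide +kernel)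
    (by decide +kernel)

theorem T_b : F.T (pn 306936 1) = N24.π 1 :=
  FS.T_of_braid N24.act sat T_a (lev.letter_aut (by decide +kernel)) (by decide +kernel) (by decide +kernel)
    (by decide +kernel)

theorem T_c : F.T (pn 306936 2) = N24.π 2 :=
  FS.T_of_braid N24.act sat T_d (lev.letter_aut (by decide +kernel)) (by decide +kernel) (by decide +kernel)
    (by decide +kernel)

theorem T_e : F.T (pn 306936 4) = N24.π 4 :=
  FS.T_of_braid N24.act sat T_d (lev.letter_aut (by decide +kernel)) (by decide +kernel) (by decide +kernel)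
    (by decide +kernel)

theorem T_g : F.T (pn 306936 6) = N24.π 6 :=
  FS.T_of_braid N24.act sat T_j (lev.letter_aut (by decide +kernel)) (by decide +kernel) (by decide +kernel)
    (by decide +kernel)

theorem T_w : F.T (pn 306936 12) = N24.π 12 :=
  FS.T_of_braid N24.act sat T_j (lev.letter_aut (by decide +kernel)) (by decide +kernel) (by decide +kernel)
    (by decide +kernel)

theorem T_f : F.T (pn 306936 5) = N24.π 5 :=
  FS.T_of_braid N24.act sat T_e (lev.letter_aut (by decide +kernel)) (by decide +kernel) (by decide +kernel)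
    (by decide +kernel)

/-- The letters that are points. -/
def pl : List ℕ := [10, 9, 5, 1, 0, 2, 13, 4, 3, 7, 8, 6, 12, 11]

theorem TP : ∀ i ∈ pl, F.T (pn 306936 i) = N24.π i := by
  intro i hi
  simp only [pl, List.mem_cons, List.not_mem_nil, or_false] at hi
  rcases hi with rfl | rfl | rfl | rfl | rfl | rfl | rfl | rfl | rfl | rfl | rfl | rfl | rfl | rfl
  exacts [T_k, T_j, T_f, T_b, T_a, T_c, T_x, T_e, T_d, T_h, T_i, T_g, T_w, T_l]

theorem letters : ∀ i ∈ all24, N24.π i = 1 ∨ i ∈ pl := fun i hi =>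
  ((by decide +kernel : ∀ i ∈ all24, i ∈ ([] : List ℕ) ∨ i ∈ pl) i hi).imp_left (triv i)

theorem grp_eq : F.grp = clos N24.π all24 :=
  FS.grp_eq_clos lev.le1 fun i hi => (letters i hi).imp_right fun h => ⟨_, TP i h⟩

theorem card_grp : Nat.card F.grp = 2510411418381323442585600 := by
  rw [grp_eq, card]

theorem es_cl : ∀ i ∈ all23, N24.π i = 1 ∨ ∃ p ∈ F.cl ⟨31671, by norm_num⟩, F.T p = N24.π i := fun i hi =>
  (letters i (List.mem_cons_of_mem _ hi)).imp_right fun h => ⟨_, (lev.cl _).mpr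
    ((by decide +kernel : ∀ i ∈ all23, i ∈ pl → ((pn 306936 i : Fin 306936) : ℕ) ≤ 31671) i hi h), TP i h⟩

theorem emb : L23.F.Emb F (Fin.castLE (by norm_num : 31671 ≤ 306936)) :=
  L23.lev.emb lev (by decide +kernel) res T_w

theorem range_emb : Set.range (Fin.castLE (by norm_num : 31671 ≤ 306936)) = F.nb ⟨31671, by norm_num⟩ :=
  lev.range_castLE

theorem kl_check : candB N24.ap 306936 19 [([1], true), ([2], true), ([3], true), ([4], true), ([5], true), ([6], true), ([7], true), ([8], true), ([9], true), ([13, 9, 8, 13, 3, 7, 8, 13, 4, 3, 2, 3, 4, 13, 8, 7, 3, 13, 8, 9, 13], true), ([11], false)] = Nat.lor (pt 169304) (pt 31672) := by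
  decide +kernel

theorem lm : F.LM ⟨31671, by norm_num⟩ :=
  lev.lm N24.act (K := 19) (by norm_num) (k := pn 306936 10) (k' := 31672) T_k (by decide +kernel) es_cl
    (by decide +kernel) kl_check (by decide +kernel) (by decide +kernel) (by decide +kernel)

theorem trN : ∀ p ∈ F.nb ⟨31671, by norm_num⟩, ∀ q ∈ F.nb ⟨31671, by norm_num⟩,
    ∃ g ∈ F.grp, g ⟨31671, by norm_num⟩ = ⟨31671, by norm_num⟩ ∧ g p = q := fun p hp q hq => by
  obtain ⟨g, hg, h⟩ := lev.trN p q (lev.mem_nb.mp hp) (lev.mem_nb.mp hq)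
  exact ⟨g, grp_eq ▸ clos_mono _ (fun i hi => List.mem_cons_of_mem _ hi) hg, lev.fix g hg, h⟩

theorem trA : ∀ p ∉ F.cl ⟨31671, by norm_num⟩, ∀ q ∉ F.cl ⟨31671, by norm_num⟩,
    ∃ g ∈ F.grp, g ⟨31671, by norm_num⟩ = ⟨31671, by norm_num⟩ ∧ g p = q := fun p hp q hq => by
  obtain ⟨g, hg, h⟩ := lev.trA p q (not_le.mp (mt (lev.cl p).mpr hp)) (not_le.mp (mt (lev.cl q).mpr hq))
  exact ⟨g, grp_eq ▸ clos_mono _ (fun i hi => List.mem_cons_of_mem _ hi) hg, lev.fix g hg, h⟩

theorem mem_nb_of {i j : ℕ} (hi : i ∈ pl) (h1 : pn 306936 j ≠ pn 306936 i)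
    (h2 : ptW N24.ap [i] (pn 306936 j) (pn 306936 j) = true) : pn 306936 j ∈ F.nb (pn 306936 i) :=
  ⟨h1, by rw [TP i hi]; exact N24.act.apply_eq1 h2⟩

theorem not_mem_cl_of {i j : ℕ} (hi : i ∈ pl) (h2 : ptW N24.ap [i] (pn 306936 j) (pn 306936 j) = false) :
    pn 306936 j ∉ F.cl (pn 306936 i) := by
  rw [FS.mem_cl, TP i hi]
  simpa using N24.act.apply_ne h2

theorem clos_le_gen_nb {l c : List ℕ} (hc : ∀ i ∈ c, i ∈ pl) (hl : ∀ j ∈ l, j ∈ pl)
    (h : ∀ i ∈ c, ∀ j ∈ l, pn 306936 j ≠ pn 306936 i ∧ ptW N24.ap [i] (pn 306936 j) (pn 306936 j) = true) {S : Set (Fin 306936)}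
    (hS : ∀ p, (∀ i ∈ c, p ∈ F.nb (pn 306936 i)) → p ∈ S) : clos N24.π l ≤ F.gen S :=
  FS.clos_le_gen fun j hj => Or.inr ⟨_, hS _ fun i hi => mem_nb_of (hc i hi) (h i hi j hj).1 (h i hi j hj).2,
    TP j (hl j hj)⟩

end Cfsg.Agent.H41.L24
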