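import Mathlib
import Cfsg.Agent.H41.Pack

/-!
# The automorphisms of the space of 180 points
-/

set_option autoImplicit false
set_option maxRecDepth 1000000

namespace Cfsg.Agent.H41.N20

open Cfsg.Agent.H42

noncomputable def gc_0 : ℕ := (nat_lit 0x33003ff0f3b00c98000033004c88c8c083e0b0f03bc00)
noncomputable def gc_1 : ℕ := (nat_lit 0x50fa50500a00f080055000000f00500400a5004f000)
noncomputable def gc_2 : ℕ := (nat_lit 0x660088cc0022002211cc3311aa110088887300c400)
noncomputable def gc_3 : ℕ := (nat_lit 0xaba90e0c9181020200003e2e70302020a0a000000400)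
noncomputable def gc_4 : ℕ := (nat_lit 0x70002dd4c510c06040604ae21a020894081400a020800)
noncomputable def gc_5 : ℕ := (nat_lit 0xf92b0000c829482625c0002021c09080000000800000)
noncomputable def gc_6 : ℕ := (nat_lit 0x22061892100807c0000400901008004)
noncomputable def gc_7 : ℕ := (nat_lit 0x446901808804)
noncomputable def gc : Net := [hi 8 0 gc_0, hi 8 1 gc_1, hi 8 2 gc_2, hi 8 3 gc_3, hi 8 4 gc_4, hi 8 5 gc_5, hi 8 6 gc_6, lo 8 7 gc_7, lo 8 6 gc_6, lo 8 5 gc_5, lo 8 4 gc_4, lo 8 3 gc_3, lo 8 2 gc_2, lo 8 1 gc_1, lo 8 0 gc_0]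
theorem gc_ok : netOk 180 gc = true := by decide +kernel

noncomputable def gd_0 : ℕ := (nat_lit 0x8c0023330c3b38c30808b303f30ccf20323320b08cab2)
noncomputable def gd_1 : ℕ := (nat_lit 0xa00000aafa0ea840000000f5f0d0a05e00e00a5000a0)
noncomputable def gd_2 : ℕ := (nat_lit 0x7144339911a8982000110000b3408088228088000080)
noncomputable def gd_3 : ℕ := (nat_lit 0x19114747a0a0000001016363100090902000e0600000)
noncomputable def gd_4 : ℕ := (nat_lit 0x10001eb68e86808100810421000108000000060000000)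
noncomputable def gd_5 : ℕ := (nat_lit 0x140500000400024080001240800001030000000300000)
noncomputable def gd_6 : ℕ := (nat_lit 0x201808009d022018000000009c022008)
noncomputable def gd_7 : ℕ := (nat_lit 0x40009c322008)
noncomputable def gd : Net := [hi 8 0 gd_0, hi 8 1 gd_1, hi 8 2 gd_2, hi 8 3 gd_3, hi 8 4 gd_4, hi 8 5 gd_5, hi 8 6 gd_6, lo 8 7 gd_7, lo 8 6 gd_6, lo 8 5 gd_5, lo 8 4 gd_4, lo 8 3 gd_3, lo 8 2 gd_2, lo 8 1 gd_1, lo 8 0 gd_0]
theorem gd_ok : netOk 180 gd = true := by decide +kernel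

noncomputable def ge_0 : ℕ := (nat_lit 0xd3e0f12c238233cc0c003c8302e0ce880b030fc00300c)
noncomputable def ge_1 : ℕ := (nat_lit 0xa500aa4fa0aa500000aaaea0585f00ff500005d508)
noncomputable def ge_2 : ℕ := (nat_lit 0x8844a9ee0077112200dd8822aa550088bb4033441000)
noncomputable def ge_3 : ℕ := (nat_lit 0x991b8283af8cb1a19090a0a076760909020243024000)
noncomputable def ge_4 : ℕ := (nat_lit 0xa00098dc10cc23020902025bb853bba003a0042400000)
noncomputable def ge_5 : ℕ := (nat_lit 0x70dda000407829e0150080600d0083c80000004800000)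
noncomputable def ge_6 : ℕ := (nat_lit 0x8408d0ad06020134000000a406000100)
noncomputable def ge_7 : ℕ := (nat_lit 0x507a606800100)
noncomputable def ge : Net := [hi 8 0 ge_0, hi 8 1 ge_1, hi 8 2 ge_2, hi 8 3 ge_3, hi 8 4 ge_4, hi 8 5 ge_5, hi 8 6 ge_6, lo 8 7 ge_7, lo 8 6 ge_6, lo 8 5 ge_5, lo 8 4 ge_4, lo 8 3 ge_3, lo 8 2 ge_2, lo 8 1 ge_1, lo 8 0 ge_0]
theorem ge_ok : netOk 180 ge = true := by decide +kernel

noncomputable def gh_0 : ℕ := (nat_lit 0xff3f3ecc200030033330bfc330c0f208000200e020)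
noncomputable def gh_1 : ℕ := (nat_lit 0xaf0da0faffa05aa05a00a0550a5a05fa80040505a000)
noncomputable def gh_2 : ℕ := (nat_lit 0x80aa88ecbb00cc009900bb0022aa88b9448800006644)
noncomputable def gh_3 : ℕ := (nat_lit 0x3f3d61212101111189896e2ec8c80c0c808008084604)
noncomputable def gh_4 : ℕ := (nat_lit 0x300029a2d90259d8a898a670947009408940800040000)
noncomputable def gh_5 : ℕ := (nat_lit 0x510070005000149828384408082009d40010814000000)
noncomputable def gh_6 : ℕ := (nat_lit 0x400c8b65808485240000084580048024)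
noncomputable def gh_7 : ℕ := (nat_lit 0x12cc594048024)
noncomputable def gh : Net := [hi 8 0 gh_0, hi 8 1 gh_1, hi 8 2 gh_2, hi 8 3 gh_3, hi 8 4 gh_4, hi 8 5 gh_5, hi 8 6 gh_6, lo 8 7 gh_7, lo 8 6 gh_6, lo 8 5 gh_5, lo 8 4 gh_4, lo 8 3 gh_3, lo 8 2 gh_2, lo 8 1 gh_1, lo 8 0 gh_0]
theorem gh_ok : netOk 180 gh = true := by decide +kernel

noncomputable def gi_0 : ℕ := (nat_lit 0xf30c00f000cc2fc0c033cff0c00e03c0030bf3c0f0ac0)
noncomputable def gi_1 : ℕ := (nat_lit 0xfa505f50508805a0000050aa05a0000a0f0a508050c80)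
noncomputable def gi_2 : ℕ := (nat_lit 0xc4ee001144009900458954b3bac44422b21000dc0000)
noncomputable def gi_3 : ℕ := (nat_lit 0xacec5515004008080253aded0b4b00401b0ac0804000)
noncomputable def gi_4 : ℕ := (nat_lit 0x20002810c8008c82080205256001368442844f0402000)
noncomputable def gi_5 : ℕ := (nat_lit 0xd00800000048672a9000270a00011c0400401c000000)
noncomputable def gi_6 : ℕ := (nat_lit 0x640a12c9478c205c0008400806040004)
noncomputable def gi_7 : ℕ := (nat_lit 0x96c4a1e040004)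
noncomputable def gi : Net := [hi 8 0 gi_0, hi 8 1 gi_1, hi 8 2 gi_2, hi 8 3 gi_3, hi 8 4 gi_4, hi 8 5 gi_5, hi 8 6 gi_6, lo 8 7 gi_7, lo 8 6 gi_6, lo 8 5 gi_5, lo 8 4 gi_4, lo 8 3 gi_3, lo 8 2 gi_2, lo 8 1 gi_1, lo 8 0 gi_0]
theorem gi_ok : netOk 180 gi = true := by decide +kernel

noncomputable def gx_0 : ℕ := (nat_lit 0xf00c3f3cc03cf0c33003f00300cc0303f303cc3000000)
noncomputable def gx_1 : ℕ := (nat_lit 0xfaf05ffff00a550f55fad5000a0aa050000aa00000000)
noncomputable def gx_2 : ℕ := (nat_lit 0xaa621188443333cc44621133ff6622003344000000)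
noncomputable def gx_3 : ℕ := (nat_lit 0x1c1491d12a2a2c60c9c95818c2c2e9e9303002024000)
noncomputable def gx_4 : ℕ := (nat_lit 0x700059219b219a289c289cb16aa1649032101a4808080)
noncomputable def gx_5 : ℕ := (nat_lit 0x9134000000000e28b12d1024062909269310432200000)
noncomputable def gx_6 : ℕ := (nat_lit 0xf219e094ec45a2a2000180846449a000)
noncomputable def gx_7 : ℕ := (nat_lit 0xd8484776ba010)
noncomputable def gx : Net := [hi 8 0 gx_0, hi 8 1 gx_1, hi 8 2 gx_2, hi 8 3 gx_3, hi 8 4 gx_4, hi 8 5 gx_5, hi 8 6 gx_6, lo 8 7 gx_7, lo 8 6 gx_6, lo 8 5 gx_5, lo 8 4 gx_4, lo 8 3 gx_3, lo 8 2 gx_2, lo 8 1 gx_1, lo 8 0 gx_0]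
theorem gx_ok : netOk 180 gx = true := by decide +kernel

noncomputable def s14_0 : ℕ := (nat_lit 0x8b3833030beff8f0c30b02b3cccfc3cff3efc00000020)
noncomputable def s14_1 : ℕ := (nat_lit 0x400faf45f0faf050aa8005e0185a05a405400000000)
noncomputable def s14_2 : ℕ := (nat_lit 0xbb3355ec3300559964cc002222ba44667720dd000000)
noncomputable def s14_3 : ℕ := (nat_lit 0x290939396e2e676799993e2ec383e8a8293900000000)
noncomputable def s14_4 : ℕ := (nat_lit 0x70000b46bb0cb1ef61e42a0d18474d208d2a008800800)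
noncomputable def s14_5 : ℕ := (nat_lit 0xdcab00005c0a4988004e310000421eaf008f028700000)
noncomputable def s14_6 : ℕ := (nat_lit 0x95401721c30e901500000100422e9005)
noncomputable def s14_7 : ℕ := (nat_lit 0x5c1a07afe900d)
noncomputable def s14 : Net := [hi 8 0 s14_0, hi 8 1 s14_1, hi 8 2 s14_2, hi 8 3 s14_3, hi 8 4 s14_4, hi 8 5 s14_5, hi 8 6 s14_6, lo 8 7 s14_7, lo 8 6 s14_6, lo 8 5 s14_5, lo 8 4 s14_4, lo 8 3 s14_3, lo 8 2 s14_2, lo 8 1 s14_1, lo 8 0 s14_0]
theorem s14_ok : netOk 180 s14 = true := by decide +kernel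

noncomputable def s15_0 : ℕ := (nat_lit 0x8b34c0e0cf23cb800ccb03b300f8c3c3333fc03000000)
noncomputable def s15_1 : ℕ := (nat_lit 0xf5ef0f5a5a0affaf0adffff5f8fa0aa5faaa000000000)
noncomputable def s15_2 : ℕ := (nat_lit 0x66ffab108945772200aa547311880088ba7499440000)
noncomputable def s15_3 : ℕ := (nat_lit 0x979533319a89f767d4d44a4a10001202202000000000)
noncomputable def s15_4 : ℕ := (nat_lit 0xc0000481d000448484848373b2333520c020c10001000)
noncomputable def s15_5 : ℕ := (nat_lit 0x7f6620007450012333f6310130700e68410e860000000)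
noncomputable def s15_6 : ℕ := (nat_lit 0x505fa22689cb349c0004210280cb24ac)
noncomputable def s15_7 : ℕ := (nat_lit 0x47d22e0cb34ac)
noncomputable def s15 : Net := [hi 8 0 s15_0, hi 8 1 s15_1, hi 8 2 s15_2, hi 8 3 s15_3, hi 8 4 s15_4, hi 8 5 s15_5, hi 8 6 s15_6, lo 8 7 s15_7, lo 8 6 s15_6, lo 8 5 s15_5, lo 8 4 s15_4, lo 8 3 s15_3, lo 8 2 s15_2, lo 8 1 s15_1, lo 8 0 s15_0]
theorem s15_ok : netOk 180 s15 = true := by decide +kernel

noncomputable def s16_0 : ℕ := (nat_lit 0xf8cf0ccf3000f3c3c3008300333f3c00003f03c380000)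
noncomputable def s16_1 : ℕ := (nat_lit 0xfd0af5ae550aa0faa0faaa0afe5f0af0a040a00a0400)
noncomputable def s16_2 : ℕ := (nat_lit 0x44779caac8fafbc9881000ee200040aa91c0cc88d100)
noncomputable def s16_3 : ℕ := (nat_lit 0xe464eeeeb3234b1fb1310b0bcbcb8383dddd18180000)
noncomputable def s16_4 : ℕ := (nat_lit 0x7000a436d41001f370c16cfebcc020531072007180400)
noncomputable def s16_5 : ℕ := (nat_lit 0x2143a000a102099762e16d9662204c730da1081000000)
noncomputable def s16_6 : ℕ := (nat_lit 0xf9895635a76f251d00005030e569241d)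
noncomputable def s16_7 : ℕ := (nat_lit 0x27570ede9241d)
noncomputable def s16 : Net := [hi 8 0 s16_0, hi 8 1 s16_1, hi 8 2 s16_2, hi 8 3 s16_3, hi 8 4 s16_4, hi 8 5 s16_5, hi 8 6 s16_6, lo 8 7 s16_7, lo 8 6 s16_6, lo 8 5 s16_5, lo 8 4 s16_4, lo 8 3 s16_3, lo 8 2 s16_2, lo 8 1 s16_1, lo 8 0 s16_0]
theorem s16_ok : netOk 180 s16 = true := by decide +kernel

noncomputable def nets : List Net := [[], [], gc, gd, ge, [], [], gh, gi, [], [], [], [], gx, s14, s15, s16]

/-- The action on bit sets. -/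
noncomputable def ap : ℕ → ℕ → ℕ := apN nets

/-- The generators. -/
noncomputable def π : ℕ → Equiv.Perm (Fin 180) := genN 180 nets

theorem act : Act 180 ap π := act_nets (by
  intro N hN
  simp only [nets, List.mem_cons, List.not_mem_nil, or_false] at hN
  rcases hN with rfl | rfl | rfl | rfl | rfl | rfl | rfl | rfl | rfl | rfl | rfl | rfl | rfl | rfl | rfl | rfl | rfl
  exacts [rfl, rfl, gc_ok, gd_ok, ge_ok, rfl, rfl, gh_ok, gi_ok, rfl, rfl, rfl, rfl, gx_ok, s14_ok, s15_ok, s16_ok])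

end Cfsg.Agent.H41.N20
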