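import Mathlib
import Cfsg.Agent.H41.RuF
import Cfsg.Agent.H10.Std1
import Cfsg.Agent.H42.Auts

/-!
# A standard subgroup that is a double cover of the Rudvalis group
-/

set_option autoImplicit false

namespace Cfsg.Agent.H41.Ru2

open Cfsg.Agent.H46.Ru Cfsg.Agent.H80 Cfsg.Spor Subgroup
open scoped Pointwise

section Cover

variable {Γ : Type*} [Group Γ] {π : Γ →* GG} {z : Γ}

/-- A perfect double cover. -/
structure Cov (π : Γ →* GG) (z : Γ) : Prop where
  perf : Group.IsPerfect Γ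
  surj : Function.Surjective π
  cen : z ∈ center Γ
  ne : z ≠ 1
  ker : ∀ a, π a = 1 ↔ a = 1 ∨ a = z

namespace Cov

variable (h : Cov π z)
include h

theorem exists_hom : ∃ φ : Γ →* fourRu, ∀ a, piG (φ a) = π a := by
  have := h.perf
  have hσ : IsCentralExt π := ⟨h.surj, fun a ha => by
    rcases (h.ker a).mp ha with e | e
    · rw [e]; exact one_mem _
    · rw [e]; exact h.cen⟩
  have hξ : IsCentralExt piG := ⟨piG_surjective, center_fourRu.ge⟩
  have hτ := hσ.pullback hξ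
  obtain ⟨f, hf⟩ := exists_surjective_stemKer
    (hasSchurMultiplier_congr_left H78.MRu.mult_Ru equivGG) hτ
  have hfin : Finite (stemKer (π.comp (pullbackFst π piG))) := Finite.of_surjective f hf
  have h1 : Nat.card (stemKer (π.comp (pullbackFst π piG))) ≤ 2 := by
    simpa using Nat.card_le_card_of_surjective f hf
  have h2 := stemMap_surjective hτ.surj hσ.central (pullbackFst π piG) rfl
  have h3 : 2 ≤ Nat.card (stemKer π) := by
    have := Finite.of_surjective _ h2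
    have : Nontrivial (stemKer π) := ⟨⟨⟨z, by
      rw [stemKer_eq_ker_of_perfect]; exact (h.ker z).mpr (Or.inr rfl)⟩, 1,
      fun e => h.ne (congrArg Subtype.val e)⟩⟩
    exact Finite.one_lt_card
  have h4 := (h2.bijective_of_nat_card_le (h1.trans h3)).1
  let ψ := (pullbackFst π piG).comp (commutator (pullback π piG)).subtype
  have h5 : Function.Bijective ψ := by
    refine ⟨(injective_iff_map_eq_one _).mpr fun p hp => ?_, fun a => ?_⟩
    · have hp' : pullbackFst π piG p = 1 := hp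
      have := (injective_iff_map_eq_one _).mp h4 ⟨p.1, mem_stemKer.mpr ⟨by
        rw [MonoidHom.comp_apply, hp', map_one], p.2⟩⟩ (Subtype.ext hp')
      have h7 := congrArg Subtype.val this
      exact Subtype.ext h7
    · have h6 := map_commutator_eq_of_central hσ.central (η := pullbackFst π piG) fun y => by
        obtain ⟨p, hp⟩ := pullbackFst_surjective π piG_surjective y
        exact ⟨p, by rw [hp]⟩
      obtain ⟨p, hp, e⟩ : a ∈ (commutator (pullback π piG)).map (pullbackFst π piG) := by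
        rw [h6, Group.IsPerfect.commutator_eq_top]; trivial
      exact ⟨⟨p, hp⟩, e⟩
  let e := MulEquiv.ofBijective ψ h5
  refine ⟨((pullbackSnd π piG).comp (commutator (pullback π piG)).subtype).comp e.symm.toMonoidHom,
    fun a => ?_⟩
  conv_rhs => rw [← e.apply_symm_apply a]
  exact (mem_pullback.mp (e.symm a).1.2).symm

theorem comm (a : Γ) : a * z = z * a := mem_center_iff.mp h.cen a

theorem zz : z * z = 1 := ((h.ker _).mp (by
  rw [map_mul, (h.ker z).mpr (Or.inr rfl), one_mul])).resolve_right fun e => h.ne (by simpa using e)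

theorem lift_eq {a c : Γ} (e : π a = π c) : a = c ∨ a = c * z := by
  rcases (h.ker (c⁻¹ * a)).mp (by rw [map_mul, map_inv, e, inv_mul_cancel]) with h1 | h1
  · exact Or.inl (inv_mul_eq_one.mp h1).symm
  · exact Or.inr (by rw [← h1, mul_inv_cancel_left])

theorem sq_eq {a c : Γ} (e : π a = π c) : a * a = c * c := by
  rcases h.lift_eq e with h1 | h1
  · rw [h1]
  · rw [h1, mul_assoc, ← mul_assoc z, ← h.comm, mul_assoc, h.zz, mul_one]

theorem exists_conj {g : GG} {u : Γ} (e : IsConj g (π u)) : ∃ c, π (c * u * c⁻¹) = g := by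
  obtain ⟨c, hc⟩ := isConj_iff.mp e.symm
  obtain ⟨c, rfl⟩ := h.surj c
  exact ⟨c, by rw [map_mul, map_mul, map_inv, hc]⟩

theorem lifts : (∀ u, π u = t → u * u = 1 ∧ ∃ a, a ^ 4 = u) ∧ ∀ u, π u = b → u * u ≠ 1 := by
  obtain ⟨φ, hφ⟩ := h.exists_hom
  obtain ⟨f0, f1, f2, e0, e1, e2, e3, e4, e5⟩ := four_facts
  have key : ∀ f : fourRu, ∃ a s, π a = piG f ∧ φ a = f * s ∧ s ^ 4 = 1 ∧ ∀ g, Commute g s := fun f => by
    obtain ⟨a, ha⟩ := h.surj (piG f)
    have h1 : piG (f⁻¹ * φ a) = 1 := by rw [map_mul, map_inv, hφ, ha, inv_mul_cancel]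
    exact ⟨a, _, ha, (mul_inv_cancel_left _ _).symm, scalar_four h1,
      mem_center_iff.mp (center_fourRu.ge h1)⟩
  obtain ⟨a0, s0, p0, q0, r0, c0⟩ := key f0
  obtain ⟨a1, s1, p1, q1, r1, c1⟩ := key f1
  obtain ⟨a2, s2, p2, q2, -, c2⟩ := key f2
  have k0 : φ (a0 ^ 4) = f0 ^ 4 := by rw [map_pow, q0, (c0 f0).mul_pow, r0, mul_one]
  have k1 : φ (a1 ^ 4) = f1 ^ 4 := by rw [map_pow, q1, (c1 f1).mul_pow, r1, mul_one]
  have t0 : π (a0 ^ 4) = t := by rw [map_pow, p0, e0]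
  have t1 : a1 ^ 4 = a0 ^ 4 * z := (h.lift_eq (by rw [map_pow, p1, e1, t0])).resolve_left fun e =>
    e4 (by rw [← k0, ← k1, e])
  have hz : φ z ≠ 1 := fun e => e4 (by rw [← k0, ← k1, t1, map_mul, e, mul_one])
  have t2 : a0 ^ 4 * a0 ^ 4 = 1 := ((h.ker _).mp (by rw [map_mul, t0, t_sq])).resolve_right fun e =>
    hz (by rw [← e, map_mul, k0, e3])
  refine ⟨fun u hu => ⟨(h.sq_eq (hu.trans t0.symm)).trans t2, ?_⟩, fun u hu e => e5 ?_⟩
  · rcases h.lift_eq (hu.trans t0.symm) with e | e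
    · exact ⟨a0, e.symm⟩
    · exact ⟨a1, t1.trans e.symm⟩
  · have h1 : π (a0 * a2 * a0 * a2⁻¹) = b := by
      rw [← e2]; simp only [map_mul, map_inv, p0, p2]
    have h2 := congrArg φ ((h.sq_eq (hu.trans h1.symm)).symm.trans e)
    have h3 : φ (a0 * a2 * a0 * a2⁻¹) = f0 * f2 * f0 * f2⁻¹ * s0 ^ 2 := by
      simp only [map_mul, map_inv, q0, q2]
      calc f0 * s0 * (f2 * s2) * (f0 * s0) * (f2 * s2)⁻¹
          = f0 * (s0 * f2) * (s2 * (f0 * s0)) * s2⁻¹ * f2⁻¹ := by group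
        _ = f0 * f2 * (s0 * f0) * (s0 * f2⁻¹) := by rw [← (c0 f2).eq, ← (c2 (f0 * s0)).eq]; group
        _ = f0 * f2 * (f0 * s0) * (f2⁻¹ * s0) := by rw [← (c0 f0).eq, ← (c0 f2⁻¹).eq]
        _ = f0 * f2 * f0 * (s0 * f2⁻¹) * s0 := by simp only [mul_assoc]
        _ = _ := by rw [← (c0 f2⁻¹).eq, pow_two]; simp only [mul_assoc]
    rw [map_mul, h3, map_one, ← pow_two, ((c0 _).pow_right 2).mul_pow, ← pow_mul, r0, mul_one,
      pow_two] at h2
    exact h2

theorem four_ne (a : Γ) : a ^ 4 ≠ z := fun e => by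
  have e' : a * a * (a * a) = z := by rw [← e, show 4 = 2 + 2 from rfl, pow_add, pow_two]
  refine h.ne (e'.symm.trans ?_)
  rcases sq_four (g := π a) (by simp only [← map_mul]; rw [e', h.ker]; exact Or.inr rfl) with h1 | h1
  · rw [h.sq_eq (a := a * a) (c := 1) (by rw [map_mul, h1, map_one]), one_mul]
  · obtain ⟨c, hc⟩ := h.exists_conj (u := a * a) (g := t) (by rw [map_mul]; exact h1)
    have := (h.lifts.1 _ hc).1
    rwa [conj_mul, conj_eq_one_iff] at this

theorem conj_t {u : Γ} (h1 : u * u = 1) (h2 : π u ≠ 1) : ∃ c, π (c * u * c⁻¹) = t := by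
  rcases invol (g := π u) (by rw [← map_mul, h1, map_one]) with e | e | e
  · exact absurd e h2
  · exact h.exists_conj e
  · obtain ⟨c, hc⟩ := h.exists_conj e
    exact absurd (by rw [conj_mul, h1, mul_one, mul_inv_cancel]) (h.lifts.2 _ hc)

theorem pgroup : IsPGroup 2 ((P 0).comap π) :=
  pg.comap_of_ker_isPGroup π fun a => ⟨1, Subtype.ext (by
    rcases (h.ker a.1).mp a.2 with e | e
    · simp [e]
    · simp [e, pow_two, h.zz])⟩

theorem comm_t {u : Γ} (hu : π u = t) {y : Γ} (hy : y ∈ (P 0).comap π) : Commute y u := by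
  have k1 : ∀ a c : Γ, π a = π c → Commute c u → Commute a u := fun a c e hc => by
    rcases h.lift_eq e with e | e
    · rwa [e]
    · rw [e]; exact hc.mul_left (h.comm u).symm
  have k2 : ∀ g : GG, (∃ n, g ^ n = t) → g ∈ (centralizer {u}).map π := by
    rintro g ⟨n, hn⟩
    obtain ⟨a, rfl⟩ := h.surj g
    refine ⟨a, mem_centralizer_singleton_iff.mpr ?_, rfl⟩
    rcases h.lift_eq (c := a ^ n) (a := u) (by rw [map_pow, hn, hu]) with e | e
    · rw [e]; exact Commute.self_pow a n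
    · rw [e]; exact (Commute.self_pow a n).mul_right (h.comm a)
  have k3 : P 0 ≤ (centralizer {u}).map π := by
    rw [P_eq, closure_le]
    rintro _ ⟨k, hk, rfl⟩
    obtain ⟨w, h1, h2⟩ := gen_good hk.2
    have := mul_mem (k2 _ h2) (inv_mem (k2 _ h1))
    rwa [mul_inv_cancel_right] at this
  obtain ⟨c, hc, e⟩ := k3 hy
  exact k1 y c e.symm (mem_centralizer_singleton_iff.mp hc)

end Cov

end Cover

open Cfsg.Agent.H8 Cfsg.Agent.H10 Cfsg.Agent.H10.Std

variable {G : Type*} [Group G] [Finite G] {A : Subgroup G}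

theorem main {π : A →* GG} {z : A} (h : Cov π z) (hc : Ctr A z)
    (hR : ∀ R : Sylow 2 (centralizer (A : Set G)), IsCyclic (R : Subgroup (centralizer (A : Set G))))
    (hi : ∀ x : G, Commute x z → Inner A x) {g : G} {u : A} (hu : π u = t) (e : g * z * g⁻¹ = u) :
    False := by
  have : Fact (Nat.Prime 2) := ⟨Nat.prime_two⟩
  have hK : ∀ a : A, (a : G) ∈ centralizer (A : Set G) → a = 1 ∨ a = z := fun a ha => by
    refine (h.ker a).mp ?_
    rw [← mem_bot, ← center_GG, mem_center_iff]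
    intro y
    obtain ⟨y, rfl⟩ := h.surj y
    rw [← map_mul, ← map_mul]
    exact congrArg π (Subtype.ext (ha y y.2))
  have huq := fun s => hc.uniq_K_of_cyclic hR (s := s)
  have hzz : (z : G) * z = 1 := congrArg Subtype.val h.zz
  have hcz : ∀ a : A, Commute (a : G) z := fun a => congrArg Subtype.val (h.comm a)
  obtain ⟨huu, x, hx⟩ := h.lifts.1 u hu
  have huu' : (u : G) * u = 1 := congrArg Subtype.val huu
  -- an element of order four in the centraliser
  obtain ⟨r, hr, hr2⟩ : ∃ r ∈ centralizer (A : Set G), r * r = z := by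
    have h1 : (g⁻¹ * x * g) ^ 4 = z := by
      have := conj_pow (i := 4) (a := g⁻¹) (b := (x : G))
      rw [inv_inv] at this
      rw [this, ← coe_pow, hx, ← e]; group
    obtain ⟨a, ha, k, hk, e1⟩ := hi (g⁻¹ * x * g) (h1 ▸ Commute.self_pow _ 4)
    rw [e1, (comm_of_mem ha hk).mul_pow] at h1
    have h2 : k ^ 4 = ((⟨a, ha⟩⁻¹ ^ 4 * z : A) : G) := by
      rw [coe_mul, coe_pow, coe_inv, ← h1, inv_pow, inv_mul_cancel_left]
    rcases hK _ (h2 ▸ pow_mem hk 4) with e2 | e2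
    · exact absurd (by rw [inv_pow, inv_mul_eq_one] at e2; exact e2) (h.four_ne ⟨a, ha⟩)
    · exact ⟨k ^ 2, pow_mem hk 2, by rw [← pow_add, h2, e2]⟩
  have hB := hc.conj g
  rw [e] at hB
  set K := centralizer ((MulAut.conj g • A : Subgroup G) : Set G) with hKdef
  have hKg : K = MulAut.conj g • centralizer (A : Set G) := centralizer_conj_smul A g
  let T : Subgroup G := ((P 0).comap π).map A.subtype
  have hT : IsPGroup 2 T := h.pgroup.map _
  have hTu : ∀ y ∈ T, Commute y (u : G) := by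
    rintro _ ⟨y, hy, rfl⟩
    exact congrArg Subtype.val (h.comm_t hu hy)
  have hTN : T ≤ normalizer (K : Set G) := fun y hy => by
    rw [hKdef, ← hB.std.2.2.2, hB.norm_eq]
    exact mem_cent1.mpr (hTu y hy)
  obtain ⟨S, hS, hTS⟩ := exists_isSylowIn_ge (H := T ⊔ K) hT le_sup_left
  have hS' := hS.inf_of_le_normalizer (N := K) (sup_le hTN le_normalizer)
  rw [inf_eq_right.mpr (le_sup_right : K ≤ T ⊔ K)] at hS'
  have hab : ∀ v ∈ S ⊓ K, ∀ w ∈ S ⊓ K, Commute v w := fun v hv w hw => by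
    have h1 := hS'.conj_smul g⁻¹
    rw [hKg, conj_inv_smul_conj_smul, ← hKg] at h1
    have h2 := hR h1.toSylow
    have m : ∀ y ∈ S ⊓ K, g⁻¹ * y * g⁻¹⁻¹ ∈ MulAut.conj g⁻¹ • (S ⊓ K) := fun y hy =>
      conj_mem_conj_smul.mpr hy
    have h3 := (IsCyclic.isMulCommutative
      (α := (h1.toSylow : Subgroup (centralizer (A : Set G))))).is_comm.comm
      ⟨⟨_, h1.le (m v hv)⟩, m v hv⟩ ⟨⟨_, h1.le (m w hw)⟩, m w hw⟩
    have h4 : g⁻¹ * v * g⁻¹⁻¹ * (g⁻¹ * w * g⁻¹⁻¹) = g⁻¹ * w * g⁻¹⁻¹ * (g⁻¹ * v * g⁻¹⁻¹) :=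
      congrArg (fun y => ((y.1 : centralizer (A : Set G)) : G)) h3
    rw [conj_mul, conj_mul] at h4
    exact mul_left_cancel (mul_right_cancel h4)
  have hr' : g * r * g⁻¹ ∈ K := hKg ▸ conj_mem_conj_smul.mpr hr
  have hr4 : (g * r * g⁻¹) * (g * r * g⁻¹) = u := by rw [conj_mul, hr2, e]
  obtain ⟨k, hk, hτ⟩ := hS'.exists_conj_le (Q := zpowers (g * r * g⁻¹))
    (isPGroup_zpowers_of_pow (k := 2) (by
      rw [show (2 : ℕ) ^ 2 = 2 + 2 from rfl, pow_add, pow_two, hr4, huu'])) (by rwa [zpowers_le])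
  have hτ1 := hτ (conj_mem_conj_smul.mpr (mem_zpowers _))
  have hτ2 : k * (g * r * g⁻¹) * k⁻¹ * (k * (g * r * g⁻¹) * k⁻¹) = u := by
    rw [conj_mul, hr4, ← (comm_of_mem hB.memA hk).eq, mul_inv_cancel_right]
  generalize k * (g * r * g⁻¹) * k⁻¹ = τ at hτ1 hτ2
  have hzB : (z : G) ∈ MulAut.conj g • A := by
    have := hc.conj_mem_of_uniq huq (fun y hy _ => hi y hy) (g := g⁻¹) (by
      have h1 := hcz u
      rw [← e] at h1
      calc g⁻¹ * z * g⁻¹⁻¹ * z = g⁻¹ * (z * (g * z * g⁻¹)) * g := by group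
        _ = _ := by rw [← h1.eq]; group)
    rwa [inv_inv, ← mem_conj_smul] at this
  obtain ⟨a, ha, k, hk, rfl⟩ := hi τ (comm_of_mem hzB hτ1.2).symm
  have hak := comm_of_mem ha hk
  obtain ⟨κ, hκ, hκ1⟩ : ∃ κ : A, (κ : G) = k * k ∧ π κ = 1 := by
    have h1 : (((⟨a, ha⟩ * ⟨a, ha⟩)⁻¹ * u : A) : G) = k * k := by
      rw [coe_mul, coe_inv, coe_mul, ← hτ2, inv_mul_eq_iff_eq_mul]
      calc a * k * (a * k) = a * (k * a) * k := by group
        _ = _ := by rw [← hak.eq]; group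
    exact ⟨_, h1, (h.ker _).mpr (hK _ (h1 ▸ mul_mem hk hk))⟩
  refine no_cyc (g := π ⟨a, ha⟩) ?_ fun y hy => ?_
  · rw [← hu, ← mul_one (_ * _), ← hκ1, ← map_mul, ← map_mul]
    refine congrArg π (Subtype.ext ?_)
    rw [coe_mul, coe_mul, hκ, ← hτ2]
    calc a * a * (k * k) = a * (a * k) * k := by group
      _ = a * (k * a) * k := by rw [hak.eq]
      _ = _ := by group
  · obtain ⟨y, rfl⟩ := h.surj y
    have hyT : (y : G) ∈ T := ⟨y, hy, rfl⟩
    have h1 : y * (a * k) * (y : G)⁻¹ ∈ S ⊓ K :=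
      ⟨S.mul_mem (S.mul_mem (hTS hyT) hτ1.1) (S.inv_mem (hTS hyT)),
        (mem_normalizer_iff.mp (hTN hyT) _).mp hτ1.2⟩
    have h2 : y * (a * k) * (y : G)⁻¹ * (y * (a * k) * (y : G)⁻¹) = u := by
      rw [conj_mul, hτ2, (hTu y hyT).eq, mul_inv_cancel_right]
    have h3 := hab _ h1 _ hτ1
    have h4 : ((y * ⟨a, ha⟩ * y⁻¹ * ⟨a, ha⟩ * κ : A) : G) = y * (a * k) * (y : G)⁻¹ * (a * k) := by
      simp only [coe_mul, coe_inv, hκ]
      calc (y : G) * a * (y : G)⁻¹ * a * (k * k) = y * a * ((y : G)⁻¹ * a * k) * k := by group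
        _ = y * a * (k * ((y : G)⁻¹ * a)) * k := by
          rw [(comm_of_mem (mul_mem (inv_mem y.2) ha) hk).eq]
        _ = _ := by group
    have h5 : π y * π ⟨a, ha⟩ * (π y)⁻¹ * π ⟨a, ha⟩ = π (y * ⟨a, ha⟩ * y⁻¹ * ⟨a, ha⟩ * κ) := by
      simp only [map_mul, map_inv, hκ1, mul_one]
    rw [h5]
    generalize y * (a * k) * (y : G)⁻¹ = τ' at h1 h2 h3 h4
    have h6 := huq (g⁻¹ * (τ' * (a * k)) * g) (mem_conj_smul.mp (hKg ▸ mul_mem h1.2 hτ1.2)) (by
      calc g⁻¹ * (τ' * (a * k)) * g * (g⁻¹ * (τ' * (a * k)) * g)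
          = g⁻¹ * (τ' * ((a * k) * τ') * (a * k)) * g := by group
        _ = g⁻¹ * (τ' * τ' * (a * k * (a * k))) * g := by rw [← h3.eq]; group
        _ = 1 := by rw [h2, hτ2, huu']; group)
    rw [← h4] at h6
    rcases h6 with h6 | h6
    · left
      rw [← map_one π]
      refine congrArg π (Subtype.ext ?_)
      exact conj_eq_one_iff.mp (by rw [inv_inv]; exact h6 : g⁻¹ * _ * g⁻¹⁻¹ = 1)
    · right
      rw [← hu]
      refine congrArg π (Subtype.ext ?_)
      rw [← e, ← h6]; group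

theorem normal (hO : oddCore G = ⊥) (hA : IsStandardSubgroup A) (hZ : Nat.card (center A) = 2)
    (e : A ⧸ center A ≃* Ru)
    (hR : ∀ R : Sylow 2 (centralizer (A : Set G)), IsCyclic (R : Subgroup (centralizer (A : Set G)))) :
    A.Normal := by
  by_contra hn
  obtain ⟨z, hz, hz'⟩ := (Nat.card_eq_two_iff' (1 : center A)).mp hZ
  let π : A →* GG := (e.trans equivGG).toMonoidHom.comp (QuotientGroup.mk' _)
  have hk : ∀ a : A, a ∈ center A ↔ a = 1 ∨ a = z := fun a => ⟨fun ha => by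
    by_cases h1 : a = 1
    · exact Or.inl h1
    · exact Or.inr (congrArg Subtype.val (hz' ⟨a, ha⟩ fun h2 => h1 (congrArg Subtype.val h2))),
    fun ha => ha.elim (fun h1 => h1 ▸ one_mem _) fun h1 => h1 ▸ z.2⟩
  have h : Cov π z := ⟨hA.1.1, (e.trans equivGG).surjective.comp (QuotientGroup.mk'_surjective _), z.2,
    fun h1 => hz (Subtype.ext h1), fun a => by
      rw [← hk, ← QuotientGroup.eq_one_iff]
      exact (e.trans equivGG).map_eq_one_iff⟩
  have hc : Ctr A ((z : A) : G) := ⟨hA, orderOf_eq_two_of (congrArg Subtype.val h.zz)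
    fun h1 => h.ne (Subtype.ext h1), z.1.2, fun y hy => congrArg Subtype.val (h.comm ⟨y, hy⟩),
    fun y hy hy' _ => ((hk ⟨y, hy⟩).mp (mem_center_iff.mpr fun w => Subtype.ext (hy' w w.2))).imp
      (congrArg Subtype.val) (congrArg Subtype.val)⟩
  have hi : ∀ y : G, Commute y (z : A) → Inner A y := fun y hy =>
    inner_of_out hA.1.1 ((H42.card_Out_congr e).trans card_out_Ru) (hc.norm_eq.ge (mem_cent1.2 hy))
  obtain ⟨g, h1, h2⟩ := exists_conj_comm hA hO hn hc.ord hc.memK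
  have h3 := hc.conj_mem_of_uniq (fun s => hc.uniq_K_of_cyclic hR) (fun y hy _ => hi y hy) h1
  obtain ⟨c, h4⟩ := h.conj_t (u := ⟨_, h3⟩) (Subtype.ext (mul_self_of_orderOf_two (hc.conj g).ord))
    fun h4 => ((h.ker _).mp h4).elim
      (fun h5 => ne_one_of_orderOf_two (hc.conj g).ord (congrArg Subtype.val h5))
      fun h5 => h2 (congrArg Subtype.val h5)
  exact main h hc hR hi (g := c * g) h4 (by simp only [coe_mul, coe_inv]; group)

end Cfsg.Agent.H41.Ru2
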