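import Cfsg.Agent.H85.LpB0

/-! Project CY, chapter LP, piece B4: one class of involutions and the count. -/

set_option autoImplicit false

namespace Cfsg.Agent.H41.CyB4c

open Subgroup MulAction Cfsg.Agent.H11.Cy Cfsg.Agent.H11.Cy.Lp Cfsg.Agent.H85.LpB0

section
open Finset

theorem cnt (G : Type) [Group G] [Finite G] (Ω : Type) [Finite Ω] [MulAction G Ω]
    (htr : ∀ x y : Ω, ∃ g : G, g • x = y)
    (hcj : ∀ a b : G, orderOf a = 2 → orderOf b = 2 → IsConj a b)
    (hfx : ∀ x y : Ω, x ≠ y → ∃ t : G, orderOf t = 2 ∧ t • x = x ∧ t • y = y ∧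
      ∀ u : G, orderOf u = 2 → u • x = x → u • y = y → u = t)
    (hsw : ∀ x y : Ω, x ≠ y → {s : G | orderOf s = 2 ∧ s • x = y}.ncard = 2)
    {a b : Ω} (hab : a ≠ b) {t : G} (ht : orderOf t = 2) (ta : t • a = a) (tb : t • b = b) :
    ∃ k, (fixedBy Ω t).ncard = k + 2 ∧ Nat.card Ω = (2 * k + 5) * (k + 1) + 1 := by
  classical
  have := Fintype.ofFinite G
  have := Fintype.ofFinite Ω
  obtain ⟨I, hI⟩ : ∃ I : Finset G, ∀ s, s ∈ I ↔ orderOf s = 2 :=
    ⟨univ.filter _, fun s => by simp; rfl⟩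
  obtain ⟨m, hm⟩ : ∃ m, #{x : Ω | t • x = x} = m := ⟨_, rfl⟩
  obtain ⟨i, hi⟩ : ∃ i, #{s ∈ I | s • a = a} = i := ⟨_, rfl⟩
  have cm : ∀ s ∈ I, #{x : Ω | s • x = x} = m := fun s hs => by
    obtain ⟨g, rfl⟩ := isConj_iff.1 (hcj t s ht ((hI s).1 hs))
    rw [← hm]
    refine (card_equiv (MulAction.toPerm g) fun x => ?_).symm
    simp [mul_smul]
  have ci : ∀ x : Ω, #{s ∈ I | s • x = x} = i := fun x => by
    obtain ⟨g, rfl⟩ := htr a x
    rw [← hi]
    refine (card_equiv (MulAut.conj g).toEquiv fun s => ?_).symm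
    have := (MulAut.conj g).orderOf_eq s
    simp only [MulAut.conj_apply] at this
    simp [mul_smul, hI, this]
  have h1 : #I = i + #(univ.erase a) * 2 := by
    rw [card_eq_sum_card_fiberwise (f := fun s => s • a) (t := univ) (fun _ _ => mem_univ _),
      ← add_sum_erase _ _ (mem_univ a), hi, sum_const_nat]
    intro y hy
    rw [← hsw a y (ne_of_mem_erase hy).symm, ← Set.ncard_coe_finset]
    congr 1
    ext s
    simp [hI]
  have h2 : #(univ.erase a) * 1 = #{s ∈ I | s • a = a} * (m - 1) := by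
    refine card_mul_eq_card_mul (fun x s => s • x = x) (fun x hx => ?_) fun s hs => ?_
    · obtain ⟨u, h1, h2, h3, h4⟩ := hfx a x (ne_of_mem_erase hx).symm
      refine card_eq_one.2 ⟨u, eq_singleton_iff_unique_mem.2
        ⟨by simp [hI, h1, h2, h3], fun v hv => ?_⟩⟩
      simp only [mem_bipartiteAbove, mem_filter, hI] at hv
      exact h4 v hv.1.1 hv.1.2 hv.2
    · rw [mem_filter] at hs
      rw [← cm s hs.1, ← card_erase_of_mem (a := a) (by simp [hs.2])]
      congr 1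
      ext x
      simp
  have h3 : #I * m = #(univ : Finset Ω) * i :=
    card_mul_eq_card_mul (fun s x => s • x = x) cm fun x _ => ci x
  have h4 : #(univ : Finset Ω) = #(univ.erase a) + 1 := (card_erase_add_one (mem_univ a)).symm
  have m2 : 1 < m := hm ▸ one_lt_card.2 ⟨a, by simp [ta], b, by simp [tb], hab⟩
  have i0 : 0 < i := hi ▸ card_pos.2 ⟨t, by simp [hI, ht, ta]⟩
  obtain ⟨k, rfl⟩ : ∃ k, m = k + 2 := ⟨m - 2, by omega⟩
  rw [hi, mul_one, show k + 2 - 1 = k + 1 from rfl] at h2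
  rw [h2] at h1 h4
  have h4' := h4
  rw [h1, h4] at h3
  have h5 : (2 * k + 3) * (k + 2) = i * (k + 1) + 1 :=
    Nat.eq_of_mul_eq_mul_right i0 (by rw [← h3]; ring)
  have h6 : i = 2 * k + 5 := Nat.eq_of_mul_eq_mul_right (Nat.succ_pos k) (by
    change i * (k + 1) = (2 * k + 5) * (k + 1)
    nlinarith)
  refine ⟨k, ?_, ?_⟩
  · rw [← hm, ← Set.ncard_coe_finset]
    congr 1
    ext x
    simp
  · rw [Nat.card_eq_fintype_card, ← card_univ, h4', h6]

end

variable {G : Type} [Group G] [Finite G] {Ω : Type} [Finite Ω] [MulAction G Ω] {p : ℕ}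
  {A : Ω → Subgroup G} {x y : Ω}

omit [Finite Ω] in
theorem cardH (l : L2 p A) (hxy : x ≠ y) {u v : Ω} (huv : u ≠ v) :
    Nat.card (Hs G u v) = Nat.card (Hs G x y) := by
  have h1 := l.cG x
  have h2 := l.cG u
  rw [l.cH x y hxy] at h1
  rw [l.cH u v huv, h1] at h2
  have h0 : 0 < Nat.card G := Nat.card_pos
  rw [h1] at h0
  have a1 : 0 < Nat.card Ω := Nat.pos_of_mul_pos_right h0 |> fun _ => by
    rcases Nat.eq_zero_or_pos (Nat.card Ω) with e | e
    · rw [e] at h0; simp at h0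
    · exact e
  have a2 : 0 < Nat.card Ω - 1 := by
    rcases Nat.eq_zero_or_pos (Nat.card Ω - 1) with e | e
    · rw [e] at h0; simp at h0
    · exact e
  exact (Nat.eq_of_mul_eq_mul_left a2 (Nat.eq_of_mul_eq_mul_left a1 h2)).symm

omit [Finite Ω] in
/-- `E1` at every pair -/
theorem e1all (l : L2 p A) (p5 : p = 5) (hxy : x ≠ y) (e : E1 A x y) {u v : Ω} (huv : u ≠ v) :
    E1 A u v := by
  by_contra hn
  obtain ⟨f, s, c⟩ := l.lc x y hxy
  obtain ⟨f', s', c'⟩ := l.lc u v huv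
  have h1 := (l.lt x y hxy f s c).e1c e
  have h2 := (l.lt u v huv f' s' c').e2c hn
  have o1 := c.fo
  have o2 := c'.fo
  have o3 : orderOf f = 2 := by omega
  have o4 : orderOf f' = 2 := by omega
  rw [cardH l hxy huv, h1, o3, o4, l.cK x y u v hxy huv] at h2
  have : 0 < Nat.card (Kl A u v) := Nat.card_pos
  omega

omit [Finite Ω] in
/-- the involutions interchanging `u` and `v` -/
theorem sw (l : L2 p A) (p5 : p = 5) (hxy : x ≠ y) (ho : Odd (Nat.card (Kl A x y))) (e : E1 A x y)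
    {u v : Ω} (huv : u ≠ v) {f s : G} (c : LC p A u v f s) {a : G} (a2 : orderOf a = 2)
    (au : a • u = v) : a = s ∨ a = f * s := by
  have o3 : orderOf f = 2 := by have := c.fo; omega
  have av : a • v = u := by rw [← au, ← mul_smul, sq_of a2, one_smul]
  have hH : a * s ∈ Hs G u v :=
    ⟨show (a * s) • u = u by rw [mul_smul, c.sx, av], show (a * s) • v = v by
      rw [mul_smul, c.sy, au]⟩
  obtain ⟨k, hk, n, hn⟩ := (l.lt u v huv f s c).kf _ hH (e1all l p5 hxy e huv hH)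
  have ss := sq_of c.so
  have ea : a = k * (f ^ n * s) := by
    rw [← mul_assoc, ← hn, mul_assoc, ss, mul_one]
  have hL : f ^ n * s ∈ Fl A u v := mul_mem (pow_mem c.fL n) c.sL
  have cm : (f ^ n * s) * k = k * (f ^ n * s) := mem_centralizer_iff.1 hk _ hL
  have h1 : k * k * ((f ^ n * s) * (f ^ n * s)) = 1 := by
    have := sq_of a2
    rw [ea] at this
    rw [← this]
    calc k * k * ((f ^ n * s) * (f ^ n * s)) = k * (k * (f ^ n * s)) * (f ^ n * s) := by group
      _ = k * ((f ^ n * s) * k) * (f ^ n * s) := by rw [cm]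
      _ = _ := by group
  have h2 : k * k = 1 := by
    refine (l.la u v huv).ctr _ ?_ (mul_mem hk hk)
    rw [eq_inv_of_mul_eq_one_left h1]
    exact inv_mem (mul_mem hL hL)
  have k1 : k = 1 := odd_one (l.cK x y u v hxy huv ▸ ho) hk h2
  rw [k1, one_mul] at ea
  rw [← pow_mod_orderOf, o3] at ea
  rcases Nat.mod_two_eq_zero_or_one n with h | h <;> rw [h] at ea
  · left; simpa using ea
  · right; simpa using ea

omit [Finite Ω] in
/-- one class of involutions -/
theorem one (h : St p A) (l : L2 p A) (p5 : p = 5) (hxy : x ≠ y)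
    (ho : Odd (Nat.card (Kl A x y))) (e : E1 A x y) :
    ∀ a b : G, orderOf a = 2 → orderOf b = 2 → IsConj a b := by
  have o : ∀ u v, u ≠ v → Odd (Nat.card (Kl A u v)) := fun u v huv => l.cK x y u v hxy huv ▸ ho
  obtain ⟨f0, s0, c0⟩ := l.lc x y hxy
  have o0 : orderOf f0 = 2 := by have := c0.fo; omega
  have key : ∀ a : G, orderOf a = 2 → IsConj f0 a := by
    intro a a2
    obtain ⟨u, hu⟩ : ∃ u : Ω, a • u ≠ u := by
      by_contra k
      push Not at k
      exact ne_of a2 (h.faith a k)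
    obtain ⟨f, s, c⟩ := l.lc u (a • u) hu.symm
    have o3 : orderOf f = 2 := by have := c.fo; omega
    have aL : a ∈ Fl A u (a • u) := by
      rcases sw l p5 hxy ho e hu.symm c a2 rfl with k | k
      · rw [k] at c ⊢; exact k ▸ c.sL
      · have := mul_mem c.fL c.sL
        rwa [← k] at this
    obtain ⟨g, -, hg⟩ := (l.lv u _ hu.symm).cls f c.fL a aL o3 a2
    obtain ⟨g', -, e1, e2⟩ := h.two x trivial y trivial u trivial (a • u) trivial hxy hu.symm
    have : g' * f0 * g'⁻¹ = f := by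
      refine uniq h l.toL1 (by omega) o hu.symm ?_ (conj_ord g' o0) c.fH o3
      exact ⟨e1 ▸ conj_fix c0.fH.1, e2 ▸ conj_fix c0.fH.2⟩
    exact (isConj_iff.2 ⟨g', this⟩).trans (isConj_iff.2 ⟨g, hg⟩)
  exact fun a b a2 b2 => (key a a2).symm.trans (key b b2)

/-- the count: `n - 1 = (2w + 1)(w - 1)` -/
theorem count (h : St p A) (l : L2 p A) (p5 : p = 5) (hxy : x ≠ y)
    (ho : Odd (Nat.card (Kl A x y))) (e : E1 A x y) :
    ∀ z ∈ Hs G x y, orderOf z = 2 →
      ∃ k, (fixedBy Ω z).ncard = k + 2 ∧ Nat.card Ω = (2 * k + 5) * (k + 1) + 1 := by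
  intro z hz z2
  have o : ∀ u v, u ≠ v → Odd (Nat.card (Kl A u v)) := fun u v huv => l.cK x y u v hxy huv ▸ ho
  refine cnt G Ω (fun u v => ?_) (one h l p5 hxy ho e) (fun u v huv => ?_) (fun u v huv => ?_)
    hxy z2 hz.1 hz.2
  · by_cases k : u = v
    · exact ⟨1, by rw [one_smul, k]⟩
    · obtain ⟨g, -, e1, -⟩ := h.two u trivial v trivial v trivial u trivial k (Ne.symm k)
      exact ⟨g, e1⟩
  · obtain ⟨f, s, c⟩ := l.lc u v huv
    have o3 : orderOf f = 2 := by have := c.fo; omega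
    exact ⟨f, o3, c.fH.1, c.fH.2, fun t t2 h1 h2 =>
      uniq h l.toL1 (by omega) o huv ⟨h1, h2⟩ t2 c.fH o3⟩
  · obtain ⟨f, s, c⟩ := l.lc u v huv
    have o3 : orderOf f = 2 := by have := c.fo; omega
    have fs : (f * s) • u = v := by rw [mul_smul, c.sx]; exact c.fH.2
    have fs2 : orderOf (f * s) = 2 := by
      refine ord_of ?_ fun k => huv (by rw [← fs, k, one_smul])
      calc f * s * (f * s) = f * (s * f * s⁻¹) * (s * s) := by group
        _ = 1 := by rw [c.sf, sq_of c.so]; group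
    rw [Set.ncard_eq_two]
    refine ⟨s, f * s, fun k => ne_of o3 (by simpa using k), Set.ext fun a => ⟨fun ha => ?_, ?_⟩⟩
    · exact sw l p5 hxy ho e huv c ha.1 ha.2
    · rintro (rfl | rfl)
      · exact ⟨c.so, c.sx⟩
      · exact ⟨fs2, fs⟩

theorem ne4 (h : St p A) (l : L2 p A) (p5 : p = 5) (hxy : x ≠ y)
    (ho : Odd (Nat.card (Kl A x y))) (e : E1 A x y) :
    ∀ z ∈ Hs G x y, orderOf z = 2 → (fixedBy Ω z).ncard ≠ 4 := by
  intro z hz z2 h4
  obtain ⟨k, h1, h2⟩ := count h l p5 hxy ho e z hz z2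
  have hk : k = 2 := by omega
  have := l.pn
  rw [h2, hk, p5] at this
  omega

end Cfsg.Agent.H41.CyB4c
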