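import Mathlib
import Cfsg.Agent.H41.DihPA

/-! Involution centraliser with Sylow 2-subgroup `⟨t⟩ × dihedral`: a subgroup of index two. -/

set_option autoImplicit false
set_option linter.unusedSectionVars false

namespace Cfsg.Agent.H41.Dih

open Subgroup Cfsg.Agent.H8
open scoped Pointwise

variable {G : Type*} [Group G] [Finite G]

theorem cj_cj (g w x : G) : cj (cj g w) x = cj g (cj w (cj g⁻¹ x)) := by simp [cj, mul_assoc]

/-- elements fixing `z` and the set `{t, t z}` -/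
def MM (t z : G) (zz : z * z = 1) : Subgroup G :=
  sub (fun g => cj g z = z ∧ (cj g t = t ∨ cj g t = t * z)) (by simp [one_cj]) (by
    rintro x y ⟨hx, hx'⟩ ⟨hy, hy'⟩
    refine ⟨by rw [cj_mul_left, hy, hx], ?_⟩
    rcases hx' with hx' | hx' <;> rcases hy' with hy' | hy' <;>
      simp [cj_mul_left, hy', cj_mul, hx, hx', mul_assoc, zz])

theorem mem_MM {t z g : G} {zz : z * z = 1} :
    g ∈ MM t z zz ↔ cj g z = z ∧ (cj g t = t ∨ cj g t = t * z) := Iff.rfl

theorem MM_cj {t z g w : G} {zz : z * z = 1} (hg : g ∈ MM t z zz) (hz : cj w z = z)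
    (ht : cj w t = t) : cj (cj g w) t = t := by
  obtain ⟨-, h | h⟩ := (MM t z zz).inv_mem hg
  · have h' := cj_inv_eq h
    rw [inv_inv] at h'
    rw [cj_cj, h, ht, h']
  · rw [cj_cj, h, cj_mul w, ht, hz, ← h, cj_cj_inv]

theorem MM_cj' {t z g w : G} {zz : z * z = 1} (hg : g ∈ MM t z zz) (hz : cj w z = z)
    (ht : cj w t = t * z) : cj (cj g w) t = t * z := by
  obtain ⟨-, h | h⟩ := (MM t z zz).inv_mem hg
  · have h' := cj_inv_eq h
    rw [inv_inv] at h'
    rw [cj_cj, h, ht, cj_mul, h', hg.1]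
  · have h' := cj_inv_eq h
    rw [inv_inv] at h'
    have h'' : cj g t = t * z := by
      rw [cj_mul, hg.1] at h'
      rw [← mul_left_inj z, h', mul_assoc, zz, mul_one]
    rw [cj_cj, h, cj_mul w, ht, hz, mul_assoc, zz, mul_one, h'']

namespace Hy

variable {t c a z f : G} {m : ℕ} (h : Hy t c a m) (hz : c ^ (2 * 2 ^ m : ℤ) = z)
  (hf : c ^ (2 ^ m : ℤ) = f)
include h hz

theorem zsq : z * z = 1 := hz ▸ h.zz
theorem zne : z ≠ 1 := hz ▸ h.z_ne

theorem nz : z * z = 1 ∧ (∀ x, z * (z * x) = x) ∧ z * a = a * z ∧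
    (∀ x, z * (a * x) = a * (z * x)) ∧ z * t = t * z ∧ (∀ x, z * (t * x) = t * (z * x)) ∧
    a * t = t * a ∧ (∀ x, a * (t * x) = t * (a * x)) ∧ t * t = 1 ∧ (∀ x, t * (t * x) = x) ∧
    a * a = 1 ∧ (∀ x, a * (a * x) = x) ∧ t⁻¹ = t ∧ a⁻¹ = a ∧ z⁻¹ = z := by
  have h1 : z * a = a * z := by rw [← hz, h.ca, h.zneg]
  have h2 : z * t = t * z := by rw [← hz, h.ct]
  refine ⟨h.zsq hz, fun x => ?_, h1, fun x => ?_, h2, fun x => ?_, h.ta.symm, fun x => ?_, h.tt,
    fun x => ?_, h.aa, fun x => ?_, inv_eq_of_mul_eq_one_right h.tt,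
    inv_eq_of_mul_eq_one_right h.aa, inv_eq_of_mul_eq_one_right (h.zsq hz)⟩
  · rw [← mul_assoc, h.zsq hz, one_mul]
  · rw [← mul_assoc, h1, mul_assoc]
  · rw [← mul_assoc, h2, mul_assoc]
  · rw [← mul_assoc, ← h.ta, mul_assoc]
  · rw [← mul_assoc, h.tt, one_mul]
  · rw [← mul_assoc, h.aa, one_mul]

theorem a_ne : a ≠ 1 ∧ a ≠ z := by
  obtain ⟨ρ, -, h1, h2⟩ := h.loc 0
  rw [hz, zpow_zero, mul_one] at h1 h2
  refine ⟨fun e => h.zne hz (cj_inj ρ (by rw [h1, cj_one, e])), fun e => ?_⟩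
  rw [e, h1, h.zsq hz] at h2
  exact h.zne hz (e ▸ h2)

theorem RM : closure ({t, c, a} : Set G) ≤ MM t z (h.zsq hz) := fun _ hx =>
  ⟨hz ▸ h.Rz hx, Or.inl (h.RC hx)⟩

theorem exists_g : ∃ g, cj g (t * z) = t ∧ cj g z = z ∧
    ∀ w ∈ closure ({t, c, a} : Set G), cj g w ∈ closure ({t, c, a} : Set G) := by
  obtain ⟨g, hg, hR⟩ := h.conj_in (hz ▸ h.tz_conj : IsConj t (t * z)) h.syl.isPGroup
    (fun w hw => cj_eq_iff.mp (by rw [cj_mul, h.RC hw, (h.RM hz hw).1]))
  refine ⟨g, hg, ?_, hR⟩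
  obtain ⟨j, hj⟩ := h.sqR (hR _ (h.cR (2 ^ m)))
  rw [← cj_mul, cc, ← two_mul, hz] at hj
  rcases h.two_cases (j + j) (by rw [← cc, ← hj]; exact cj_sq g (h.zsq hz)) with e | e
  · exact absurd (cj_inj g (by rw [hj, e, cj_one])) (h.zne hz)
  · rw [hj, e, hz]

theorem exists_h : (∃ k, cj k z = z ∧ cj k a = a ∧ cj k t = t * a) ∧
    ∃ k, cj k z = z ∧ cj k a = a ∧ cj k t = t * z := by
  obtain ⟨g, g1, g2, g3⟩ := h.exists_g hz
  obtain ⟨j, hj⟩ := h.refl_of (g := g) (by rw [hz, g2]) 0 (g3 _ (by simpa using h.aR))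
  rw [zpow_zero, mul_one] at hj
  obtain ⟨σ, s1, s2, s3⟩ := h.loc j
  obtain ⟨ρ, r1, r2, r3⟩ := h.loc 0
  rw [hz, ← hj] at s2 s3
  rw [hz, zpow_zero, mul_one] at r2 r3
  have e1 : cj (g⁻¹ * σ * g) (t * z) = t * z := by
    rw [cj_mul_left, cj_mul_left, g1, s1, cj_inv_eq g1]
  have e2 : cj (g⁻¹ * σ * g) z = a := by rw [cj_mul_left, cj_mul_left, g2, s2, cj_inv_cj]
  have e3 : cj (g⁻¹ * σ * g) a = a * z := by
    rw [cj_mul_left, cj_mul_left, s3, cj_mul, cj_inv_cj, cj_inv_eq g2]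
  have e4 : cj (g⁻¹ * σ * g) t = t * (a * z) := by
    have : t = t * z * z := by simp only [mul_assoc, h.nz hz, mul_one]
    conv_lhs => rw [this]
    rw [cj_mul, e1, e2]
    simp only [mul_assoc, h.nz hz]
  have k1 : cj (ρ⁻¹ * (g⁻¹ * σ * g)) z = z := by rw [cj_mul_left, e2, cj_inv_eq r2]
  have k2 : cj (ρ⁻¹ * (g⁻¹ * σ * g)) a = a := by rw [cj_mul_left, e3, cj_inv_eq r3]
  have k3 : cj (ρ⁻¹ * (g⁻¹ * σ * g)) t = t * a := by
    rw [cj_mul_left, e4, cj_mul, cj_inv_eq r1, cj_inv_eq r3]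
  generalize ρ⁻¹ * (g⁻¹ * σ * g) = k at k1 k2 k3
  refine ⟨⟨k, k1, k2, k3⟩, ρ⁻¹ * k * ρ, ?_, ?_, ?_⟩
  · rw [cj_mul_left, cj_mul_left, r2, k2, cj_inv_eq r2]
  · rw [cj_mul_left, cj_mul_left, r3, cj_mul, k1, k2, cj_inv_eq r3]
  · rw [cj_mul_left, cj_mul_left, r1, k3, cj_mul, cj_inv_eq r1, cj_inv_eq r2]

theorem cenR {x : G} (hx : x ∈ closure ({t, c, a} : Set G)) (hc : x * a = a * x) :
    ∃ v, (v = 1 ∨ v = z ∨ v = a ∨ v = a * z) ∧ (x = v ∨ x = t * v) := by
  have key : ∀ j : ℤ, c ^ (-j) = c ^ j → c ^ j = 1 ∨ c ^ j = z := fun j e => by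
    rw [← hz]
    exact h.two_cases j (by rw [← cc]; nth_rw 1 [← e]; rw [cc, neg_add_cancel, zpow_zero])
  obtain ⟨j, rfl | rfl | rfl | rfl⟩ := h.memR.mp hx <;>
    simp only [mul_assoc, h.nf, mul_right_inj] at hc
  · rcases key j hc with e | e <;> rw [e] <;> exact ⟨_, by simp, Or.inl rfl⟩
  · rcases key j hc with e | e <;> rw [e] <;> exact ⟨_, by simp, Or.inl rfl⟩
  · rcases key j hc with e | e <;> rw [e] <;> exact ⟨_, by simp, Or.inr rfl⟩
  · rcases key j hc with e | e <;> rw [e] <;> exact ⟨_, by simp, Or.inr rfl⟩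

/-- `E = ⟨t, z, a⟩` is a Sylow 2-subgroup of its centraliser -/
theorem cenE {T : Subgroup G} (hT : IsPGroup 2 T) (ha : a ∈ T) {x : G} (hx : x ∈ T)
    (xt : cj x t = t) (xz : cj x z = z) (xa : cj x a = a) :
    ∃ v, (v = 1 ∨ v = z ∨ v = a ∨ v = a * z) ∧ (x = v ∨ x = t * v) := by
  have hS : IsSylowIn 2 (closure ({t, c, a} : Set G))
      (centralizer ({t} : Set G) ⊓ centralizer ({z} : Set G)) :=
    h.syl.mono (le_inf h.syl.le fun w hw => mem_cen.mpr (h.RM hz hw).1) inf_le_left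
  obtain ⟨k, ⟨kt, kz⟩, hk⟩ := exists_cj_le hS
    (hT.to_inf_left : IsPGroup 2 (T ⊓ (centralizer ({t} : Set G) ⊓ centralizer ({z} : Set G)) :
      Subgroup G)) inf_le_right
  replace kt := mem_cen.mp kt
  replace kz := mem_cen.mp kz
  have h1 := hk a ⟨ha, mem_cen.mpr (h.RC h.aR), mem_cen.mpr (h.RM hz h.aR).1⟩
  have h2 := hk x ⟨hx, mem_cen.mpr xt, mem_cen.mpr xz⟩
  obtain ⟨j, hj⟩ := h.refl_of (g := k) (by rw [hz, kz]) 0 (by simpa using h1)
  rw [zpow_zero, mul_one] at hj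
  obtain ⟨v, hv, e⟩ := (h.shift j).cenR hz (x := cj k x) (by rwa [h.shift_R])
    (by rw [← hj]; exact cj_comm k (cj_eq_iff.mp xa))
  refine ⟨cj k⁻¹ v, ?_, ?_⟩
  · rcases hv with rfl | rfl | rfl | rfl
    · exact Or.inl (cj_one _)
    · exact Or.inr (Or.inl (cj_inv_eq kz))
    · exact Or.inr (Or.inr (Or.inl (cj_inv_eq hj)))
    · exact Or.inr (Or.inr (Or.inr (by rw [cj_mul, cj_inv_eq hj, cj_inv_eq kz])))
  · rcases e with e | e
    · exact Or.inl (cj_inv_eq e).symm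
    · exact Or.inr (by rw [← cj_inv_eq e, cj_mul, cj_inv_eq kt])

theorem NR {N : Subgroup G} (hN : IsPGroup 2 N) (hRN : closure ({t, c, a} : Set G) ≤ N) {g : G}
    (hg : g ∈ N) (ht : cj g t = t) : g ∈ closure ({t, c, a} : Set G) := by
  have := h.syl.eq_of_le (hN.to_inf_left : IsPGroup 2 (N ⊓ centralizer ({t} : Set G) :
    Subgroup G)) inf_le_right (le_inf hRN h.syl.le)
  rw [← this]
  exact ⟨hg, mem_cen.mpr ht⟩

include hf

theorem nw {y : G} (yy : y * y = 1) (yt : cj y t = t * z) (ya : cj y a = a) (yf : cj y f = f) :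
    f * f = z ∧ (∀ x, f * (f * x) = z * x) ∧ z * f = f * z ∧ (∀ x, z * (f * x) = f * (z * x)) ∧
    f * a = a * (f * z) ∧ (∀ x, f * (a * x) = a * (f * (z * x))) ∧
    f * t = t * f ∧ (∀ x, f * (t * x) = t * (f * x)) ∧ f⁻¹ = f * z ∧
    y * y = 1 ∧ (∀ x, y * (y * x) = x) ∧ t * y = y * (t * z) ∧
    (∀ x, t * (y * x) = y * (t * (z * x))) ∧ a * y = y * a ∧ (∀ x, a * (y * x) = y * (a * x)) ∧
    f * y = y * f ∧ (∀ x, f * (y * x) = y * (f * x)) ∧
    z * y = y * z ∧ (∀ x, z * (y * x) = y * (z * x)) ∧ y⁻¹ = y := by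
  have h1 : f * f = z := by rw [← hf, cc, ← two_mul, hz]
  have h2 : z * f = f * z := by rw [← h1, mul_assoc]
  have h3 : f⁻¹ = f * z := inv_eq_of_mul_eq_one_right (by rw [← mul_assoc, h1, h.zsq hz])
  have h4 : f * a = a * (f * z) := by rw [← h3, ← hf, h.ca, zpow_neg]
  have h5 : f * t = t * f := by rw [← hf, h.ct]
  have h6 : f * y = y * f := (cj_eq_iff.mp yf).symm
  have h7 : z * y = y * z := by rw [← h1, mul_assoc, h6, ← mul_assoc, h6, mul_assoc]
  have hi : y⁻¹ = y := inv_eq_of_mul_eq_one_right yy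
  have h8 : t * y = y * (t * z) := by rw [← yt, cj, hi, ← mul_assoc, ← mul_assoc, yy, one_mul]
  have h9 : a * y = y * a := (cj_eq_iff.mp ya).symm
  refine ⟨h1, fun x => ?_, h2, fun x => ?_, h4, fun x => ?_, h5, fun x => ?_, h3, yy,
    fun x => ?_, h8, fun x => ?_, h9, fun x => ?_, h6, fun x => ?_, h7, fun x => ?_, hi⟩
  · rw [← mul_assoc, h1]
  · rw [← mul_assoc, h2, mul_assoc]
  · rw [← mul_assoc, h4]; simp only [mul_assoc]
  · rw [← mul_assoc, h5, mul_assoc]
  · rw [← mul_assoc, yy, one_mul]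
  · rw [← mul_assoc, h8]; simp only [mul_assoc]
  · rw [← mul_assoc, h9, mul_assoc]
  · rw [← mul_assoc, h6, mul_assoc]
  · rw [← mul_assoc, h7, mul_assoc]

/-- exactly one of `y`, `y t f` is conjugate to `t` -/
theorem step5 {N : Subgroup G} (hN : IsPGroup 2 N) (hRN : closure ({t, c, a} : Set G) ≤ N)
    {y : G} (hy : y ∈ N) (yy : y * y = 1) (yt : cj y t = t * z) (ya : cj y a = a)
    (yf : cj y f = f) : IsConj t y ↔ ¬ IsConj t (y * (t * f)) := by
  have w := h.nw hz hf yy yt ya yf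
  have n := h.nz hz
  have yz : cj y z = z := by simp only [cj, mul_assoc, w, n, mul_one]
  let L : Subgroup G := sub (fun g => cj g z = z ∧ (cj g a = a ∨ cj g a = a * z) ∧
      (cj g t = t ∨ cj g t = t * z ∨ cj g t = t * a ∨ cj g t = t * (a * z)))
    (by simp [one_cj]) (by
      rintro x u ⟨x1, x2, x3⟩ ⟨u1, u2, u3⟩
      refine ⟨by rw [cj_mul_left, u1, x1], ?_, ?_⟩
      · rcases x2 with x2 | x2 <;> rcases u2 with u2 | u2 <;>
          simp only [cj_mul_left, u2, cj_mul, x1, x2, mul_assoc, n, mul_one, true_or, or_true]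
      · rcases x2 with x2 | x2 <;> rcases x3 with x3 | x3 | x3 | x3 <;>
          rcases u3 with u3 | u3 | u3 | u3 <;>
          simp only [cj_mul_left, u3, cj_mul, x1, x2, x3, mul_assoc, n, mul_one, true_or, or_true])
  obtain ⟨k, k1, k2, k3⟩ := (h.exists_h hz).1
  have hL : (MM t z (h.zsq hz)).relIndex L = 2 := by
    refine two_of k ⟨k1, Or.inl k2, Or.inr (Or.inr (Or.inl k3))⟩ ?_ ?_
    · rintro ⟨-, e | e⟩
      · exact (h.a_ne hz).1 (by simpa [k3] using e)
      · exact (h.a_ne hz).2 (by simpa [k3] using e)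
    · rintro b ⟨b1, b2, b3⟩ hb
      refine ⟨by rw [cj_mul_left, k1, b1], ?_⟩
      rcases b3 with b3 | b3 | b3 | b3
      · exact absurd ⟨b1, Or.inl b3⟩ hb
      · exact absurd ⟨b1, Or.inr b3⟩ hb
      · rcases b2 with b2 | b2 <;>
          simp only [cj_mul_left, k3, cj_mul, b2, b3, mul_assoc, n, mul_one, true_or, or_true]
      · rcases b2 with b2 | b2 <;>
          simp only [cj_mul_left, k3, cj_mul, b2, b3, mul_assoc, n, mul_one, true_or, or_true]
  obtain ⟨T, hT, hNT⟩ := exists_isSylowIn_ge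
    (hN.to_inf_left : IsPGroup 2 (N ⊓ L : Subgroup G)) inf_le_right
  have bR : a * f ∈ closure ({t, c, a} : Set G) := mul_mem h.aR (hf ▸ h.cR _)
  have bz : cj (a * f) z = z := (h.RM hz bR).1
  have bt : cj (a * f) t = t := h.RC bR
  have ba : cj (a * f) a = a * z := by simp only [cj, mul_inv_rev, mul_assoc, w, n, mul_one]
  have bT : a * f ∈ T := hNT ⟨hRN bR, bz, Or.inr ba, Or.inl bt⟩
  have yT : y ∈ T := hNT ⟨hy, yz, Or.inl ya, Or.inr (Or.inl yt)⟩
  have aT : a ∈ T := hNT ⟨hRN h.aR, (h.RM hz h.aR).1, Or.inl (cj_eq_iff.mpr rfl),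
    Or.inl (h.RC h.aR)⟩
  obtain ⟨s, hs, s1, s2, s3⟩ : ∃ s ∈ T, cj s z = z ∧ cj s a = a ∧ cj s t = t * a := by
    obtain ⟨s, hs, s1, s2, s3⟩ : ∃ s ∈ T, cj s z = z ∧ cj s a = a ∧
        (cj s t = t * a ∨ cj s t = t * (a * z)) := by
      obtain ⟨s, hs, hsM⟩ := syl_not_le hT hL
      obtain ⟨s1, s2, s3⟩ := hT.le hs
      have s3' : cj s t = t * a ∨ cj s t = t * (a * z) := by
        rcases s3 with s3 | s3 | s3
        · exact absurd ⟨s1, Or.inl s3⟩ hsM
        · exact absurd ⟨s1, Or.inr s3⟩ hsM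
        · exact s3
      rcases s2 with s2 | s2
      · exact ⟨s, hs, s1, s2, s3'⟩
      · refine ⟨s * (a * f), mul_mem hs bT, by rw [cj_mul_left, bz, s1], ?_, by
          rwa [cj_mul_left, bt]⟩
        rw [cj_mul_left, ba, cj_mul, s1, s2]
        simp only [mul_assoc, n, mul_one]
    rcases s3 with s3 | s3
    · exact ⟨s, hs, s1, s2, s3⟩
    · refine ⟨s * y, mul_mem hs yT, by rw [cj_mul_left, yz, s1], by rw [cj_mul_left, ya, s2], ?_⟩
      rw [cj_mul_left, yt, cj_mul, s1, s3]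
      simp only [mul_assoc, n, mul_one]
  have bb : a * f * (a * f) = 1 := by simp only [mul_assoc, w, n, mul_one]
  have bn : ¬ IsConj t (a * f) := hf ▸ h.refl_not _
  have s3' : cj s⁻¹ t = t * a := by
    apply cj_inv_eq
    rw [cj_mul, s3, s2]
    simp only [mul_assoc, n, mul_one]
  have B1 : cj (cj s (a * f)) z = z := by
    rw [cj_cj, cj_inv_eq s1, bz, s1]
  have B2 : cj (cj s (a * f)) a = a * z := by
    rw [cj_cj, cj_inv_eq s2, ba, cj_mul, s1, s2]
  have B3 : cj (cj s (a * f)) t = t * z := by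
    rw [cj_cj, s3', cj_mul, bt, ba, cj_mul, cj_mul, s1, s2, s3]
    simp only [mul_assoc, n]
  have B4 : cj s (a * f) * cj s (a * f) = 1 := cj_sq s bb
  have B5 : ¬ IsConj t (cj s (a * f)) := by rwa [isConj_cj_iff]
  have B6 : IsConj t (t * a * cj s (a * f)) := by
    rw [← s3, ← cj_mul, isConj_cj_iff]
    exact h.td_conj (h.memDd.mpr ⟨_, Or.inr (by rw [hf])⟩) bb
  have BT : cj s (a * f) ∈ T := cj_mem hs bT
  generalize cj s (a * f) = B at B1 B2 B3 B4 B5 B6 BT
  obtain ⟨v, hv, e⟩ := h.cenE hz hT.isPGroup aT (mul_mem yT (mul_mem BT bT))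
    (by rw [cj_mul_left, cj_mul_left, bt, B3, cj_mul, yt, yz]; simp only [mul_assoc, n, mul_one])
    (by rw [cj_mul_left, cj_mul_left, bz, B1, yz])
    (by rw [cj_mul_left, cj_mul_left, ba, cj_mul, B1, B2, mul_assoc, h.zsq hz, mul_one, ya])
  have eB : B = y * (y * (B * (a * f))) * (a * f) := by
    rw [← mul_assoc y y, yy, one_mul, mul_assoc, bb, mul_one]
  have p1 : IsConj t (y * (a * f)) ↔ IsConj t y :=
    h.pair_iff bb (by simp only [mul_assoc, w, n]) bn
  have p2 : IsConj t (y * (a * (f * z))) ↔ IsConj t y := by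
    rw [← p1, ← isConj_cj_iff t (y * (a * f))]
    simp only [cj, mul_assoc, w, n, mul_one]
  have p3 : IsConj t (y * (t * (f * z))) ↔ IsConj t (y * (t * f)) := by
    rw [← isConj_cj_iff t (y * (t * f))]
    simp only [cj, mul_assoc, w, n, mul_one]
  have zn := h.zne hz
  rcases e with e | e <;> rw [e] at eB <;> rcases hv with rfl | rfl | rfl | rfl <;>
    rw [eB] at B4 B5 B6 <;> simp only [mul_assoc, w, n, mul_one, one_mul] at B4 B5 B6 <;> tauto

theorem fin2 {N : Subgroup G} (hN : IsPGroup 2 N) (hRN : closure ({t, c, a} : Set G) ≤ N)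
    (hM : N ≤ MM t z (h.zsq hz)) {y : G} (hy : y ∈ N) (yy : y * y = 1) (yt : cj y t = t * z)
    (ya : cj y a = a) (μ : ℤ) (yc : cj y c = c ^ (4 * μ + 1)) : False := by
  have yf : cj y f = f := by
    rw [← hf, cj_zpow, yc, ← zpow_mul]
    exact h.c_of _ _ μ (by ring)
  have w := h.nw hz hf yy yt ya yf
  have n := h.nz hz
  have zn := h.zne hz
  have yz : cj y z = z := (hM hy).1
  have cy : ∀ (j : ℤ) x, c ^ j * (y * x) = y * (c ^ ((4 * μ + 1) * j) * x) := by
    intro j x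
    rw [zpow_mul, ← yc, ← cj_zpow]
    simp only [cj, mul_assoc, w]
  have out : ∀ x ∈ N, x ∉ closure ({t, c, a} : Set G) → cj x t = t * z := fun x hx hn =>
    (hM hx).2.resolve_left fun e => hn (h.NR hz hN hRN hx e)
  have yn : ∀ r ∈ closure ({t, c, a} : Set G), y * r ∉ closure ({t, c, a} : Set G) := by
    intro r hr hc
    have := h.RC hc
    rw [cj_mul_left, h.RC hr, yt] at this
    exact zn (by simpa using this)
  have hK : (closure ({t, c, a} : Set G)).relIndex N = 2 := by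
    refine two_of y hy (by simpa using yn 1 (one_mem _)) fun b hb hbn => ?_
    refine h.NR hz hN hRN (mul_mem hb hy) ?_
    rw [cj_mul_left, yt, cj_mul, out b hb hbn, (hM hb).1]
    simp only [mul_assoc, n, mul_one]
  have h4 := h.gt hK 1 (by rw [card_eq_card_mul_relIndex hRN, hK]; ring)
  set X := {x : G | IsConj t x ∧ x ∈ N ∧ x ∉ closure ({t, c, a} : Set G)} with hX
  have form : ∀ x ∈ X, ∃ j : ℤ, x = y * c ^ j ∨ x = y * (a * c ^ j) ∨ x = y * (t * c ^ j) ∨
      x = y * (t * (a * c ^ j)) := by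
    rintro x ⟨-, hx, hxn⟩
    have : y * x ∈ closure ({t, c, a} : Set G) := by
      refine h.NR hz hN hRN (mul_mem hy hx) ?_
      rw [cj_mul_left, out x hx hxn, cj_mul, yt, yz]
      simp only [mul_assoc, n, mul_one]
    obtain ⟨j, e⟩ := h.memR.mp this
    refine ⟨j, ?_⟩
    have ex : x = y * (y * x) := by simp only [w]
    rcases e with e | e | e | e <;> rw [e] at ex <;> simp [ex]
  have fc : ∀ j : ℤ, f * c ^ j = c ^ j * f := fun j => by rw [← hf, cc, cc, add_comm]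
  have zc : ∀ j : ℤ, z * c ^ j = c ^ j * z := fun j => by rw [← hz, cc, cc, add_comm]
  have cop : IsCoprime (2 * μ + 1) (4 * 2 ^ m : ℤ) := by
    rw [show (4 * 2 ^ m : ℤ) = 2 ^ (m + 2) by ring]
    exact IsCoprime.pow_right ⟨1, -μ, by ring⟩
  -- the elements commuting with `f`
  have i1 : ∀ j : ℤ, IsConj t (y * c ^ j) → c ^ j = 1 ∨ c ^ j = z := by
    intro j hD
    have := h.sqD hD
    rw [mul_assoc, cy, ← mul_assoc, yy, one_mul, cc, h.c_one,
      show (4 * μ + 1) * j + j = (j + j) * (2 * μ + 1) by ring] at this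
    rw [← hz]
    exact h.two_cases j ((h.c_one _).mpr (cop.symm.dvd_of_dvd_mul_right this))
  have i2 : ∀ j : ℤ, IsConj t (y * (t * c ^ j)) → c ^ j = f ∨ c ^ j = f * z := by
    intro j hD
    have := h.sqD hD
    rw [mul_assoc, mul_assoc, cy] at this
    simp only [mul_assoc, w, n] at this
    rw [← hz] at this
    simp only [h.nf] at this
    rw [h.c_one, show 2 * 2 ^ m + ((4 * μ + 1) * j + j) =
      ((j - 2 ^ m) + (j - 2 ^ m)) * (2 * μ + 1) + 4 * 2 ^ m * (μ + 1) by ring] at this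
    have h2 := cop.symm.dvd_of_dvd_mul_right ((dvd_add_left (dvd_mul_right _ _)).mp this)
    have e : c ^ j = f * c ^ (j - 2 ^ m) := by rw [← hf, cc]; congr 1; ring
    rcases h.two_cases _ ((h.c_one _).mpr h2) with e' | e'
    · left; rw [e, e', mul_one]
    · right; rw [e, e', hz]
  have nc : ∀ (u : G) (j : ℤ), f * u = u * f → u * (a * c ^ j) * f ≠ f * (u * (a * c ^ j)) := by
    intro u j hu e
    rw [← mul_assoc f, hu] at e
    simp only [mul_assoc, w, mul_right_inj, ← fc] at e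
    exact zn (by simpa using e.symm)
  have yX : ∀ r ∈ closure ({t, c, a} : Set G), IsConj t (y * r) → y * r ∈ X := fun r hr hD =>
    ⟨hD, mul_mem hy (hRN hr), yn r hr⟩
  have fR : f ∈ closure ({t, c, a} : Set G) := hf ▸ h.cR _
  have zR : z ∈ closure ({t, c, a} : Set G) := hz ▸ h.cR _
  have p2 : IsConj t (y * z) ↔ IsConj t y := by
    rw [← isConj_cj_iff t y]
    simp only [cj, mul_assoc, w, n, mul_one]
  have p3 : IsConj t (y * (t * (f * z))) ↔ IsConj t (y * (t * f)) := by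
    rw [← isConj_cj_iff t (y * (t * f))]
    simp only [cj, mul_assoc, w, n, mul_one]
  have X1 : ∀ x ∈ X, x * f = f * x →
      x = y ∨ x = y * z ∨ x = y * (t * f) ∨ x = y * (t * (f * z)) := by
    intro x hx hc
    obtain ⟨j, rfl | rfl | rfl | rfl⟩ := form x hx
    · rcases i1 j hx.1 with e | e <;> simp [e]
    · exact absurd hc (nc y j (by simp only [w]))
    · rcases i2 j hx.1 with e | e <;> simp [e]
    · rw [← mul_assoc y t] at hc
      exact absurd hc (nc (y * t) j (by simp only [mul_assoc, w]))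
  have c1 : (X ∩ {x | x * f = f * x}).ncard = 2 := by
    have s5 := h.step5 hz hf hN hRN hy yy yt ya yf
    by_cases hD : IsConj t y
    · rw [← Set.ncard_pair (show y ≠ y * z by simpa using zn)]
      congr 1
      ext x
      constructor
      · rintro ⟨hx, hc⟩
        rcases X1 x hx hc with rfl | rfl | rfl | rfl
        · simp
        · simp
        · exact absurd hx.1 (s5.mp hD)
        · exact absurd (p3.mp hx.1) (s5.mp hD)
      · rintro (rfl | rfl)
        · exact ⟨by simpa using yX 1 (one_mem _) (by rwa [mul_one]),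
            by simp only [Set.mem_ofPred_eq, w]⟩
        · exact ⟨yX z zR (p2.mpr hD), by simp only [Set.mem_ofPred_eq, mul_assoc, w]⟩
    · have hD' : IsConj t (y * (t * f)) := by by_contra hc; exact hD (s5.mpr hc)
      rw [← Set.ncard_pair (show y * (t * f) ≠ y * (t * (f * z)) by simpa using zn)]
      congr 1
      ext x
      constructor
      · rintro ⟨hx, hc⟩
        rcases X1 x hx hc with rfl | rfl | rfl | rfl
        · exact absurd hx.1 hD
        · exact absurd (p2.mp hx.1) hD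
        · simp
        · simp
      · rintro (rfl | rfl)
        · exact ⟨yX _ (mul_mem h.tR fR) hD', by simp only [Set.mem_ofPred_eq, mul_assoc, w]⟩
        · exact ⟨yX _ (mul_mem h.tR (mul_mem fR zR)) (p3.mpr hD'),
            by simp only [Set.mem_ofPred_eq, mul_assoc, w, n]⟩
  -- the elements inverting `f`
  have mv : ∀ (u : G) (j : ℤ), (∀ (k : ℤ) x, c ^ k * (u * x) = u * (c ^ ((4 * μ + 1) * k) * x)) →
      m ≠ 0 → IsConj t (u * (a * c ^ j)) → IsConj t (u * (a * c ^ j) * f) := by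
    intro u j hu hm hD
    obtain ⟨l, rfl⟩ := Nat.exists_eq_succ_of_ne_zero hm
    obtain ⟨α, β, hαβ⟩ := cop
    rw [← isConj_cj_iff (c ^ (-(α * 2 ^ l)))] at hD
    convert hD using 1
    rw [← hf, cj, hu]
    simp only [mul_assoc, h.nf, mul_right_inj]
    refine h.c_of _ _ (β * 2 * 2 ^ l) ?_
    simp only [Nat.succ_eq_add_one] at hαβ ⊢
    linear_combination (-2 * 2 ^ l) * hαβ
  have c2 : 4 ∣ (X \ {x | x * f = f * x}).ncard := by
    have of : orderOf f = 4 := by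
      apply orderOf_eq_prime_pow (p := 2) (n := 1)
      · rw [pow_one, pow_two, w.1]; exact zn
      · rw [show 2 ^ (1 + 1) = 2 + 2 from rfl, pow_add, pow_two, w.1, n.1]
    rw [← of]
    apply order_dvd_ncard
    rintro x ⟨hx, hc⟩
    refine ⟨⟨?_, mul_mem hx.2.1 (hRN fR), fun e => hx.2.2 (by simpa using mul_mem e (inv_mem fR))⟩,
      fun e => hc ?_⟩
    · obtain ⟨j, rfl | rfl | rfl | rfl⟩ := form x hx
      · exact absurd (by simp only [Set.mem_ofPred_eq, mul_assoc, w, fc]) hc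
      · by_cases hm : m = 0
        · have hc' : f = c ^ (1 : ℤ) := by rw [← hf, hm, pow_zero]
          have cm : ∀ i : ℤ, a * c ^ i * y = y * (a * c ^ i) := fun i => by
            have : Commute c y := by
              have := w.2.2.2.2.2.2.2.2.2.2.2.2.2.2.2.1
              rwa [hc', zpow_one] at this
            rw [mul_assoc, (this.zpow_left i).eq]
            simp only [w]
          rw [mul_assoc, mul_assoc, hc', cc, h.pair_iff (h.refl_sq _) (cm _) (h.refl_not _)]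
          exact (h.pair_iff (h.refl_sq _) (cm _) (h.refl_not _)).mp hx.1
        · exact mv y j cy hm hx.1
      · exact absurd (by simp only [Set.mem_ofPred_eq, mul_assoc, w, fc]) hc
      · by_cases hm : m = 0
        · exfalso
          have hc' : f = c ^ (1 : ℤ) := by rw [← hf, hm, pow_zero]
          have cm : ∀ x, c ^ j * (y * x) = y * (c ^ j * x) := fun x => by
            have : Commute c y := by
              have := w.2.2.2.2.2.2.2.2.2.2.2.2.2.2.2.1
              rwa [hc', zpow_one] at this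
            rw [← mul_assoc, (this.zpow_left j).eq, mul_assoc]
          have := h.sqD hx.1
          simp only [mul_assoc, cm, h.nf] at this
          simp only [w, n, neg_add_cancel, zpow_zero, mul_one] at this
          exact zn this
        · have := mv (y * t) j (fun k x => by simp only [mul_assoc, cy, h.nf]) hm
            (by rw [mul_assoc]; exact hx.1)
          rwa [mul_assoc y t] at this
    · have e' : x * f * f = f * (x * f) := e
      rw [← mul_assoc] at e'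
      exact mul_right_cancel e'
  have := Set.ncard_inter_add_ncard_sdiff_eq_ncard X {x | x * f = f * x}
  omega

theorem fin1 {N : Subgroup G} (hN : IsPGroup 2 N) (hRN : closure ({t, c, a} : Set G) ≤ N)
    (hM : N ≤ MM t z (h.zsq hz)) {y : G} (hy : y ∈ N) (yt : cj y t = t * z)
    (ya : cj y a = a) (μ : ℤ) (yc : cj y c = c ^ (4 * μ + 1)) : False := by
  have n := h.nz hz
  have zn := h.zne hz
  have yz : cj y z = z := (hM hy).1
  have yf : cj y f = f := by
    rw [← hf, cj_zpow, yc, ← zpow_mul]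
    exact h.c_of _ _ μ (by ring)
  have h1 : f * f = z := by rw [← hf, cc, ← two_mul, hz]
  have h3 : f⁻¹ = f * z := inv_eq_of_mul_eq_one_right (by rw [← mul_assoc, h1, h.zsq hz])
  have h4 : ∀ x, f * (a * x) = a * (f * (z * x)) := fun x => by
    rw [← mul_assoc f z, ← h3, ← hf, ← mul_assoc, h.ca, zpow_neg, mul_assoc]
  have h2 : z * f = f * z := by rw [← h1, mul_assoc]
  have yR : y * y ∈ closure ({t, c, a} : Set G) := by
    refine h.NR hz hN hRN (mul_mem hy hy) ?_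
    rw [cj_mul_left, yt, cj_mul, yt, yz]
    simp only [mul_assoc, n, mul_one]
  obtain ⟨v, hv, e⟩ := h.cenR hz yR (cj_eq_iff.mp (by rw [cj_mul_left, ya, ya]))
  have e1 : cj y (y * y) = y * y := cj_eq_iff.mpr (by rw [mul_assoc])
  have e2 : y * y * f = f * (y * y) := cj_eq_iff.mp (by rw [cj_mul_left, yf, yf])
  have yv : cj y v = v := by
    rcases hv with rfl | rfl | rfl | rfl
    · exact cj_one _
    · exact yz
    · exact ya
    · rw [cj_mul, yz, ya]
  rcases e with e | e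
  · rw [e] at e2
    rcases hv with rfl | rfl | rfl | rfl
    · exact h.fin2 hz hf hN hRN hM hy e yt ya μ yc
    · refine h.fin2 hz hf hN hRN hM (mul_mem (hRN h.tR) hy) ?_ ?_ ?_ μ ?_
      · rw [mul_assoc, ← mul_assoc y, cj_eq_iff.mp yt]
        simp only [mul_assoc, n, e]
      · rw [cj_mul_left, yt]; simp only [cj, mul_assoc, n, mul_one]
      · rw [cj_mul_left, ya]; simp only [cj, mul_assoc, n, mul_one]
      · rw [cj_mul_left, yc, cj_eq_iff, h.ct]
    · have := h4 1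
      rw [mul_one, ← e2] at this
      exact zn (by simpa using this.symm)
    · rw [h4, mul_assoc, h2, h.zsq hz] at e2
      exact zn (by simpa using e2)
  · rw [e, cj_mul, yt, yv] at e1
    exact zn (by simpa using e1)

theorem fin0 {N : Subgroup G} (hN : IsPGroup 2 N) (hRN : closure ({t, c, a} : Set G) ≤ N)
    (hM : N ≤ MM t z (h.zsq hz)) {y : G} (hy : y ∈ N) (yt : cj y t = t * z)
    (ya : cj y a = a) : False := by
  have n := h.nz hz
  have yz : cj y z = z := (hM hy).1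
  have bR : a * c ^ (1 : ℤ) ∈ closure ({t, c, a} : Set G) := mul_mem h.aR (h.cR _)
  obtain ⟨j, hj⟩ := h.refl_of (g := y) (by rw [hz, yz]) 1
    (h.NR hz hN hRN (cj_mem hy (hRN bR)) (MM_cj (hM hy) (h.RM hz bR).1 (h.RC bR)))
  rw [cj_mul, ya, mul_right_inj, zpow_one] at hj
  obtain ⟨i, hi | hi⟩ := Int.even_or_odd' j
  · apply h.zne hz
    rw [← yz, ← hz, cj_zpow, hj, ← zpow_mul, h.c_one]
    exact ⟨i, by rw [hi]; ring⟩
  · obtain ⟨μ, hμ | hμ⟩ := Int.even_or_odd' i
    · exact h.fin1 hz hf hN hRN hM hy yt ya μ (by rw [hj, hi, hμ]; congr 1; ring)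
    · refine h.fin1 hz hf hN hRN hM (mul_mem hy (hRN h.aR)) (by rw [cj_mul_left, h.RC h.aR, yt])
        (by rw [cj_mul_left, cj_eq_iff.mpr (rfl : a * a = a * a), ya]) (-μ - 1) ?_
      have : cj a c = c ^ (-1 : ℤ) := by
        rw [cj_eq_iff, h.ca, neg_neg, zpow_one]
      rw [cj_mul_left, this, cj_zpow, hj, ← zpow_mul, hi, hμ]
      congr 1; ring

theorem false : False := by
  have n := h.nz hz
  obtain ⟨N, hN, hRN⟩ := exists_isSylowIn_ge h.syl.isPGroup (h.RM hz)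
  obtain ⟨k, k1, k2, k3⟩ := (h.exists_h hz).2
  obtain ⟨Q, hQ, haQ⟩ := exists_isSylowIn_ge (H := MM t z (h.zsq hz) ⊓ centralizer ({a} : Set G))
    (pg_zpowers a 1 (by rw [pow_one, pow_two, h.aa]))
    (zpowers_le.mpr ⟨h.RM hz h.aR, mem_cen.mpr (cj_eq_iff.mpr rfl)⟩)
  have h2 : (centralizer ({t} : Set G)).relIndex
      (MM t z (h.zsq hz) ⊓ centralizer ({a} : Set G)) = 2 := by
    refine two_of k ⟨⟨k1, Or.inr k3⟩, mem_cen.mpr k2⟩ (fun e => h.zne hz ?_) ?_
    · simpa [k3] using mem_cen.mp e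
    · rintro b ⟨⟨b1, b2⟩, -⟩ hb
      rw [mem_cen] at hb ⊢
      rw [cj_mul_left, k3, cj_mul, b1, b2.resolve_left hb]
      simp only [mul_assoc, n, mul_one]
  obtain ⟨y, hy, hyt⟩ := syl_not_le hQ h2
  obtain ⟨⟨y1, y2⟩, y3⟩ := hQ.le hy
  obtain ⟨u, hu, huQ⟩ := exists_cj_le hN hQ.isPGroup (hQ.le.trans inf_le_left)
  have rR : cj u a ∈ closure ({t, c, a} : Set G) :=
    h.NR hz hN.isPGroup hRN (huQ a (haQ (mem_zpowers a))) (MM_cj hu (h.RM hz h.aR).1 (h.RC h.aR))
  obtain ⟨j, hj⟩ := h.refl_of (g := u) (by rw [hz, hu.1]) 0 (by simpa using rR)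
  rw [zpow_zero, mul_one] at hj
  refine (h.shift j).fin0 hz hf hN.isPGroup (by rwa [h.shift_R]) hN.le (huQ y hy)
    (MM_cj' hu y1 (y2.resolve_left fun e => hyt (mem_cen.mpr e))) ?_
  rw [← hj, cj_eq_iff]
  exact cj_comm u (cj_eq_iff.mp (mem_cen.mp y3))

end Hy

universe u

/-- `H26.Dih.dih` with the sharper conclusion that the subgroup of index 2 avoids `t` -/
theorem dihP (G : Type u) [Group G] [Finite G] (t c a ρ ρ' : G) (m : ℕ)
    (tt : t * t = 1) (aa : a * a = 1) (oc : orderOf c = 2 ^ (m + 2)) (aca : a * c * a = c⁻¹)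
    (tc : t * c = c * t) (ta : t * a = a * t) (tn : t ∉ closure ({c, a} : Set G))
    (syl : H8.IsSylowIn 2 (closure ({t, c, a} : Set G)) (centralizer ({t} : Set G)))
    (r1 : ρ * t = t * ρ) (r2 : ρ * c ^ 2 ^ (m + 1) * ρ⁻¹ = a)
    (r3 : ρ * a * ρ⁻¹ = a * c ^ 2 ^ (m + 1))
    (s1 : ρ' * t = t * ρ') (s2 : ρ' * c ^ 2 ^ (m + 1) * ρ'⁻¹ = a * c)
    (s3 : ρ' * (a * c) * ρ'⁻¹ = a * c * c ^ 2 ^ (m + 1)) :
    ∃ M : Subgroup G, M.index = 2 ∧ t ∉ M := by
  by_contra hc
  push Not at hc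
  have ez : c ^ 2 ^ (m + 1) = c ^ (2 * 2 ^ m : ℤ) := by
    rw [← zpow_natCast]; congr 1; push_cast; ring
  rw [ez] at r2 r3 s2 s3
  have ct : ∀ i : ℤ, cj (c ^ i) t = t := fun i =>
    cj_eq_iff.mpr ((show Commute t c from tc).zpow_right i).eq.symm
  have cz : ∀ i j : ℤ, cj (c ^ i) (c ^ j) = c ^ j := fun i j =>
    cj_eq_iff.mpr (by rw [cc, cc, add_comm])
  have key : ∀ (σ : G) (k i : ℤ), cj σ t = t → cj σ (c ^ (2 * 2 ^ m : ℤ)) = a * c ^ k →
      cj σ (a * c ^ k) = a * c ^ k * c ^ (2 * 2 ^ m : ℤ) →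
      ∃ σ', cj σ' t = t ∧ cj σ' (c ^ (2 * 2 ^ m : ℤ)) = a * c ^ (2 * i + k) ∧
        cj σ' (a * c ^ (2 * i + k)) = a * c ^ (2 * i + k) * c ^ (2 * 2 ^ m : ℤ) := by
    intro σ k i a1 a2 a3
    have e : cj (c ^ (-i)) (a * c ^ k) = a * c ^ (2 * i + k) := by
      rw [cj, ← mul_assoc, ca_of aa aca, ← zpow_neg, mul_assoc, mul_assoc, cc, cc]
      congr 2; ring
    refine ⟨c ^ (-i) * σ * (c ^ (-i))⁻¹, ?_, ?_, ?_⟩
    · rw [cj_mul_left, cj_mul_left, cj_inv_eq (ct _), a1, ct]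
    · rw [cj_mul_left, cj_mul_left, cj_inv_eq (cz _ _), a2, e]
    · rw [cj_mul_left, cj_mul_left, cj_inv_eq e, a3, cj_mul, e, cz]
  have H : Hy t c a m := by
    refine ⟨tt, aa, oc, aca, tc, ta, tn, syl, fun j => ?_, hc⟩
    obtain ⟨i, hi | hi⟩ := Int.even_or_odd' j
    · have := key ρ 0 i (cj_eq_iff.mpr r1) (by rw [zpow_zero, mul_one]; exact r2)
        (by rw [zpow_zero, mul_one]; exact r3)
      rwa [add_zero, ← hi] at this
    · have := key ρ' 1 i (cj_eq_iff.mpr s1) (by rw [zpow_one]; exact s2)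
        (by rw [zpow_one]; exact s3)
      rwa [← hi] at this
  exact H.false rfl rfl

end Cfsg.Agent.H41.Dih

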