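import Cfsg.Agent.H41.EE5b

/-! `EE5Stmt` (the W-lemma). -/

set_option autoImplicit false

namespace Cfsg.Agent.H41.EE5

open Subgroup Cfsg.Agent.H85 Cfsg.Agent.H93.LT

universe u

variable {G : Type u} [Group G]

theorem inv_self {g : G} (h : g * g = 1) : g⁻¹ = g := inv_eq_of_mul_eq_one_right h

theorem comm_z (h : E4 G) {g : G} (ha : Commute g h.a) (hb : Commute g h.b) : Commute g h.z := by
  have : h.z = h.a⁻¹ * (h.b⁻¹ * h.a * h.b) := by
    have := h.ab; simp only [cn] at this; rw [this]; group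
  rw [this]
  exact ha.inv_right.mul_right ((hb.inv_right.mul_right ha).mul_right hb)

/-- the relations in `T₃` -/
structure Rel (h : E4 G) : Prop where
  tz : Commute h.t h.z
  fz : Commute h.f h.z
  xz : Commute h.x h.z
  yz : Commute h.y h.z
  e1 : h.e ≠ 1
  ee : h.e * h.e = 1
  ae : cn h.a h.e = h.b
  be : cn h.b h.e = h.a
  fe : cn h.f h.e = h.f * h.z
  ze : cn h.z h.e = h.z
  xe : cn h.x h.e = h.x
  me : cn h.m h.e = h.n
  ne : cn h.n h.e = h.m
  ye : h.y ≠ 1 → cn h.y h.e = h.x * h.y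
  xt : cn h.x h.t = h.x * h.z
  ty : h.y ≠ 1 → cn h.t h.y = h.t * h.f
  yt : h.y ≠ 1 → cn h.y h.t = h.y * h.f
  mt : cn h.m h.t = h.a * h.m
  nt : cn h.n h.t = h.b * h.n
  an : cn h.a h.n = h.a * h.x
  mb : cn h.m h.b = h.m * h.x
  mn : cn h.m h.n = h.m * h.x
  f1 : h.f ≠ 1
  fz1 : h.f ≠ h.z
  x1 : h.x ≠ 1
  xz1 : h.z * h.x ≠ 1

theorem rel (h : E4 G) : Rel h := by
  have e1 : h.e ≠ 1 := h.ge ▸ h.g1
  have ee : h.e * h.e = 1 := by
    rcases h.gg' with a | a
    exacts [a.2.1, absurd a.2.1 e1]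
  obtain ⟨ae, be, fe, -⟩ := h.he.resolve_left e1
  obtain ⟨xe, me, -⟩ := h.sw h.g1
  rw [h.ge] at xe me
  rw [h.wx'] at xe
  have cc : ∀ {u v : G}, cn u h.e = v → cn v h.e = u := by
    intro u v e
    rw [← e, ← cn_cn, ee, cn_of_comm (Commute.one_right _)]
  have tz := comm_z h h.ta h.tb
  have fz := comm_z h h.fa h.fb
  have xz := comm_z h h.xa h.xb
  have ty : h.y ≠ 1 → cn h.t h.y = h.t * h.f := fun hy => by
    rcases h.alt with a | a | a
    exacts [absurd a.1 hy, absurd a.1 hy, a.1]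
  have zL : h.z ∈ h.L := by
    have : h.z ∈ closure ({h.a, h.b} : Set G) := by
      have e : h.z = h.a⁻¹ * (h.b⁻¹ * h.a * h.b) := by
        have := h.ab; simp only [cn] at this; rw [this]; group
      have ha : h.a ∈ closure ({h.a, h.b} : Set G) := subset_closure (by simp)
      have hb : h.b ∈ closure ({h.a, h.b} : Set G) := subset_closure (by simp)
      rw [e]
      exact mul_mem (inv_mem ha) (mul_mem (mul_mem (inv_mem hb) ha) hb)
    rw [← h.LiT] at this
    exact this.1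
  have x1 : h.x ≠ 1 := fun e => by
    have := h.tx
    rw [e, cn_of_comm (Commute.one_right _)] at this
    exact h.z1 (by simpa using this)
  refine ⟨tz, fz, xz, comm_z h h.ya h.yb, e1, ee, ae, be, fe, ?_, xe, me, cc me, ?_,
    cn_swap h.tt tz.symm h.tx, ty, fun hy => cn_swap h.tt h.tf.symm (ty hy), ?_, ?_, ?_,
    cn_swap h.bb h.xb h.bm, ?_, fun e => h.fL (e ▸ h.L.one_mem), fun e => h.fL (e ▸ zL), x1, ?_⟩
  · have := congrArg (cn · h.e) h.ab
    have e2 : cn (cn h.a h.b) h.e = cn (cn h.a h.e) (cn h.b h.e) := by simp only [cn]; group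
    simp only [e2, cn_mul, ae, be, cn_swap h.aa h.za h.ab] at this
    exact (mul_left_cancel this).symm
  · intro hy
    rcases h.gg' with a | a
    exacts [a.2.2 hy, absurd a.1 hy]
  · rw [cn_swap h.tt h.ta.symm h.tm, h.ma.eq]
  · rw [cn_swap h.tt h.tb.symm h.tn, h.nb.eq]
  · rw [h.an, h.wx']
  · simp only [cn]
    rw [inv_self h.nn, ← h.hD, ← mul_assoc, ← mul_assoc, ← mul_assoc, h.mm, one_mul]
  · intro e
    have e' : h.x = h.z := by rw [eq_inv_of_mul_eq_one_right e, inv_self h.zz]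
    have := h.tx
    rw [e', cn_of_comm tz] at this
    exact h.z1 (by simpa using this)

theorem ea_closure {S : Set G} (h1 : ∀ a ∈ S, a * a = 1) (h2 : ∀ a ∈ S, ∀ b ∈ S, Commute a b) :
    EA (closure S) := by
  have c : ∀ a ∈ closure S, ∀ b ∈ closure S, Commute a b := by
    intro a ha b hb
    induction ha, hb using closure_induction₂ with
    | mem a b ha hb => exact h2 a ha b hb
    | one_left => exact Commute.one_left _
    | one_right => exact Commute.one_right _
    | mul_left _ _ _ _ _ _ h h' => exact h.mul_left h'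
    | mul_right _ _ _ _ _ _ h h' => exact h.mul_right h'
    | inv_left _ _ _ _ h => exact h.inv_left
    | inv_right _ _ _ _ h => exact h.inv_right
  intro a ha
  induction ha using closure_induction with
  | mem a ha => exact h1 a ha
  | one => simp
  | mul a b ha hb h h' => rw [(c b hb a ha).mul_mul_mul_comm, h, h', one_mul]
  | inv a _ h => rw [← mul_inv_rev, h, inv_one]

theorem eaK1 (h : E4 G) : EA h.K1 := by
  have r := rel h
  refine ea_closure ?_ ?_
  · rintro _ (rfl | rfl | rfl | rfl | rfl | rfl)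
    exacts [h.zz, h.ff, h.xx, h.yy, h.aa, h.mm]
  · have := h.za; have := h.fa; have := h.xf; have := h.xa; have := h.yf; have := h.ya
    have := h.mf; have := h.mz; have := h.ma; have := h.xy; have := h.mx; have := h.my
    have := r.fz; have := r.xz; have := r.yz
    rintro _ (rfl | rfl | rfl | rfl | rfl | rfl) _ (rfl | rfl | rfl | rfl | rfl | rfl) <;>
      first | exact Commute.refl _ | assumption | (symm; assumption)

theorem eaK2 (h : E4 G) : EA h.K2 := by
  have r := rel h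
  refine ea_closure ?_ ?_
  · rintro _ (rfl | rfl | rfl | rfl | rfl | rfl)
    exacts [h.zz, h.ff, h.xx, h.yy, h.bb, h.nn]
  · have := h.zb; have := h.fb; have := h.xf; have := h.xb; have := h.yf; have := h.yb
    have := h.nf; have := h.nz; have := h.nb; have := h.xy; have := h.nx; have := h.ny
    have := r.fz; have := r.xz; have := r.yz
    rintro _ (rfl | rfl | rfl | rfl | rfl | rfl) _ (rfl | rfl | rfl | rfl | rfl | rfl) <;>
      first | exact Commute.refl _ | assumption | (symm; assumption)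

theorem dd (h : E4 G) (hZ : h.U ⊓ centralizer (h.U : Set G) = h.ZU) :
    DD (h.a * h.m) (h.b * h.n) h.m h.n (h.z * h.x) h.x h.ZU h.U := by
  have r := rel h
  have aU : h.a ∈ h.U := subset_closure (by simp)
  have bU : h.b ∈ h.U := subset_closure (by simp)
  have mU : h.m ∈ h.U := subset_closure (by simp)
  have nU : h.n ∈ h.U := subset_closure (by simp)
  have zZ : h.z ∈ h.ZU := subset_closure (by simp)
  have xZ : h.x ∈ h.ZU := subset_closure (by simp)
  have nm : cn h.n h.m = h.n * h.x := cn_swap h.mm h.mx.symm r.mn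
  refine ⟨?_, ?_, h.mm, h.nn, ?_, r.mn, (h.ma.symm).mul_left (Commute.refl _), ?_, ?_,
    (h.nb.symm).mul_left (Commute.refl _), ?_, mul_mem zZ xZ, xZ, mul_mem aU mU, mul_mem bU nU, mU,
    nU, hZ ▸ inf_le_left, ?_, ?_, r.xz1, r.x1, ?_⟩
  · rw [h.ma.mul_mul_mul_comm, h.aa, h.mm, one_mul]
  · rw [h.nb.mul_mul_mul_comm, h.bb, h.nn, one_mul]
  · rw [cn_cn, cn_mul h.a, h.ab, r.mb, cn_mul, cn_mul h.a, cn_mul h.m, r.an, r.mn,
      cn_of_comm h.nz.symm,
      cn_of_comm h.nx.symm, mul_assoc h.m, h.xx, mul_one, mul_assoc h.a, mul_assoc h.a, r.xz.eq,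
      mul_assoc h.a, (h.mz.mul_right h.mx).eq]
  · apply comm_of_cn
    rw [cn_mul, r.an, r.mn, mul_assoc, ← mul_assoc h.x, ← h.mx.eq, mul_assoc, h.xx, mul_one]
  · apply comm_of_cn
    rw [cn_mul, h.bm, nm, mul_assoc, ← mul_assoc h.x, ← h.nx.eq, mul_assoc, h.xx, mul_one]
  · intro u hu
    exact eaK1 h u (closure_mono (by intro g; simp; tauto) hu)
  · intro ζ hζ u hu
    rw [← hZ] at hζ
    exact (mem_centralizer_iff.mp hζ.2 u hu).symm
  · refine (closure_le _).mpr ?_
    have p1 : h.a * h.m ∈ closure ({h.a * h.m, h.b * h.n, h.m, h.n} : Set G) :=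
      subset_closure (by simp)
    have p2 : h.b * h.n ∈ closure ({h.a * h.m, h.b * h.n, h.m, h.n} : Set G) :=
      subset_closure (by simp)
    have q1 : h.m ∈ closure ({h.a * h.m, h.b * h.n, h.m, h.n} : Set G) := subset_closure (by simp)
    have q2 : h.n ∈ closure ({h.a * h.m, h.b * h.n, h.m, h.n} : Set G) := subset_closure (by simp)
    rintro _ (rfl | rfl | rfl | rfl | rfl | rfl | rfl | rfl)
    · exact mem_sup_left zZ
    · exact mem_sup_left (subset_closure (by simp))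
    · exact mem_sup_left xZ
    · exact mem_sup_left (subset_closure (by simp))
    · exact mem_sup_right (by simpa using mul_mem p1 (inv_mem q1))
    · exact mem_sup_right (by simpa using mul_mem p2 (inv_mem q2))
    · exact mem_sup_right q1
    · exact mem_sup_right q2
  · intro e
    exact h.z1 (by simpa using e)

theorem five (h : E4 G) : Five (h.a * h.m) (h.z * h.x) h.x h.f h.y := by
  have r := rel h
  refine ⟨?_, ?_, h.xx, h.ff, h.yy, ?_, h.xa.symm.mul_left h.mx, h.fa.symm.mul_left h.mf,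
    h.ya.symm.mul_left h.my, r.xz.symm.mul_left (Commute.refl _), r.fz.symm.mul_left h.xf,
    r.yz.symm.mul_left h.xy, h.xf, h.xy, h.yf.symm⟩
  · rw [h.ma.mul_mul_mul_comm, h.aa, h.mm, one_mul]
  · rw [r.xz.mul_mul_mul_comm, h.zz, h.xx, one_mul]
  · exact (h.za.symm.mul_left h.mz).mul_right (h.xa.symm.mul_left h.mx)

/-- evaluation in `F` -/
abbrev E (h : E4 G) : V → G := ev (h.a * h.m) (h.z * h.x) h.x h.f h.y

theorem ev_z (h : E4 G) : E h (vW.add vX) = h.z := by
  rw [E, ev_add (five h), ev_W, ev_X, mul_assoc, h.xx, mul_one]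

theorem pw_mem {H : Subgroup G} {g : G} (hg : g ∈ H) (b : Bool) : pw g b ∈ H := by
  cases b <;> simp [pw, hg]

theorem ev_mem (h : E4 G) (v : V) : (pw (h.a * h.m) v.a)⁻¹ * E h v ∈ h.ZU := by
  have zZ : h.z ∈ h.ZU := subset_closure (by simp)
  have xZ : h.x ∈ h.ZU := subset_closure (by simp)
  have fZ : h.f ∈ h.ZU := subset_closure (by simp)
  have yZ : h.y ∈ h.ZU := subset_closure (by simp)
  rw [E, ev, inv_mul_cancel_left]
  exact mul_mem (pw_mem (mul_mem zZ xZ) _) (mul_mem (pw_mem xZ _)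
    (mul_mem (pw_mem fZ _) (pw_mem yZ _)))

theorem ZU_le (h : E4 G) : h.ZU ≤ FF (five h) := by
  refine (closure_le _).mpr ?_
  rintro _ (rfl | rfl | rfl | rfl)
  exacts [⟨_, ev_z h⟩, ⟨_, ev_F⟩, ⟨_, ev_X⟩, ⟨_, ev_Y⟩]

theorem ev_a (h : E4 G) (hZ : h.U ⊓ centralizer (h.U : Set G) = h.ZU) {v : V}
    (hv : E h v ∈ h.ZU) : v.a = false := by
  cases ha : v.a
  · rfl
  · have := ev_mem h v
    rw [ha] at this
    exact absurd (by simpa [pw] using inv_mem (mul_mem this (inv_mem hv))) (dd h hZ).n1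

theorem coordZ (h : E4 G) (hZ : h.U ⊓ centralizer (h.U : Set G) = h.ZU) {ζ : G} (hζ : ζ ∈ h.ZU) :
    ∃ v, E h v = ζ ∧ v.a = false ∧ (h.y = 1 → v.e = false) := by
  obtain ⟨v, rfl⟩ := ZU_le h hζ
  by_cases hy : h.y = 1
  · refine ⟨⟨v.a, v.b, v.c, v.d, false⟩, ?_, ev_a h hZ (v := v) hζ, fun _ => rfl⟩
    simp only [E, ev, hy]
    cases v.e <;> rfl
  · exact ⟨v, rfl, ev_a h hZ hζ, fun e => absurd e hy⟩

theorem ev_inj0 (h : E4 G) (hZ : h.U ⊓ centralizer (h.U : Set G) = h.ZU) {v : V}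
    (hv : E h v = 1) (hd : h.y ≠ 1 ∨ v.e = false) : v = v0 := by
  have r := rel h
  have ha := ev_a h hZ (hv ▸ h.ZU.one_mem)
  obtain ⟨a, b, c, d, e⟩ := v
  simp only at ha hd
  subst ha
  have t1 : ∀ i : Bool, cn h.t (pw h.x i) = h.t * pw h.z i := by
    intro i; cases i
    · simp [pw, cn]
    · exact h.tx
  have t2 : ∀ i : Bool, cn h.t (pw (h.z * h.x) i) = h.t * pw h.z i := by
    intro i; cases i
    · simp [pw, cn]
    · show cn h.t (h.z * h.x) = _
      rw [cn_cn, cn_of_comm r.tz]; exact h.tx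
  have t3 : cn h.t (pw h.y e) = h.t * pw h.f e := by
    cases e
    · simp [pw, cn]
    · exact r.ty (hd.resolve_right (by simp))
  have t4 : cn h.t (pw h.f d) = h.t := cn_of_comm (by cases d <;> simp [pw, h.tf])
  have k : cn h.t (E h ⟨false, b, c, d, e⟩) = h.t * pw h.f e * pw h.z c * pw h.z b := by
    simp only [E, ev]
    rw [show pw (h.a * h.m) false = 1 from rfl, one_mul, cn_cn, t2, cn_mul, cn_cn, t1, cn_mul,
      cn_cn, t4, t3, cn_of_comm ((pw_comm r.fz.symm _ _).mul_right (pw_comm r.yz.symm _ _)),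
      cn_of_comm ((pw_comm r.xz.symm _ _).mul_right
        ((pw_comm r.fz.symm _ _).mul_right (pw_comm r.yz.symm _ _)))]
  rw [hv, cn_of_comm (Commute.one_right _)] at k
  have f1 := r.f1
  have z1 := h.z1
  have fz : h.f * h.z ≠ 1 := fun e => r.fz1 (by rw [eq_inv_of_mul_eq_one_left e, inv_self h.zz])
  have zf : h.z * h.f ≠ 1 := by rw [← r.fz.eq]; exact fz
  have hx : ∀ g, h.x * (h.x * g) = g := fun g => by rw [← mul_assoc, h.xx, one_mul]
  cases b <;> cases c <;> cases e <;> simp [pw, mul_assoc, h.zz, f1, z1, fz] at k <;>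
    cases d <;> (simp [E, ev, pw, mul_assoc, h.xx, hx, f1, z1, zf] at hv; try rfl)

theorem ev_inj (h : E4 G) (hZ : h.U ⊓ centralizer (h.U : Set G) = h.ZU) (v v' : V)
    (hv : E h v = E h v') (hd : h.y ≠ 1 ∨ v.e = v'.e) : v = v' := by
  have := ev_inj0 h hZ (v := v.add v') (by rw [E, ev_add (five h)]; rw [E] at hv; rw [hv, ev_sq (five h)])
    (hd.imp_right fun e => by simp [V.add, e])
  obtain ⟨a, b, c, d, e⟩ := v
  obtain ⟨a', b', c', d', e'⟩ := v'
  simp only [V.add, v0, V.mk.injEq] at this ⊢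
  simpa using this

/-- `g` maps the coset `p Z` to `p' Z` -/
def Mv (Z : Subgroup G) (g p p' : G) : Prop := p'⁻¹ * cn p g ∈ Z

theorem Mv.mul {Z : Subgroup G} {g g' p p' p'' : G} (h1 : Mv Z g p p') (h2 : Mv Z g' p' p'')
    (hg : g' ∈ normalizer (Z : Set G)) : Mv Z (g * g') p p'' := by
  have := Z.mul_mem h2 (cn_mem hg h1)
  unfold Mv
  convert this using 1; simp only [cn]; group

theorem Mv.uniq {Z : Subgroup G} {g p p' p'' : G} (h1 : Mv Z g p p') (h2 : Mv Z g p p'') :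
    p'⁻¹ * p'' ∈ Z := by
  have := Z.mul_mem h1 (Z.inv_mem h2)
  convert this using 1; simp only [cn]; group

theorem Mv.of_eq {Z : Subgroup G} {g p p' : G} (h : cn p g = p') : Mv Z g p p' := by
  unfold Mv; rw [h, inv_mul_cancel]; exact Z.one_mem

theorem DD.mvU {p1 p2 q1 q2 w x : G} {Z U : Subgroup G} (d : DD p1 p2 q1 q2 w x Z U) {u : G}
    (hu : u ∈ U) : Mv Z u p1 p1 := by
  unfold Mv
  rcases d.conj hu with e | e <;> rw [e]
  · simp
  · simpa using d.wZ

/-- the four cosets -/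
def PP (h : E4 G) : Fin 4 → G := ![h.a * h.m, h.b * h.n, h.m, h.n]

theorem PP_inj (h : E4 G) (hZ : h.U ⊓ centralizer (h.U : Set G) = h.ZU) {i j : Fin 4}
    (e : (PP h i)⁻¹ * PP h j ∈ h.ZU) : i = j := by
  have d := dd h hZ
  fin_cases i <;> fin_cases j <;> first
    | rfl
    | exact absurd e d.n12
    | exact absurd e d.n13
    | exact absurd e d.swapQ.n13
    | exact absurd e d.swapP.n12
    | exact absurd e d.swapP.n13
    | exact absurd e d.swapP.swapQ.n13
    | exact absurd e d.flip.n12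
    | exact absurd e d.flip.n13
    | exact absurd e d.flip.swapQ.n13
    | exact absurd e d.flip.swapP.n12
    | exact absurd e d.flip.swapP.n13
    | exact absurd e d.flip.swapP.swapQ.n13

theorem normZ (h : E4 G) (hZ : h.U ⊓ centralizer (h.U : Set G) = h.ZU) {g : G}
    (hg : g ∈ normalizer (h.U : Set G)) : g ∈ normalizer (h.ZU : Set G) := by
  rw [← hZ]
  exact le_normalizer_inf le_rfl (normalizer_le_normalizer_centralizer _) hg

theorem stab [Finite G] (h : E4 G) (hZ : h.U ⊓ centralizer (h.U : Set G) = h.ZU)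
    (hT : h.T3 ≤ normalizer (h.U : Set G)) {s : G} (hs : s ∈ h.T3 ⊔ zpowers h.k) (j : Fin 4)
    (hj : Mv h.ZU s (PP h j) (PP h j)) :
    s ∈ h.U ∨ (if j.val < 2 then h.k else h.k * h.e)⁻¹ * s ∈ h.U := by
  have r := rel h
  have d := dd h hZ
  have tN : h.t ∈ normalizer (h.U : Set G) := hT (subset_closure (by simp))
  have eN : h.e ∈ normalizer (h.U : Set G) := h.ge ▸ hT (subset_closure (by simp))
  have n2 : h.e ∈ normalizer ((h.U ⊔ zpowers h.t : Subgroup G) : Set G) := by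
    refine mem_normalizer_of_cj_le ?_
    rw [cj_sup, cj_eq_of_mem_normalizer eN, cj_zpowers, h.te.symm.eq, mul_inv_cancel_right]
  have tV : h.t ∈ h.U ⊔ zpowers h.t ⊔ zpowers h.e := mem_sup_left (mem_sup_right (mem_zpowers _))
  have eV : h.e ∈ h.U ⊔ zpowers h.t ⊔ zpowers h.e := mem_sup_right (mem_zpowers _)
  have uV : h.U ≤ h.U ⊔ zpowers h.t ⊔ zpowers h.e := le_sup_of_le_left le_sup_left
  have n3 : h.k ∈ normalizer ((h.U ⊔ zpowers h.t ⊔ zpowers h.e : Subgroup G) : Set G) := by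
    have : h.k⁻¹ ∈ normalizer ((h.U ⊔ zpowers h.t ⊔ zpowers h.e : Subgroup G) : Set G) := by
      refine mem_normalizer_of_cj_le ?_
      rw [cj_sup, cj_sup, cj_eq_of_mem_normalizer (inv_mem h.kU), cj_zpowers, cj_zpowers, inv_inv]
      refine sup_le (sup_le uV (zpowers_le.mpr ?_)) (zpowers_le.mpr ?_)
      · have := mul_mem (mul_mem eV tV) (uV h.tk)
        simpa [mul_assoc] using this
      · have := mul_mem eV (uV h.ek)
        simpa [mul_assoc] using this
    simpa using inv_mem this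
  have l3 : h.T3 ≤ h.U ⊔ zpowers h.t ⊔ zpowers h.e := by
    refine (closure_le _).mpr ?_
    rintro _ (rfl | rfl | rfl | rfl | rfl | rfl | rfl | rfl | rfl | rfl) <;>
      first | exact tV | exact h.ge ▸ eV | exact uV (subset_closure (by simp))
  have step : ∀ {H : Subgroup G} {g v : G}, g ∈ normalizer (H : Set G) → g * g ∈ H →
      v ∈ H ⊔ zpowers g → ∃ i : Bool, ∃ v' ∈ H, v = pw g i * v' := by
    intro H g v hg gg hv
    rcases mem_ext hg gg hv with h | h
    · exact ⟨false, v, h, by simp [pw]⟩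
    · exact ⟨true, _, h, by simp [pw]⟩
  obtain ⟨a, s1, h1, rfl⟩ := step n3 (uV h.kk) (sup_le_sup_right l3 _ hs)
  obtain ⟨b, s2, h2, rfl⟩ := step n2 (by rw [r.ee]; exact one_mem _) h1
  obtain ⟨c, u, hu, rfl⟩ := step tN (by rw [h.tt]; exact one_mem _) h2
  let σk : Fin 4 → Fin 4 := ![0, 1, 3, 2]
  let σe : Fin 4 → Fin 4 := ![1, 0, 3, 2]
  let σt : Fin 4 → Fin 4 := ![2, 3, 0, 1]
  have one : ∀ i, Mv h.ZU 1 (PP h i) (PP h i) := fun i => Mv.of_eq (by simp [cn])
  have mk : ∀ i, Mv h.ZU (pw h.k a) (PP h i) (PP h (bif a then σk i else i)) := by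
    intro i; cases a
    · exact one i
    · fin_cases i
      exacts [h.p1, h.p2, h.q1, h.q2]
  have me : ∀ i, Mv h.ZU (pw h.e b) (PP h i) (PP h (bif b then σe i else i)) := by
    intro i; cases b
    · exact one i
    · fin_cases i
      · exact Mv.of_eq (g := h.e) (p := h.a * h.m) (by rw [cn_mul, r.ae, r.me]; rfl)
      · exact Mv.of_eq (g := h.e) (p := h.b * h.n) (by rw [cn_mul, r.be, r.ne]; rfl)
      · exact Mv.of_eq r.me
      · exact Mv.of_eq r.ne
  have mt : ∀ i, Mv h.ZU (pw h.t c) (PP h i) (PP h (bif c then σt i else i)) := by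
    intro i; cases c
    · exact one i
    · fin_cases i
      · exact Mv.of_eq (g := h.t) (p := h.a * h.m) (by
          rw [cn_mul, cn_of_comm h.ta.symm, r.mt, ← mul_assoc, h.aa, one_mul]; rfl)
      · exact Mv.of_eq (g := h.t) (p := h.b * h.n) (by
          rw [cn_mul, cn_of_comm h.tb.symm, r.nt, ← mul_assoc, h.bb, one_mul]; rfl)
      · exact Mv.of_eq r.mt
      · exact Mv.of_eq r.nt
  have mu : ∀ i, Mv h.ZU u (PP h i) (PP h i) := by
    intro i; fin_cases i
    exacts [d.mvU hu, d.swapP.mvU hu, d.flip.mvU hu, d.flip.swapP.mvU hu]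
  have uN := normZ h hZ (le_normalizer hu)
  have tN' := mul_mem (pw_mem (normZ h hZ tN) c) uN
  have := PP_inj h hZ (hj.uniq ((mk j).mul ((me _).mul ((mt _).mul (mu _) uN) tN')
    (mul_mem (pw_mem (normZ h hZ eN) b) tN')))
  revert this
  fin_cases j <;> cases a <;> cases b <;> cases c <;> simp [σk, σe, σt, pw, hu, mul_assoc]

theorem memF (h : E4 G) {g : G} : g ∈ FF (five h) ↔ g ∈ h.ZU ∨ (h.a * h.m)⁻¹ * g ∈ h.ZU := by
  constructor
  · rintro ⟨v, rfl⟩
    have := ev_mem h v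
    cases hv : v.a <;> rw [hv] at this
    · left; simpa [pw] using this
    · exact Or.inr this
  · rintro (hg | hg)
    · exact ZU_le h hg
    · have := mul_mem (show h.a * h.m ∈ FF (five h) from ⟨_, ev_P⟩) (ZU_le h hg)
      rwa [mul_inv_cancel_left] at this

theorem zx_k [Finite G] (h : E4 G) (hZ : h.U ⊓ centralizer (h.U : Set G) = h.ZU) :
    Commute (h.z * h.x) h.k ∧ Commute h.x h.k := by
  have d := dd h hZ
  have key : ∀ {p q p' q' w w' : G}, p' ∈ h.U → q' ∈ h.U → cn p q = p * w → cn p' q' = p' * w' →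
      p'⁻¹ * cn p h.k ∈ h.ZU → q'⁻¹ * cn q h.k ∈ h.ZU → cn w h.k = w' := by
    intro p q p' q' w w' hp hq e e' h1 h2
    obtain ⟨c, hc, e1⟩ : ∃ c ∈ h.ZU, cn p h.k = p' * c := ⟨_, h1, (mul_inv_cancel_left _ _).symm⟩
    obtain ⟨c', hc', e2⟩ : ∃ c ∈ h.ZU, cn q h.k = q' * c := ⟨_, h2, (mul_inv_cancel_left _ _).symm⟩
    have e3 : cn (cn p h.k) (cn q h.k) = cn (cn p q) h.k := by simp only [cn]; group
    have hw : w' ∈ h.U := by
      have : w' = p'⁻¹ * cn p' q' := by rw [e', inv_mul_cancel_left]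
      rw [this]; exact mul_mem (inv_mem hp) (cn_mem (le_normalizer hq) hp)
    rw [e, cn_mul p, e1, e2, cn_cn, cn_mul p', e', cn_of_comm (d.cen _ hc _ hq),
      cn_of_comm (d.cen _ hc' _ (mul_mem (mul_mem hp hw) (d.ZU hc))).symm, mul_assoc,
      ← (d.cen _ hc _ hw).eq, ← mul_assoc] at e3
    exact (mul_left_cancel e3).symm
  exact ⟨comm_of_cn (key d.m1 d.m2 d.cp d.cp h.p1 h.p2),
    comm_of_cn (key d.m4 d.m3 d.cq d.flip.swapP.cp h.q1 h.q2)⟩

theorem wlem [Finite G] (h : E4 G) (hZ : h.U ⊓ centralizer (h.U : Set G) = h.ZU)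
    (hT : h.T3 ≤ normalizer (h.U : Set G)) :
    ∃ R, IsSyl 2 R (normalizer (FF (five h) : Set G)) ∧
      ∀ u ∈ R, ∀ v ∈ R, ∀ x ∈ FF (five h), cn x (u * v) = cn x (v * u) := by
  have : Fact (Nat.Prime 2) := ⟨Nat.prime_two⟩
  have r := rel h
  have d := dd h hZ
  have US : h.U ≤ h.T3 ⊔ zpowers h.k :=
    le_sup_of_le_left (closure_mono (by intro g; simp; tauto))
  have SN : h.T3 ⊔ zpowers h.k ≤ normalizer (h.U : Set G) := sup_le hT (zpowers_le.mpr h.kU)
  have UN : h.U ≤ normalizer (FF (five h) : Set G) := fun u hu => norm_of_cn fun g hg => by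
    rcases (memF h).mp hg with hg' | hg'
    · rwa [cn_of_comm (d.cen _ hg' _ hu)]
    · refine (memF h).mpr (Or.inr ?_)
      have := mul_mem (d.mvU hu) (cn_mem (normZ h hZ (le_normalizer hu)) hg')
      convert this using 1; simp only [cn]; group
  obtain ⟨R, hR, UR⟩ := exists_isSyl_ge (h.sylS.isPGroup.to_le US) UN
  refine ⟨R, hR, ?_⟩
  obtain ⟨c, -, hc⟩ := h.sylS.exists_cj_le hR.isPGroup le_top
  have eaj : ∀ K : Subgroup G, EA K → EA (cj c K) := by
    rintro K hK _ ⟨g, hg, rfl⟩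
    rw [← map_mul, hK g hg, map_one]
  have K1U : h.K1 ≤ h.U := closure_mono (by intro g; simp; tauto)
  have K2U : h.K2 ≤ h.U := closure_mono (by intro g; simp; tauto)
  have eN : h.e ∈ normalizer (h.U : Set G) := h.ge ▸ hT (subset_closure (by simp))
  have c12 : Nat.card h.K1 ≤ Nat.card h.K2 := by
    rw [← card_cj h.e⁻¹ h.K1]
    refine card_le_of_le ((cj_le_iff_le_cj_inv _).mpr ((closure_le _).mpr ?_))
    have zk : h.ZU ≤ h.K2 := closure_mono (by intro g; simp; tauto)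
    have hz : ∀ g ∈ h.ZU, g ∈ cj h.e⁻¹⁻¹ h.K2 := fun g hg => by
      rw [inv_inv, mem_cj]; exact zk (cn_mem (normZ h hZ eN) hg)
    rintro _ (rfl | rfl | rfl | rfl | rfl | rfl)
    · exact hz _ (subset_closure (by simp))
    · exact hz _ (subset_closure (by simp))
    · exact hz _ (subset_closure (by simp))
    · exact hz _ (subset_closure (by simp))
    · rw [SetLike.mem_coe, inv_inv, mem_cj]
      have := r.ae; simp only [cn] at this; rw [this]; exact subset_closure (by simp)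
    · rw [SetLike.mem_coe, inv_inv, mem_cj]
      have := r.me; simp only [cn] at this; rw [this]; exact subset_closure (by simp)
  have j1 : cj c h.K1 ≤ h.U := h.bigS _ ((cj_mono c (K1U.trans UR)).trans hc) (eaj _ (eaK1 h))
    (card_cj c h.K1).ge
  have j2 : cj c h.K2 ≤ h.U := h.bigS _ ((cj_mono c (K2U.trans UR)).trans hc) (eaj _ (eaK2 h))
    (c12.trans (card_cj c h.K2).ge)
  have cN : c ∈ normalizer (h.U : Set G) := by
    refine mem_normalizer_of_cj_le ?_
    have : h.U ≤ h.K1 ⊔ h.K2 := by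
      refine (closure_le _).mpr ?_
      rintro _ (rfl | rfl | rfl | rfl | rfl | rfl | rfl | rfl) <;>
        first
          | (refine mem_sup_left (subset_closure ?_); simp; done)
          | (refine mem_sup_right (subset_closure ?_); simp)
    refine (cj_mono c this).trans ?_
    rw [cj_sup]; exact sup_le j1 j2
  have cN' := inv_mem cN
  have cZ := normZ h hZ cN
  have cZ' := normZ h hZ cN'
  obtain ⟨j, hj⟩ : ∃ j, Mv h.ZU c⁻¹ (h.a * h.m) (PP h j) := by
    have := d.four (p := cn (h.a * h.m) c⁻¹) (cn_mem cN' d.m1)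
      (by rw [← cn_mul, d.s1]; simp [cn]) (fun e => d.n1 (mem_of_cn_mem cZ' e)) (by
        intro u hu v hv
        have e : ∀ u, cn (cn (h.a * h.m) c⁻¹) u = cn (cn (h.a * h.m) (cn u c)) c⁻¹ := by
          intro u; simp only [cn]; group
        rw [e u, e v]
        rcases d.conj (cn_mem cN hu) with e1 | e1
        · left; rw [e1]
        rcases d.conj (cn_mem cN hv) with e2 | e2
        · right; left; rw [e2]
        · right; right; rw [e1, e2])
    rcases this with e | e | e | e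
    exacts [⟨0, e⟩, ⟨1, e⟩, ⟨2, e⟩, ⟨3, e⟩]
  have mem : ∀ u ∈ R, cn u c⁻¹ ∈ h.T3 ⊔ zpowers h.k := fun u hu => by
    have := hc (conj_mem_cj (g := c) hu)
    simpa [cn] using this
  have fix : ∀ u ∈ R, Mv h.ZU (cn u c⁻¹) (PP h j) (PP h j) := by
    intro u hu
    have sZ := normZ h hZ (SN (mem u hu))
    have uZ : u ∈ normalizer (h.ZU : Set G) := by
      have := mul_mem (mul_mem cZ' sZ) cZ
      convert this using 1; simp only [cn]; group
    have h1 : Mv h.ZU u (h.a * h.m) (h.a * h.m) := by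
      rcases (memF h).mp (cn_mem (hR.le hu) ⟨_, ev_P⟩) with e | e
      · exact absurd (mem_of_cn_mem uZ e) d.n1
      · exact e
    have h0 : Mv h.ZU c (PP h j) (h.a * h.m) := by
      have := inv_mem (cn_mem cZ hj)
      unfold Mv
      convert this using 1; simp only [cn]; group
    have := (h0.mul h1 uZ).mul hj cZ'
    convert this using 1; simp only [cn]; group
  intro u hu v hv g hg
  have hg' : cn g c⁻¹ ∈ h.ZU ∨ (PP h j)⁻¹ * cn g c⁻¹ ∈ h.ZU := by
    rcases (memF h).mp hg with e | e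
    · exact Or.inl (cn_mem cZ' e)
    · right
      have := mul_mem hj (cn_mem cZ' e)
      convert this using 1; simp only [cn]; group
  have s1 := stab h hZ hT (mem u hu) j (fix u hu)
  have s2 := stab h hZ hT (mem v hv) j (fix v hv)
  have n1 := normZ h hZ (SN (mem u hu))
  have n2 := normZ h hZ (SN (mem v hv))
  have f1 := fix u hu
  have f2 := fix v hv
  obtain ⟨k1, k2⟩ := zx_k h hZ
  have k3 := k2.mul_right (comm_of_cn r.xe)
  have : cn (cn g c⁻¹) (cn u c⁻¹ * cn v c⁻¹) = cn (cn g c⁻¹) (cn v c⁻¹ * cn u c⁻¹) := by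
    fin_cases j
    · exact d.comm_on' n1 n2 k1 f1 f2 s1 s2 hg'
    · exact d.swapP.comm_on' n1 n2 k1 f1 f2 s1 s2 hg'
    · exact d.flip.comm_on' n1 n2 k3 f1 f2 s1 s2 hg'
    · exact d.flip.swapP.comm_on' n1 n2 k3 f1 f2 s1 s2 hg'
  have e := congrArg (cn · c) this
  simp only [cn] at e ⊢
  convert e using 1 <;> group

theorem acts_b (h : E4 G) (hZ : h.U ⊓ centralizer (h.U : Set G) = h.ZU) :
    Acts (h.a * h.m) (h.z * h.x) h.x h.f h.y (h.b * h.n) mB := fun v => by
  have d := dd h hZ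
  refine ev_lin (five h) (fun _ => ?_) ?_ ?_ ?_ (fun _ => ?_)
  · rw [ev_add (five h), ev_P, ev_W, d.cp]
  · rw [ev_W, cn_of_comm (d.cen _ d.wZ _ d.m2)]
  · rw [ev_X, cn_of_comm (d.cen _ d.xZ _ d.m2)]
  · rw [ev_F, cn_of_comm (h.fb.mul_right h.nf.symm)]
  · rw [ev_Y, cn_of_comm (h.yb.mul_right h.ny.symm)]

theorem acts_t (h : E4 G) (hZ : h.U ⊓ centralizer (h.U : Set G) = h.ZU) :
    Acts (h.a * h.m) (h.z * h.x) h.x h.f h.y (cn (h.b * h.n) h.r) mT := fun v => by
  have d := dd h hZ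
  have r := rel h
  have e : ∀ {g g' : G}, cn g h.r = g' → cn g' (cn (h.b * h.n) h.r) = cn (cn g (h.b * h.n)) h.r := by
    rintro g _ rfl; simp only [cn]; group
  have w : cn (h.z * h.x) h.r = h.a * h.m := by rw [cn_mul, h.zr, h.xr]
  have p : cn (h.a * h.m) h.r = h.a * h.m * (h.z * h.x) := by
    rw [cn_mul, h.ar, h.mr, mul_assoc, mul_assoc, (h.mz.mul_right h.mx).eq, mul_assoc]
  have pw' : cn (h.a * h.m * (h.z * h.x)) h.r = h.z * h.x := by
    rw [cn_mul (h.a * h.m), w, p, mul_assoc, ← (five h).pw.eq, ← mul_assoc, d.s1, one_mul]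
  have xm : cn (h.x * h.m) h.r = h.x := by
    rw [cn_mul, h.xr, h.mr, ← mul_assoc, h.mx.eq, mul_assoc, h.mm, mul_one]
  refine ev_lin (five h) (fun _ => ?_) ?_ ?_ ?_ (fun _ => ?_)
  · rw [ev_P, e w, cn_of_comm (d.cen _ d.wZ _ d.m2), w]
  · rw [ev_add (five h), ev_P, ev_W, e pw', cn_mul (h.a * h.m), d.cp,
      cn_of_comm (d.cen _ d.wZ _ d.m2), mul_assoc (h.a * h.m), (five h).ww, mul_one, p]
  · rw [ev_X, e xm, cn_of_comm ((d.cen _ d.xZ _ d.m2).mul_left d.c21.symm), xm]
  · rw [ev_F, e (cn_of_comm h.rf.symm), cn_of_comm (h.fb.mul_right h.nf.symm),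
      cn_of_comm h.rf.symm]
  · rw [ev_Y, e (cn_of_comm h.yr.symm), cn_of_comm (h.yb.mul_right h.ny.symm),
      cn_of_comm h.yr.symm]

theorem f_k [Finite G] (h : E4 G) (hZ : h.U ⊓ centralizer (h.U : Set G) = h.ZU) :
    ∃ c3, cn h.f h.k = E h c3 ∧ (c3 = vF.add vX ∨ c3 = vF.add vW) := by
  have d := dd h hZ
  have r := rel h
  have hf : cn h.f h.k ∈ h.ZU := cn_mem (normZ h hZ h.kU) (subset_closure (by simp))
  obtain ⟨v, e, ha, he⟩ := coordZ h hZ hf
  refine ⟨v, e.symm, ?_⟩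
  have c1 : Commute (cn h.f h.k) (cn h.t h.k) := by
    rw [Commute, SemiconjBy, ← cn_mul, ← cn_mul, h.tf.eq]
  have c2 : Commute (cn h.f h.k) (h.e * h.t) := by
    have := c1.mul_right (d.cen _ hf _ h.tk).inv_right
    rwa [mul_inv_rev, inv_inv, mul_inv_cancel_left] at this
  have zt := cn_of_comm r.tz.symm
  have a : cn (E h v) (h.e * h.t) = E h (mE v) := by
    refine ev_lin (five h) (fun hv => absurd hv (by simp [ha])) ?_ ?_ ?_ (fun hv => ?_)
    · rw [ev_X, cn_cn, cn_mul h.z, r.ze, r.xe, cn_mul, zt, r.xt, r.xz.eq, ← mul_assoc, h.zz,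
        one_mul]
    · rw [ev_W, cn_cn, r.xe, r.xt, r.xz.eq]
    · rw [ev_add (five h), ev_F, cn_cn, r.fe, cn_mul, zt, cn_of_comm h.tf.symm]
      exact congrArg _ (ev_z h).symm
    · have hy : h.y ≠ 1 := fun hy => by simp [he hy] at hv
      rw [ev_add (five h), ev_add (five h), ev_W, ev_F, ev_Y, cn_cn, r.ye hy, cn_mul, r.xt,
        r.yt hy, r.xz.eq, h.yf.eq]
  rw [e, cn_of_comm c2, ← e] at a
  have b : v = mE v := by
    refine ev_inj h hZ _ _ a ?_
    by_cases hy : h.y = 1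
    · right
      have := allV_iff.mp chk_E' v
      simp only [he hy, Bool.false_or, beq_iff_eq] at this
      rw [this, he hy]
    · exact Or.inl hy
  have := allV_iff.mp chk_E v
  simp only [ha, Bool.false_or, Bool.or_eq_true, bne_iff_ne, beq_iff_eq] at this
  rcases this with (((c | c) | c) | c) | c
  · exact absurd b.symm c
  · rw [c, E, ev_zero] at e
    exact absurd (by simpa [cn, mul_assoc] using congrArg (cn · h.k⁻¹) e.symm) r.f1
  · rw [c, ev_z] at e
    obtain ⟨k1, k2⟩ := zx_k h hZ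
    have k3 : Commute h.z h.k := by simpa using k1.mul_left k2.inv_left
    rw [← cn_of_comm k3] at e
    exact absurd (by simpa [cn] using e.symm) r.fz1
  · exact Or.inl c
  · exact Or.inr c

theorem main [Finite G] (h : E4 G) (hZ : h.U ⊓ centralizer (h.U : Set G) = h.ZU)
    (hT : h.T3 ≤ normalizer (h.U : Set G)) :
    (cn (h.a * h.m) h.k = h.a * h.m ∨ cn (h.a * h.m) h.k = h.a * h.m * (h.z * h.x)) ∧
      cn h.f h.k = h.f * h.x ∧ (cn h.y h.k = h.y ∨ cn h.y h.k = h.y * h.x) := by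
  classical
  have d := dd h hZ
  obtain ⟨R, hR, hab⟩ := wlem h hZ hT
  obtain ⟨c3, e3, h3⟩ := f_k h hZ
  obtain ⟨c0, e0, a0, y0⟩ := coordZ h hZ h.p1
  have yZ : h.y ∈ h.ZU := subset_closure (by simp)
  obtain ⟨c4, e4, a4, y4⟩ : ∃ c4, E h c4 = cn h.y h.k ∧ c4.a = false ∧ (h.y = 1 → c4 = vY) := by
    by_cases hy : h.y = 1
    · exact ⟨vY, by rw [E, ev_Y, hy]; simp [cn], rfl, fun _ => rfl⟩
    · obtain ⟨c, e, a, -⟩ := coordZ h hZ (cn_mem (normZ h hZ h.kU) yZ)
      exact ⟨c, e, a, fun e => absurd e hy⟩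
  obtain ⟨k1, k2⟩ := zx_k h hZ
  have e0' : cn (h.a * h.m) h.k = h.a * h.m * E h c0 := by rw [e0, mul_inv_cancel_left]
  have ak : Acts (h.a * h.m) (h.z * h.x) h.x h.f h.y h.k (mK c0 c3 c4) := fun v => by
    refine ev_lin (five h) (fun _ => ?_) ?_ ?_ e3 (fun _ => e4.symm)
    · rw [ev_add (five h), ev_P]; exact e0'
    · rw [ev_W, cn_of_comm k1]
    · rw [ev_X, cn_of_comm k2]
  obtain ⟨r0, r3, r4⟩ := fin_part (five h) (decide (h.y ≠ 1))
    (fun v v' e hd => ev_inj h hZ v v' e (hd.imp_left of_decide_eq_true)) (acts_b h hZ)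
    (acts_t h hZ) ak a0 a4
    (fun hd => by
      have hy : h.y = 1 := by simpa using hd
      exact ⟨y0 hy, y4 hy⟩) h3 (cn_of_comm (d.cen _ yZ _ h.kk)) hR hab
  refine ⟨?_, ?_, ?_⟩
  · rcases r0 with rfl | rfl
    · left; rw [e0', E, ev_zero, mul_one]
    · right; rw [e0', E, ev_W]
  · rw [e3, r3, E, ev_add (five h), ev_F, ev_X]
  · rcases r4 with rfl | rfl
    · left; rw [← e4, E, ev_Y]
    · right; rw [← e4, E, ev_add (five h), ev_Y, ev_X]

theorem DD.back {p1 p2 q1 q2 w x : G} {Z U : Subgroup G} (d : DD p1 p2 q1 q2 w x Z U) {g u : G}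
    (hu : u ∈ U) (hg : cn g u = p1 ∨ cn g u = p1 * w) : g = p1 ∨ g = p1 * w := by
  have e : g = cn (cn g u) u⁻¹ := by simp only [cn]; group
  have c := cn_of_comm (d.cen _ d.wZ _ (inv_mem hu))
  rcases hg with a | a <;> rw [a] at e
  · rw [e]; exact d.conj (inv_mem hu)
  · rw [e, cn_mul, c]
    rcases d.conj (inv_mem hu) with b | b <;> rw [b]
    · exact Or.inr rfl
    · left; rw [mul_assoc, d.ea _ d.wZ, mul_one]

theorem ee5 (hu : EUStmt.{u}) : EE5Stmt.{u} := by
  intro G _ _ h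
  obtain ⟨-, -, -, -, hT, -, hZ, -⟩ := hu G h.toEE
  have d := dd h hZ
  have r := rel h
  obtain ⟨p1, fk, yk⟩ := main h hZ hT
  obtain ⟨k1, k2⟩ := zx_k h hZ
  have eN : h.e ∈ normalizer (h.U : Set G) := h.ge ▸ hT (subset_closure (by simp))
  have tN : h.t ∈ normalizer (h.U : Set G) := hT (subset_closure (by simp))
  have ie := inv_self r.ee
  have it := inv_self h.tt
  have pe : cn (h.a * h.m) h.e = h.b * h.n := by rw [cn_mul, r.ae, r.me]
  have pe' : cn (h.b * h.n) h.e = h.a * h.m := by rw [cn_mul, r.be, r.ne]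
  have we : cn (h.z * h.x) h.e = h.z * h.x := by rw [cn_mul, r.ze, r.xe]
  have wt : cn (h.z * h.x) h.t = h.x := by
    rw [cn_mul, cn_of_comm r.tz.symm, r.xt, r.xz.eq, ← mul_assoc, h.zz, one_mul]
  have p2 : cn (h.b * h.n) h.k = h.b * h.n ∨ cn (h.b * h.n) h.k = h.b * h.n * (h.z * h.x) := by
    refine d.swapP.back (cn_mem eN h.ek) ?_
    have : cn (cn (h.b * h.n) h.k) (cn (h.e⁻¹ * cn h.e h.k) h.e) =
        cn (cn (cn (h.b * h.n) h.e) h.k) h.e := by
      simp only [cn, mul_inv_rev, inv_inv]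
      rw [show ∀ g : G, g * (h.e⁻¹ * (h.e⁻¹ * (h.k⁻¹ * h.e * h.k)) * h.e) =
        g * (h.k⁻¹ * h.e * h.k * h.e) from fun g => by rw [ie, ← mul_assoc h.e, r.ee, one_mul]]
      rw [show h.e⁻¹ * (h.k⁻¹ * (h.e⁻¹ * h.k) * h.e * h.e) = h.e⁻¹ * (h.k⁻¹ * (h.e⁻¹ * h.k)) by
        rw [mul_assoc _ h.e, r.ee, mul_one]]
      group
    rw [this, pe']
    rcases p1 with a | a <;> rw [a]
    · exact Or.inl pe
    · right; rw [cn_mul (h.a * h.m), pe, we]
  have u2 : cn ((h.e * h.t)⁻¹ * cn h.t h.k) h.t ∈ h.U := cn_mem tN h.tk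
  have key : ∀ g : G, cn (cn (cn g h.k) h.e) (cn ((h.e * h.t)⁻¹ * cn h.t h.k) h.t) =
      cn (cn (cn g h.t) h.k) h.t := by
    intro g
    have e : h.e * cn ((h.e * h.t)⁻¹ * cn h.t h.k) h.t = cn h.t h.k * h.t := by
      rw [cn_mul, cn_of_comm (h.te.symm.mul_left (Commute.refl _)).inv_left]
      have : h.e * (h.e * h.t)⁻¹ * h.t⁻¹ = 1 := by
        rw [← h.te.eq, mul_inv_rev, mul_inv_cancel_left, it, h.tt]
      calc _ = h.e * (h.e * h.t)⁻¹ * h.t⁻¹ * (cn h.t h.k * h.t) := by simp only [cn]; group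
        _ = _ := by rw [this, one_mul]
    rw [← cn_cn (cn g h.k), e]
    simp only [cn]; group
  have mt : cn (h.a * h.m) h.t = h.m := by
    rw [cn_mul, cn_of_comm h.ta.symm, r.mt, ← mul_assoc, h.aa, one_mul]
  have nt : cn (h.b * h.n) h.t = h.n := by
    rw [cn_mul, cn_of_comm h.tb.symm, r.nt, ← mul_assoc, h.bb, one_mul]
  have back : ∀ {g g' : G}, cn g h.e = g' → g = cn g' h.e := by
    rintro g _ rfl
    rw [← cn_cn, r.ee, cn_of_comm (Commute.one_right _)]
  have q1 : cn h.m h.k = h.n ∨ cn h.m h.k = h.n * h.x := by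
    have := d.flip.back u2 (g := cn (cn h.m h.k) h.e) (by
      rw [key, r.mt]
      rcases p1 with a | a <;> rw [a]
      · exact Or.inl mt
      · right; rw [cn_mul (h.a * h.m), mt, wt])
    rcases this with a | a
    · left; rw [back a, r.me]
    · right; rw [back a, cn_mul, r.me, r.xe]
  have q2 : cn h.n h.k = h.m ∨ cn h.n h.k = h.m * h.x := by
    have := d.flip.swapP.back u2 (g := cn (cn h.n h.k) h.e) (by
      rw [key, r.nt]
      rcases p2 with a | a <;> rw [a]
      · exact Or.inl nt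
      · right; rw [cn_mul (h.b * h.n), nt, wt])
    rcases this with a | a
    · left; rw [back a, r.ne]
    · right; rw [back a, cn_mul, r.ne, r.xe]
  exact ⟨⟨h, p1, p2, q1, q2, by simpa using k1.mul_left k2.inv_left, k2, fk, yk⟩⟩

end Cfsg.Agent.H41.EE5
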