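import Cfsg.Agent.H93.LT2Defs

/-! Generic lemmas for `EE5Stmt`: index two extensions, abelian Sylow subgroups of automizers and
the group `D₈ × D₈` over a central subgroup. -/

set_option autoImplicit false

namespace Cfsg.Agent.H41.EE5

open Subgroup Cfsg.Agent.H85 Cfsg.Agent.H93.LT

universe u

variable {G : Type u} [Group G]

theorem cn_mul (x y g : G) : cn (x * y) g = cn x g * cn y g := by simp only [cn]; group

theorem cn_cn (x g h : G) : cn x (g * h) = cn (cn x g) h := by simp only [cn]; group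

theorem cn_of_comm {x g : G} (h : Commute x g) : cn x g = x := by
  simp only [cn]; rw [mul_assoc, h.eq]; group

theorem comm_of_cn {x g : G} (h : cn x g = x) : Commute x g := by
  have : g * cn x g = g * x := by rw [h]
  simp only [cn] at this
  rw [Commute, SemiconjBy, ← this]; group

theorem cn_mem {H : Subgroup G} {x g : G} (hg : g ∈ normalizer (H : Set G)) (hx : x ∈ H) :
    cn x g ∈ H := by
  have := (mem_normalizer_iff.mp (inv_mem hg) x).mp hx
  simpa using this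

theorem mem_of_cn_mem {H : Subgroup G} {x g : G} (hg : g ∈ normalizer (H : Set G))
    (hx : cn x g ∈ H) : x ∈ H := by
  have := cn_mem (inv_mem hg) hx
  rwa [← cn_cn, mul_inv_cancel, cn_of_comm (Commute.one_right x)] at this

theorem norm_of_cn [Finite G] {H : Subgroup G} {g : G} (h : ∀ x ∈ H, cn x g ∈ H) :
    g ∈ normalizer (H : Set G) := by
  have : g⁻¹ ∈ normalizer (H : Set G) := by
    refine mem_normalizer_of_cj_le ?_
    rintro _ ⟨x, hx, rfl⟩
    simpa using h x hx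
  simpa using inv_mem this

theorem mem_ext {H : Subgroup G} {g x : G} (hg : g ∈ normalizer (H : Set G)) (gg : g * g ∈ H)
    (hx : x ∈ H ⊔ zpowers g) : x ∈ H ∨ g⁻¹ * x ∈ H := by
  let K : Subgroup G :=
    { carrier := {x | x ∈ H ∨ g⁻¹ * x ∈ H}
      one_mem' := Or.inl H.one_mem
      mul_mem' := by
        rintro a b (ha | ha) (hb | hb)
        · exact Or.inl (H.mul_mem ha hb)
        · right
          have := H.mul_mem (cn_mem hg ha) hb
          convert this using 1; simp only [cn]; group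
        · right
          have := H.mul_mem ha hb
          rwa [mul_assoc] at this
        · left
          have := H.mul_mem (H.mul_mem gg (cn_mem hg ha)) hb
          convert this using 1; simp only [cn]; group
      inv_mem' := by
        rintro a (ha | ha)
        · exact Or.inl (H.inv_mem ha)
        · right
          have := H.mul_mem (cn_mem hg (H.inv_mem ha)) (H.inv_mem gg)
          convert this using 1; simp only [cn]; group }
  have : H ⊔ zpowers g ≤ K := sup_le (fun x hx => Or.inl hx)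
    (zpowers_le.mpr (Or.inr (by simp)))
  exact this hx

/-- if a Sylow subgroup of `N(F)` acts as an abelian group, then `N(F)/C(F)` has no `D₈` -/
theorem wgen [Finite G] {F R : Subgroup G} (hR : IsSyl 2 R (normalizer (F : Set G)))
    (hab : ∀ u ∈ R, ∀ v ∈ R, ∀ x ∈ F, cn x (u * v) = cn x (v * u)) {u v : G}
    (hu : u ∈ normalizer (F : Set G)) (hv : v ∈ normalizer (F : Set G))
    (uu : ∀ x ∈ F, cn x (u * u) = x) (vv : ∀ x ∈ F, cn x (v * v) = x)
    (h4 : ∀ x ∈ F, cn x (u * v * (u * v) * (u * v * (u * v))) = x) :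
    ∀ x ∈ F, cn x (u * v * (u * v)) = x := by
  have : Fact (Nat.Prime 2) := ⟨Nat.prime_two⟩
  let φ := F.normalizerMonoidHom
  have key : ∀ g g' : normalizer (F : Set G), φ g = φ g' ↔ ∀ x ∈ F, cn x (g : G) = cn x (g' : G) := by
    intro g g'
    rw [← inv_inj, ← map_inv, ← map_inv]
    constructor
    · intro e x hx
      have := congrArg (fun ψ : MulAut F => ((ψ ⟨x, hx⟩ : F) : G)) e
      simpa [φ, Subgroup.normalizerMonoidHom, MulAut.smul_def, HSMul.hSMul, SMul.smul] using this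
    · intro e
      ext ⟨x, hx⟩
      simpa [φ, Subgroup.normalizerMonoidHom, MulAut.smul_def, HSMul.hSMul, SMul.smul] using e x hx
  set U : normalizer (F : Set G) := ⟨u, hu⟩
  set V : normalizer (F : Set G) := ⟨v, hv⟩
  have one : ∀ x : G, cn x ((1 : normalizer (F : Set G)) : G) = x := fun x =>
    cn_of_comm (Commute.one_right x)
  have e1 : φ U * φ U = 1 := by
    rw [← map_mul, ← map_one φ, key]; intro x hx; rw [one]; exact uu x hx
  have e2 : φ V * φ V = 1 := by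
    rw [← map_mul, ← map_one φ, key]; intro x hx; rw [one]; exact vv x hx
  have e4 : (φ U * φ V) ^ 4 = 1 := by
    have : (φ U * φ V) ^ 4 = φ (U * V * (U * V) * (U * V * (U * V))) := by
      simp only [map_mul, pow_succ, pow_zero, one_mul, mul_assoc]
    rw [this, ← map_one φ, key]; intro x hx; rw [one]; exact h4 x hx
  have p1 : IsPGroup 2 (zpowers (φ U * φ V)) := by
    rintro ⟨_, k, rfl⟩
    refine ⟨2, Subtype.ext ?_⟩
    show ((φ U * φ V) ^ k) ^ (2 ^ 2) = 1
    rw [← zpow_natCast, ← zpow_mul, mul_comm, zpow_mul, zpow_natCast]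
    norm_num [e4]
  have p2 : IsPGroup 2 (zpowers (φ U)) := by
    rintro ⟨_, k, rfl⟩
    refine ⟨1, Subtype.ext ?_⟩
    show ((φ U) ^ k) ^ (2 ^ 1) = 1
    rw [← zpow_natCast, ← zpow_mul, mul_comm, zpow_mul, zpow_natCast]
    norm_num [sq, e1]
  have iu : (φ U)⁻¹ = φ U := inv_eq_of_mul_eq_one_right e1
  have iv : (φ V)⁻¹ = φ V := inv_eq_of_mul_eq_one_right e2
  have nn : zpowers (φ U) ≤ normalizer ((zpowers (φ U * φ V) : Subgroup _) : Set (MulAut F)) := by
    refine zpowers_le.mpr (mem_normalizer_of_cj_le ?_)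
    rw [cj_zpowers, zpowers_le]
    have : φ U * (φ U * φ V) * (φ U)⁻¹ = (φ U * φ V)⁻¹ := by
      rw [← mul_assoc, e1, one_mul, mul_inv_rev, iu, iv]
    rw [this]; exact inv_mem (mem_zpowers _)
  have pD : IsPGroup 2 (zpowers (φ U) ⊔ zpowers (φ U * φ V) : Subgroup _) :=
    IsPGroup.to_sup_of_normal_right' p2 p1 nn
  have hS := (isSyl_top hR.toSylow).map φ
  obtain ⟨g, -, hg⟩ := hS.exists_le_cj pD (sup_le
    (zpowers_le.mpr ⟨U, trivial, rfl⟩) (zpowers_le.mpr ⟨U * V, trivial, map_mul _ _ _⟩))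
  have com : ∀ a ∈ cj g (((hR.toSylow : Subgroup _)).map φ),
      ∀ b ∈ cj g (((hR.toSylow : Subgroup _)).map φ), a * b = b * a := by
    rintro _ ⟨_, ⟨a, ha, rfl⟩, rfl⟩ _ ⟨_, ⟨b, hb, rfl⟩, rfl⟩
    rw [← map_mul, ← map_mul, ← map_mul, ← map_mul, (key (a * b) (b * a)).mpr (hab a ha b hb)]
  have hu' := hg (mem_sup_left (mem_zpowers _))
  have hw' := hg (mem_sup_right (mem_zpowers _))
  have c := com _ hu' _ hw'
  have : φ (U * V * (U * V)) = φ 1 := by
    rw [map_one, map_mul, map_mul]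
    calc φ U * φ V * (φ U * φ V) = (φ U * φ V * φ U) * φ V := by group
      _ = 1 := by rw [← c, ← mul_assoc, e1, one_mul, e2]
  intro x hx
  have := (key _ _).mp this x hx
  rwa [one] at this

/-- `U = Z ⟨p₁, p₂⟩ ⟨q₁, q₂⟩` with two dihedral groups of order `8` -/
structure DD (p1 p2 q1 q2 w x : G) (Z U : Subgroup G) : Prop where
  s1 : p1 * p1 = 1
  s2 : p2 * p2 = 1
  s3 : q1 * q1 = 1
  s4 : q2 * q2 = 1
  cp : cn p1 p2 = p1 * w
  cq : cn q1 q2 = q1 * x
  c11 : Commute p1 q1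
  c12 : Commute p1 q2
  c21 : Commute p2 q1
  c22 : Commute p2 q2
  ea : EA Z
  wZ : w ∈ Z
  xZ : x ∈ Z
  m1 : p1 ∈ U
  m2 : p2 ∈ U
  m3 : q1 ∈ U
  m4 : q2 ∈ U
  ZU : Z ≤ U
  cen : ∀ ζ ∈ Z, ∀ u ∈ U, Commute ζ u
  gen : U ≤ Z ⊔ closure {p1, p2, q1, q2}
  w1 : w ≠ 1
  x1 : x ≠ 1
  wx : w ≠ x

theorem cn_swap {p q w : G} (hp : p * p = 1) (cw : Commute w p)
    (h : cn p q = p * w) : cn q p = q * w := by
  have ip : p⁻¹ = p := inv_eq_of_mul_eq_one_right hp
  have e : p * q = q * p * w := by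
    have : q * cn p q = q * (p * w) := by rw [h]
    simp only [cn] at this
    rw [mul_assoc q, ← this]; group
  simp only [cn]
  rw [ip, e, mul_assoc, mul_assoc, cw.eq, ← mul_assoc p, hp, one_mul]

namespace DD

variable {p1 p2 q1 q2 w x : G} {Z U : Subgroup G}

theorem swapP (d : DD p1 p2 q1 q2 w x Z U) : DD p2 p1 q1 q2 w x Z U :=
  ⟨d.s2, d.s1, d.s3, d.s4,
    cn_swap d.s1 (d.cen _ d.wZ _ d.m1) d.cp, d.cq,
    d.c21, d.c22, d.c11, d.c12, d.ea, d.wZ, d.xZ, d.m2, d.m1, d.m3, d.m4, d.ZU, d.cen,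
    by rw [Set.insert_comm]; exact d.gen, d.w1, d.x1, d.wx⟩

theorem flip (d : DD p1 p2 q1 q2 w x Z U) : DD q1 q2 p1 p2 x w Z U :=
  ⟨d.s3, d.s4, d.s1, d.s2, d.cq, d.cp, d.c11.symm, d.c21.symm, d.c12.symm, d.c22.symm, d.ea,
    d.xZ, d.wZ, d.m3, d.m4, d.m1, d.m2, d.ZU, d.cen,
    by
      have : ({q1, q2, p1, p2} : Set G) = {p1, p2, q1, q2} := by ext; simp; tauto
      rw [this]; exact d.gen, d.x1, d.w1, d.wx.symm⟩

theorem swapQ (d : DD p1 p2 q1 q2 w x Z U) : DD p1 p2 q2 q1 w x Z U := d.flip.swapP.flip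

theorem conj (d : DD p1 p2 q1 q2 w x Z U) {u : G} (hu : u ∈ U) :
    cn p1 u = p1 ∨ cn p1 u = p1 * w := by
  let K : Subgroup G :=
    { carrier := {u | Commute w u ∧ (cn p1 u = p1 ∨ cn p1 u = p1 * w)}
      one_mem' := ⟨Commute.one_right _, Or.inl (cn_of_comm (Commute.one_right _))⟩
      mul_mem' := by
        rintro a b ⟨ha, ha'⟩ ⟨hb, hb'⟩
        refine ⟨ha.mul_right hb, ?_⟩
        rw [cn_cn]
        rcases ha' with e | e <;> rw [e]
        · exact hb'
        · rw [cn_mul, cn_of_comm hb]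
          rcases hb' with e' | e' <;> rw [e']
          · exact Or.inr rfl
          · left; rw [mul_assoc, d.ea _ d.wZ, mul_one]
      inv_mem' := by
        rintro a ⟨ha, ha'⟩
        refine ⟨ha.inv_right, ?_⟩
        have i : cn (cn p1 a) a⁻¹ = p1 := by simp only [cn]; group
        rcases ha' with e | e
        · left; rwa [e] at i
        · right
          rw [e, cn_mul, cn_of_comm ha.inv_right] at i
          have := congrArg (· * w) i
          simp only [mul_assoc (cn p1 a⁻¹), d.ea _ d.wZ, mul_one] at this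
          exact this }
  have : Z ⊔ closure {p1, p2, q1, q2} ≤ K := by
    refine sup_le (fun ζ hζ => ⟨d.cen _ d.wZ _ (d.ZU hζ),
      Or.inl (cn_of_comm (d.cen _ hζ _ d.m1).symm)⟩) ((closure_le _).mpr ?_)
    rintro _ (rfl | rfl | rfl | rfl)
    · exact ⟨d.cen _ d.wZ _ d.m1, Or.inl (cn_of_comm (Commute.refl _))⟩
    · exact ⟨d.cen _ d.wZ _ d.m2, Or.inr d.cp⟩
    · exact ⟨d.cen _ d.wZ _ d.m3, Or.inl (cn_of_comm d.c11)⟩
    · exact ⟨d.cen _ d.wZ _ d.m4, Or.inl (cn_of_comm d.c12)⟩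
  exact (this (d.gen hu)).2

theorem norm [Finite G] (d : DD p1 p2 q1 q2 w x Z U) {H : Subgroup G} (h1 : Z ≤ H) (h2 : H ≤ U) :
    p1 ∈ normalizer (H : Set G) := by
  refine norm_of_cn fun u hu => ?_
  have e : cn u p1 = u * ((cn p1 u)⁻¹ * p1) := by simp only [cn]; group
  rw [e]
  refine H.mul_mem hu ?_
  rcases d.conj (h2 hu) with e | e <;> rw [e]
  · simp
  · have : (p1 * w)⁻¹ * p1 = w⁻¹ := by group
    rw [this]; exact h1 (Z.inv_mem d.wZ)

theorem n1 (d : DD p1 p2 q1 q2 w x Z U) : p1 ∉ Z := fun h => by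
  have := cn_of_comm (d.cen _ h _ d.m2)
  rw [d.cp] at this
  exact d.w1 (by simpa using this)

theorem n12 (d : DD p1 p2 q1 q2 w x Z U) : p1⁻¹ * p2 ∉ Z := fun h => by
  have := cn_of_comm (d.cen _ h _ d.m1)
  rw [cn_mul, d.swapP.cp, cn_of_comm (Commute.refl p1).inv_left] at this
  exact d.w1 (by simpa using this)

theorem n13 (d : DD p1 p2 q1 q2 w x Z U) : p1⁻¹ * q1 ∉ Z := fun h => by
  have := cn_of_comm (d.cen _ h _ d.m4)
  rw [cn_mul, d.cq, cn_of_comm d.c12.inv_left] at this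
  exact d.x1 (by simpa using this)

theorem coord [Finite G] (d : DD p1 p2 q1 q2 w x Z U) {u : G} (hu : u ∈ U) :
    ∃ i j k l : Bool, ∃ ζ ∈ Z,
      u = (bif i then p1 else 1) * (bif j then p2 else 1) * ((bif k then q1 else 1) *
        (bif l then q2 else 1)) * ζ := by
  have le1 : Z ⊔ zpowers q2 ≤ U := sup_le d.ZU (zpowers_le.mpr d.m4)
  have le2 : Z ⊔ zpowers q2 ⊔ zpowers q1 ≤ U := sup_le le1 (zpowers_le.mpr d.m3)
  have le3 : Z ⊔ zpowers q2 ⊔ zpowers q1 ⊔ zpowers p2 ≤ U := sup_le le2 (zpowers_le.mpr d.m2)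
  have h4 : u ∈ Z ⊔ zpowers q2 ⊔ zpowers q1 ⊔ zpowers p2 ⊔ zpowers p1 := by
    refine (sup_le ?_ ((closure_le _).mpr ?_) : Z ⊔ closure {p1, p2, q1, q2} ≤ _) (d.gen hu)
    · exact le_sup_of_le_left (le_sup_of_le_left (le_sup_of_le_left le_sup_left))
    · rintro _ (rfl | rfl | rfl | rfl)
      · exact mem_sup_right (mem_zpowers _)
      · exact mem_sup_left (mem_sup_right (mem_zpowers _))
      · exact mem_sup_left (mem_sup_left (mem_sup_right (mem_zpowers _)))
      · exact mem_sup_left (mem_sup_left (mem_sup_left (mem_sup_right (mem_zpowers _))))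
  have step : ∀ {H : Subgroup G} {g v : G}, g ∈ normalizer (H : Set G) → g * g = 1 →
      v ∈ H ⊔ zpowers g → ∃ i : Bool, ∃ v' ∈ H, v = (bif i then g else 1) * v' := by
    intro H g v hg gg hv
    rcases mem_ext hg (by rw [gg]; exact H.one_mem) hv with h | h
    · exact ⟨false, v, h, by simp⟩
    · exact ⟨true, _, h, by simp⟩
  obtain ⟨i, v1, h1, rfl⟩ := step (d.norm (le_sup_of_le_left (le_sup_of_le_left le_sup_left)) le3)
    d.s1 h4
  obtain ⟨j, v2, h2, rfl⟩ := step (d.swapP.norm (le_sup_of_le_left le_sup_left) le2) d.s2 h1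
  obtain ⟨k, v3, h3, rfl⟩ := step (d.flip.norm le_sup_left le1) d.s3 h2
  obtain ⟨l, v4, h5, rfl⟩ := step (d.flip.swapP.norm le_rfl d.ZU) d.s4 h3
  exact ⟨i, j, k, l, v4, h5, by simp only [mul_assoc]⟩

theorem sq12 (d : DD p1 p2 q1 q2 w x Z U) : p1 * p2 * (p1 * p2) = w := by
  have ip : p2⁻¹ = p2 := inv_eq_of_mul_eq_one_right d.s2
  have := d.cp
  simp only [cn, ip] at this
  calc p1 * p2 * (p1 * p2) = p1 * (p2 * p1 * p2) := by group
    _ = w := by rw [this, ← mul_assoc, d.s1, one_mul]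

/-- the four cosets are characterised intrinsically -/
theorem four [Finite G] (d : DD p1 p2 q1 q2 w x Z U) {p : G} (hp : p ∈ U) (pp : p * p = 1)
    (pZ : p ∉ Z) (hc : ∀ u ∈ U, ∀ v ∈ U, cn p u = p ∨ cn p v = p ∨ cn p u = cn p v) :
    p1⁻¹ * p ∈ Z ∨ p2⁻¹ * p ∈ Z ∨ q1⁻¹ * p ∈ Z ∨ q2⁻¹ * p ∈ Z := by
  obtain ⟨i, j, k, l, ζ, hζ, e⟩ := d.coord hp
  obtain ⟨A, hA⟩ : ∃ A, A = (bif i then p1 else 1) * (bif j then p2 else 1) := ⟨_, rfl⟩
  obtain ⟨B, hB⟩ : ∃ B, B = (bif k then q1 else 1) * (bif l then q2 else 1) := ⟨_, rfl⟩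
  rw [← hA, ← hB] at e
  have mA : A ∈ U := by
    cases i <;> cases j <;> simp [hA, U.mul_mem, d.m1, d.m2]
  have mB : B ∈ U := by
    cases k <;> cases l <;> simp [hB, U.mul_mem, d.m3, d.m4]
  have cA1 : Commute A q1 := by
    cases i <;> cases j <;> simp [hA, d.c11, d.c21, Commute.mul_left]
  have cA2 : Commute A q2 := by
    cases i <;> cases j <;> simp [hA, d.c12, d.c22, Commute.mul_left]
  have cB1 : Commute B p1 := by
    cases k <;> cases l <;> simp [hB, d.c11.symm, d.c12.symm, Commute.mul_left]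
  have cB2 : Commute B p2 := by
    cases k <;> cases l <;> simp [hB, d.c21.symm, d.c22.symm, Commute.mul_left]
  have cAB : Commute A B := by
    cases k <;> cases l <;> simp [hB, cA1, cA2, Commute.mul_right]
  have sq : (A * A) * (B * B) = 1 := by
    have c1 := (d.cen _ hζ _ (U.mul_mem mA mB)).eq
    calc (A * A) * (B * B) = A * (A * B) * B * (ζ * ζ) := by rw [d.ea _ hζ]; group
      _ = A * (B * A) * B * (ζ * ζ) := by rw [cAB.eq]
      _ = A * B * (A * B * ζ) * ζ := by group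
      _ = A * B * (ζ * (A * B)) * ζ := by rw [c1]
      _ = p * p := by rw [e]; group
      _ = 1 := pp
  have sA : A * A = (bif i && j then w else 1) := by
    cases i <;> cases j <;> simp [hA, d.s1, d.s2, d.sq12]
  have sB : B * B = (bif k && l then x else 1) := by
    cases k <;> cases l <;> simp [hB, d.s3, d.s4, d.flip.sq12]
  have wx1 : w * x ≠ 1 := fun h => d.wx (by
    rw [eq_inv_of_mul_eq_one_left h, inv_eq_of_mul_eq_one_right (d.ea _ d.xZ)])
  have hij : (i && j) = false ∧ (k && l) = false := by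
    rw [sA, sB] at sq
    cases hi : (i && j) <;> cases hk : (k && l) <;> simp [hi, hk, d.w1, d.x1, wx1] at sq ⊢
  have mv : ∀ {a y : G}, a ∈ U → y ∈ Z → cn A a = A * y → Commute B a → cn p a = p * y := by
    intro a y ha hy h1 h2
    rw [e, cn_mul, cn_mul, h1, cn_of_comm h2, cn_of_comm (d.cen _ hζ _ ha)]
    rw [mul_assoc A y, (d.cen _ hy _ mB).eq]
    simp only [mul_assoc, (d.cen _ hy _ (d.ZU hζ)).eq]
  have mv' : ∀ {a y : G}, a ∈ U → y ∈ Z → cn B a = B * y → Commute A a → cn p a = p * y := by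
    intro a y ha hy h1 h2
    rw [e, cn_mul, cn_mul, h1, cn_of_comm h2, cn_of_comm (d.cen _ hζ _ ha)]
    simp only [mul_assoc, (d.cen _ hy _ (d.ZU hζ)).eq]
  have hA' : (i || j) = true → (i && j) = false → ∃ a ∈ U, cn p a = p * w := by
    intro h1 h2
    cases i <;> cases j <;> simp at h1 h2
    · have : A = p2 := by simp [hA]
      exact ⟨p1, d.m1, mv d.m1 d.wZ (by rw [this, d.swapP.cp]) cB1⟩
    · have : A = p1 := by simp [hA]
      exact ⟨p2, d.m2, mv d.m2 d.wZ (by rw [this, d.cp]) cB2⟩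
  have hB' : (k || l) = true → (k && l) = false → ∃ a ∈ U, cn p a = p * x := by
    intro h1 h2
    cases k <;> cases l <;> simp at h1 h2
    · have : B = q2 := by simp [hB]
      exact ⟨q1, d.m3, mv' d.m3 d.xZ (by rw [this, d.flip.swapP.cp]) cA1⟩
    · have : B = q1 := by simp [hB]
      exact ⟨q2, d.m4, mv' d.m4 d.xZ (by rw [this, d.cq]) cA2⟩
  have nb : ¬ ((i || j) = true ∧ (k || l) = true) := by
    rintro ⟨h1, h2⟩
    obtain ⟨a, ha, ea⟩ := hA' h1 hij.1
    obtain ⟨b, hb, eb⟩ := hB' h2 hij.2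
    rcases hc a ha b hb with h | h | h
    · rw [ea] at h; exact d.w1 (by simpa using h)
    · rw [eb] at h; exact d.x1 (by simpa using h)
    · rw [ea, eb] at h; exact d.wx (by simpa using h)
  obtain ⟨h1, h2⟩ := hij
  cases i <;> cases j <;> cases k <;> cases l <;> simp at h1 h2 nb <;>
    simp [hA, hB] at e <;> subst e <;> first | exact absurd hζ pZ | simp [hζ]

/-- elements fixing the coset `p₁ Z` commute with `U` on `Z ∪ p₁ Z` -/
theorem comm_on (d : DD p1 p2 q1 q2 w x Z U) {s u f : G} (hs : s ∈ normalizer (Z : Set G))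
    (sw : Commute w s) (hp : p1⁻¹ * cn p1 s ∈ Z) (hu : u ∈ U) (hf : f ∈ Z ∨ p1⁻¹ * f ∈ Z) :
    cn f (s * u) = cn f (u * s) := by
  have hz : ∀ ζ ∈ Z, cn ζ (s * u) = cn ζ (u * s) := fun ζ hζ => by
    rw [cn_cn, cn_cn, cn_of_comm (d.cen _ hζ _ hu), cn_of_comm (d.cen _ (cn_mem hs hζ) _ hu)]
  rcases hf with hf | hf
  · exact hz f hf
  · have e : f = p1 * (p1⁻¹ * f) := by group
    rw [e, cn_mul p1, cn_mul p1, hz _ hf]
    congr 1
    obtain ⟨c, hc, e'⟩ : ∃ c ∈ Z, cn p1 s = p1 * c := ⟨_, hp, (mul_inv_cancel_left _ _).symm⟩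
    rw [cn_cn, cn_cn, e', cn_mul, cn_of_comm (d.cen _ hc _ hu)]
    rcases d.conj hu with h | h <;> rw [h]
    · exact e'.symm
    · rw [cn_mul, cn_of_comm sw, e', mul_assoc, mul_assoc, (d.cen _ d.wZ _ (d.ZU hc)).eq]

theorem comm_on' (d : DD p1 p2 q1 q2 w x Z U) {k s s' f : G} (hs : s ∈ normalizer (Z : Set G))
    (hs' : s' ∈ normalizer (Z : Set G)) (kw : Commute w k) (hp : p1⁻¹ * cn p1 s ∈ Z)
    (hp' : p1⁻¹ * cn p1 s' ∈ Z) (h1 : s ∈ U ∨ k⁻¹ * s ∈ U) (h2 : s' ∈ U ∨ k⁻¹ * s' ∈ U)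
    (hf : f ∈ Z ∨ p1⁻¹ * f ∈ Z) : cn f (s * s') = cn f (s' * s) := by
  have cw : ∀ {g : G}, (g ∈ U ∨ k⁻¹ * g ∈ U) → Commute w g := by
    rintro g (h | h)
    · exact d.cen _ d.wZ _ h
    · have := kw.mul_right (d.cen _ d.wZ _ h)
      simpa using this
  rcases h2 with h2 | h2
  · exact d.comm_on hs (cw h1) hp h2 hf
  rcases h1 with h1 | h1
  · exact (d.comm_on hs' (cw (Or.inr h2)) hp' h1 hf).symm
  have hu : s⁻¹ * s' ∈ U := by
    have := U.mul_mem (U.inv_mem h1) h2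
    convert this using 1; group
  have hf' : cn f s ∈ Z ∨ p1⁻¹ * cn f s ∈ Z := by
    rcases hf with hf | hf
    · exact Or.inl (cn_mem hs hf)
    · right
      have := Z.mul_mem hp (cn_mem hs hf)
      convert this using 1; simp only [cn]; group
  have := d.comm_on hs (cw (Or.inr h1)) hp hu hf'
  rw [← cn_cn, ← cn_cn] at this
  convert this using 2 <;> group

end DD

end Cfsg.Agent.H41.EE5
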