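import Cfsg.Agent.H41.EE5a

/-! The model of the elementary abelian group `F` for `EE5Stmt`. -/

set_option autoImplicit false

namespace Cfsg.Agent.H41.EE5

open Subgroup Cfsg.Agent.H85 Cfsg.Agent.H93.LT

universe u

variable {G : Type u} [Group G]

structure V where
  a : Bool
  b : Bool
  c : Bool
  d : Bool
  e : Bool
deriving DecidableEq

def V.add (v w : V) : V := ⟨xor v.a w.a, xor v.b w.b, xor v.c w.c, xor v.d w.d, xor v.e w.e⟩
def V.sm (i : Bool) (v : V) : V := ⟨i && v.a, i && v.b, i && v.c, i && v.d, i && v.e⟩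
def fb (b : Bool) (k : Bool → V) : V := bif b then k true else k false
def fV (v : V) (k : V → V) : V :=
  fb v.a fun a => fb v.b fun b => fb v.c fun c => fb v.d fun d => fb v.e fun e => k ⟨a, b, c, d, e⟩
theorem fb_eq (b : Bool) (k : Bool → V) : fb b k = k b := by cases b <;> rfl
theorem fV_eq (v : V) (k : V → V) : fV v k = k v := by simp only [fV, fb_eq]
def lin (c0 c1 c2 c3 c4 v : V) : V := fV v fun v => fV
  ((c0.sm v.a).add ((c1.sm v.b).add ((c2.sm v.c).add ((c3.sm v.d).add (c4.sm v.e))))) id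

def vP : V := ⟨true, false, false, false, false⟩
def vW : V := ⟨false, true, false, false, false⟩
def vX : V := ⟨false, false, true, false, false⟩
def vF : V := ⟨false, false, false, true, false⟩
def vY : V := ⟨false, false, false, false, true⟩
def v0 : V := ⟨false, false, false, false, false⟩

def allB (p : Bool → Bool) : Bool := p false && p true
def allV (p : V → Bool) : Bool :=
  allB fun a => allB fun b => allB fun c => allB fun d => allB fun e => p ⟨a, b, c, d, e⟩

theorem allB_iff {p : Bool → Bool} : allB p = true ↔ ∀ b, p b = true := by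
  simp [allB]

theorem allV_iff {p : V → Bool} : allV p = true ↔ ∀ v, p v = true := by
  simp only [allV, allB_iff]
  exact ⟨fun h v => h _ _ _ _ _, fun h _ _ _ _ _ => h _⟩

def mB : V → V := lin (vP.add vW) vW vX vF vY
def mT : V → V := lin vP (vP.add vW) vX vF vY
def mK (c0 c3 c4 : V) : V → V := lin (vP.add c0) vW vX c3 c4
def mE : V → V := lin vP vX vW (vF.add (vW.add vX)) (vW.add (vF.add vY))

def letter (K : V → V) : ℕ → V → V
  | 0 => mB
  | 1 => mT
  | _ => K

def wM (K : V → V) : List ℕ → V → V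
  | [], v => v
  | i :: l, v => wM K l (letter K i v)

def bad (d : Bool) (ψ : V → V) : Bool :=
  allV (fun v => ψ (ψ v) == v) &&
  allV (fun v => ψ (mT (ψ (mT (ψ (mT (ψ (mT v))))))) == v) &&
  !allV (fun v => ψ (mT (ψ (mT v))) == v || (!d && (ψ (mT (ψ (mT v)))).e != v.e))

def ws : List (List ℕ) := [[2], [0, 2], [2, 2], [0, 2, 2], [0, 2, 1, 2]]

def chk (d : Bool) (c0 c3 c4 : V) : Bool :=
  c0.a || c4.a || (!d && (c0.e || c4 != vY)) ||
  ((c0 == v0 || c0 == vW) && c3 == vF.add vX && (c4 == vY || c4 == vY.add vX)) ||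
  (d && mK c0 c3 c4 (mK c0 c3 c4 vY) != vY) ||
  ws.any fun l => bad d (wM (mK c0 c3 c4) l)

theorem chk_all : allB (fun d => allV fun c0 => allV fun c4 =>
    chk d c0 (vF.add vX) c4 && chk d c0 (vF.add vW) c4) = true := by decide +kernel

theorem chk_E : allV (fun v => v.a || mE v != v || v == v0 || v == vW.add vX || v == vF.add vX ||
    v == vF.add vW) = true := by decide +kernel

theorem chk_E' : allV (fun v => v.e || (mE v).e == v.e) = true := by decide +kernel

theorem chk_T : allV (fun v => mT (mT v) == v) = true := by decide +kernel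

def pw (g : G) (b : Bool) : G := bif b then g else 1

theorem pw_xor {g : G} (hg : g * g = 1) (b c : Bool) : pw g (xor b c) = pw g b * pw g c := by
  cases b <;> cases c <;> simp [pw, hg]

theorem pw_comm {g h : G} (hc : Commute g h) (b c : Bool) : Commute (pw g b) (pw h c) := by
  cases b <;> cases c <;> simp [pw, hc]

theorem cn_pw (g k : G) (b : Bool) : cn (pw g b) k = pw (cn g k) b := by
  cases b <;> simp [pw, cn]

/-- five commuting involutions -/
structure Five (p w x f y : G) : Prop where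
  pp : p * p = 1
  ww : w * w = 1
  xx : x * x = 1
  ff : f * f = 1
  yy : y * y = 1
  pw : Commute p w
  px : Commute p x
  pf : Commute p f
  py : Commute p y
  wx : Commute w x
  wf : Commute w f
  wy : Commute w y
  xf : Commute x f
  xy : Commute x y
  fy : Commute f y

def ev (p w x f y : G) (v : V) : G := pw p v.a * (pw w v.b * (pw x v.c * (pw f v.d * pw y v.e)))

section

variable {p w x f y : G}

theorem ev_add (h : Five p w x f y) (v v' : V) :
    ev p w x f y (v.add v') = ev p w x f y v * ev p w x f y v' := by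
  simp only [ev, V.add, pw_xor h.pp, pw_xor h.ww, pw_xor h.xx, pw_xor h.ff, pw_xor h.yy]
  have c4 : Commute (pw y v.e) (pw f v'.d) := pw_comm h.fy.symm _ _
  have c3 : Commute (pw f v.d * pw y v.e) (pw x v'.c) :=
    (pw_comm h.xf.symm _ _).mul_left (pw_comm h.xy.symm _ _)
  have c2 : Commute (pw x v.c * (pw f v.d * pw y v.e)) (pw w v'.b) :=
    (pw_comm h.wx.symm _ _).mul_left ((pw_comm h.wf.symm _ _).mul_left (pw_comm h.wy.symm _ _))
  have c1 : Commute (pw w v.b * (pw x v.c * (pw f v.d * pw y v.e))) (pw p v'.a) :=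
    (pw_comm h.pw.symm _ _).mul_left ((pw_comm h.px.symm _ _).mul_left
      ((pw_comm h.pf.symm _ _).mul_left (pw_comm h.py.symm _ _)))
  rw [c1.mul_mul_mul_comm, c2.mul_mul_mul_comm, c3.mul_mul_mul_comm, c4.mul_mul_mul_comm]

theorem ev_zero : ev p w x f y v0 = 1 := by simp [ev, v0, pw]
theorem ev_P : ev p w x f y vP = p := by simp [ev, vP, pw]
theorem ev_W : ev p w x f y vW = w := by simp [ev, vW, pw]
theorem ev_X : ev p w x f y vX = x := by simp [ev, vX, pw]
theorem ev_F : ev p w x f y vF = f := by simp [ev, vF, pw]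
theorem ev_Y : ev p w x f y vY = y := by simp [ev, vY, pw]

theorem ev_sm (i : Bool) (v : V) : ev p w x f y (v.sm i) = pw (ev p w x f y v) i := by
  cases i <;> simp [V.sm, pw, ev]

theorem ev_sq (h : Five p w x f y) (v : V) : ev p w x f y v * ev p w x f y v = 1 := by
  rw [← ev_add h]; simp [V.add, ev, pw]

theorem ev_lin (h : Five p w x f y) {g : G} {c0 c1 c2 c3 c4 v : V}
    (h0 : v.a = true → cn p g = ev p w x f y c0) (h1 : cn w g = ev p w x f y c1)
    (h2 : cn x g = ev p w x f y c2) (h3 : cn f g = ev p w x f y c3)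
    (h4 : v.e = true → cn y g = ev p w x f y c4) :
    cn (ev p w x f y v) g = ev p w x f y (lin c0 c1 c2 c3 c4 v) := by
  simp only [lin, fV_eq, id, ev_add h, ev_sm]
  have e0 : pw (cn p g) v.a = pw (ev p w x f y c0) v.a := by
    cases hv : v.a
    · rfl
    · rw [h0 hv]
  have e4 : pw (cn y g) v.e = pw (ev p w x f y c4) v.e := by
    cases hv : v.e
    · rfl
    · rw [h4 hv]
  rw [← e0, ← e4, ← h1, ← h2, ← h3, ev]
  simp only [cn_mul, cn_pw]

/-- the subgroup generated by the five involutions -/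
def FF (h : Five p w x f y) : Subgroup G where
  carrier := Set.range (ev p w x f y)
  one_mem' := ⟨v0, ev_zero⟩
  mul_mem' := by rintro _ _ ⟨v, rfl⟩ ⟨v', rfl⟩; exact ⟨_, ev_add h _ _⟩
  inv_mem' := by
    rintro _ ⟨v, rfl⟩
    exact ⟨v, (inv_eq_of_mul_eq_one_right (ev_sq h v)).symm⟩

def Acts (p w x f y g : G) (φ : V → V) : Prop :=
  ∀ v, cn (ev p w x f y v) g = ev p w x f y (φ v)

theorem Acts.norm [Finite G] (h : Five p w x f y) {g : G} {φ : V → V} (a : Acts p w x f y g φ) :
    g ∈ normalizer (FF h : Set G) :=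
  norm_of_cn (by rintro _ ⟨v, rfl⟩; exact ⟨_, (a v).symm⟩)

def letG (β τ k : G) : ℕ → G
  | 0 => β
  | 1 => τ
  | _ => k

def wG (β τ k : G) : List ℕ → G
  | [] => 1
  | i :: l => letG β τ k i * wG β τ k l

theorem acts_w {β τ k : G} {K : V → V} (hb : Acts p w x f y β mB) (ht : Acts p w x f y τ mT)
    (hk : Acts p w x f y k K) : ∀ l, Acts p w x f y (wG β τ k l) (wM K l)
  | [] => fun v => cn_of_comm (Commute.one_right _)
  | i :: l => fun v => by
    have : Acts p w x f y (letG β τ k i) (letter K i) := by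
      rcases i with _ | _ | i
      exacts [hb, ht, hk]
    rw [wG, cn_cn, this v, acts_w hb ht hk l]; rfl

/-- the finite part of the W-lemma -/
theorem fin_part [Finite G] (h : Five p w x f y) {β τ k : G} {c0 c3 c4 : V} (d : Bool)
    (inj : ∀ v v', ev p w x f y v = ev p w x f y v' → (d = true ∨ v.e = v'.e) → v = v')
    (hb : Acts p w x f y β mB) (ht : Acts p w x f y τ mT)
    (hk : Acts p w x f y k (mK c0 c3 c4)) (h0 : c0.a = false) (h4 : c4.a = false)
    (hd : d = false → c0.e = false ∧ c4 = vY) (h3 : c3 = vF.add vX ∨ c3 = vF.add vW)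
    (kk : cn y (k * k) = y) {R : Subgroup G} (hR : IsSyl 2 R (normalizer (FF h : Set G)))
    (hab : ∀ u ∈ R, ∀ v ∈ R, ∀ x ∈ FF h, cn x (u * v) = cn x (v * u)) :
    (c0 = v0 ∨ c0 = vW) ∧ c3 = vF.add vX ∧ (c4 = vY ∨ c4 = vY.add vX) := by
  have hc : chk d c0 c3 c4 = true := by
    have := allV_iff.mp (allV_iff.mp (allB_iff.mp chk_all d) c0) c4
    rw [Bool.and_eq_true] at this
    rcases h3 with rfl | rfl
    exacts [this.1, this.2]
  simp only [chk, Bool.or_eq_true, Bool.and_eq_true, h0, h4, beq_iff_eq, bne_iff_ne,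
    List.any_eq_true, Bool.not_eq_true'] at hc
  rcases hc with ((((hc | hc) | hc) | hc) | hc) | ⟨l, -, hc⟩
  · exact absurd hc (by simp)
  · exact absurd hc (by simp)
  · obtain ⟨a, b⟩ := hd hc.1
    rcases hc.2 with c | c
    · rw [a] at c; exact absurd c (by simp)
    · exact absurd b c
  · exact ⟨hc.1.1, hc.1.2, hc.2⟩
  · refine absurd (inj _ _ ?_ (Or.inl hc.1)) hc.2
    rw [← hk, ← hk, ← cn_cn, ev_Y, kk]
  · exfalso
    have a := acts_w hb ht hk l
    simp only [bad, Bool.and_eq_true, allV_iff, beq_iff_eq, Bool.not_eq_true'] at hc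
    obtain ⟨⟨b1, b2⟩, b3⟩ := hc
    have := wgen hR hab (ht.norm h) (a.norm h)
      (by
        rintro _ ⟨v, rfl⟩
        rw [cn_cn, ht, ht, beq_iff_eq.mp (allV_iff.mp chk_T v)])
      (by rintro _ ⟨v, rfl⟩; rw [cn_cn, a, a, b1])
      (by
        rintro _ ⟨v, rfl⟩
        simp only [cn_cn]
        rw [ht, a, ht, a, ht, a, ht, a, b2])
    refine absurd (allV_iff.mpr fun v => ?_) (by rw [b3]; simp)
    have e := this _ ⟨v, rfl⟩
    simp only [cn_cn] at e
    rw [ht, a, ht, a] at e
    cases d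
    · by_cases he : (wM (mK c0 c3 c4) l (mT (wM (mK c0 c3 c4) l (mT v)))).e = v.e
      · simp [inj _ _ e (Or.inr he)]
      · simp [he]
    · simp [inj _ _ e (Or.inl rfl)]

end

end Cfsg.Agent.H41.EE5
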