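import Cfsg.Agent.H78.G40B

/-! L40G-F2B: the elements of order three in the symplectic model. -/

set_option autoImplicit false

namespace Cfsg.Agent.H41.G40F2b

open Subgroup Matrix Cfsg.Agent.H46.L40 Cfsg.Agent.H78.G40

section Abs
variable {X : Type} [Group X]

theorem enum {V : Subgroup X} {p q c : X} (hp : p ∈ centralizer (V : Set X))
    (hq : q ∈ centralizer (V : Set X)) (hc : c ∈ V) (pp : p * p = c) (qq : q * q = c)
    (qp : q * p = p * q * c) {y : X} (hy : y ∈ closure {p, q} ⊔ V) :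
    ∃ v ∈ V, y = v ∨ y = p * v ∨ y = q * v ∨ y = p * q * v := by
  have cp : ∀ v ∈ V, ∀ x, v * (p * x) = p * (v * x) := fun v hv x => by
    rw [← mul_assoc, hp v hv, mul_assoc]
  have cq : ∀ v ∈ V, ∀ x, v * (q * x) = q * (v * x) := fun v hv x => by
    rw [← mul_assoc, hq v hv, mul_assoc]
  have mV : ∀ w ∈ V, ∀ y, (∃ v ∈ V, y = v ∨ y = p * v ∨ y = q * v ∨ y = p * q * v) →
      ∃ v ∈ V, w * y = v ∨ w * y = p * v ∨ w * y = q * v ∨ w * y = p * q * v := by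
    rintro w hw y ⟨v, hv, rfl | rfl | rfl | rfl⟩
    · exact ⟨_, mul_mem hw hv, Or.inl rfl⟩
    · exact ⟨_, mul_mem hw hv, Or.inr (Or.inl (cp w hw v))⟩
    · exact ⟨_, mul_mem hw hv, Or.inr (Or.inr (Or.inl (cq w hw v)))⟩
    · exact ⟨_, mul_mem hw hv, Or.inr (Or.inr (Or.inr (by
        rw [mul_assoc, cp w hw, cq w hw, mul_assoc])))⟩
  have mp : ∀ y, (∃ v ∈ V, y = v ∨ y = p * v ∨ y = q * v ∨ y = p * q * v) →
      ∃ v ∈ V, p * y = v ∨ p * y = p * v ∨ p * y = q * v ∨ p * y = p * q * v := by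
    rintro y ⟨v, hv, rfl | rfl | rfl | rfl⟩
    · exact ⟨_, hv, Or.inr (Or.inl rfl)⟩
    · exact ⟨_, mul_mem hc hv, Or.inl (by rw [← mul_assoc, pp])⟩
    · exact ⟨_, hv, Or.inr (Or.inr (Or.inr (mul_assoc _ _ _).symm))⟩
    · exact ⟨_, mul_mem hc hv, Or.inr (Or.inr (Or.inl (by
        rw [mul_assoc, ← mul_assoc p p, pp, cq c hc])))⟩
  have mq : ∀ y, (∃ v ∈ V, y = v ∨ y = p * v ∨ y = q * v ∨ y = p * q * v) →
      ∃ v ∈ V, q * y = v ∨ q * y = p * v ∨ q * y = q * v ∨ q * y = p * q * v := by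
    rintro y ⟨v, hv, rfl | rfl | rfl | rfl⟩
    · exact ⟨_, hv, Or.inr (Or.inr (Or.inl rfl))⟩
    · exact ⟨_, mul_mem hc hv, Or.inr (Or.inr (Or.inr (by rw [← mul_assoc, qp, mul_assoc])))⟩
    · exact ⟨_, mul_mem hc hv, Or.inl (by rw [← mul_assoc, qq])⟩
    · exact ⟨_, mul_mem hc (mul_mem hc hv), Or.inr (Or.inl (by
        rw [mul_assoc p, ← mul_assoc q, qp, mul_assoc, cq c hc, mul_assoc, ← mul_assoc q, qq]))⟩
  rw [← closure_eq V, ← Subgroup.closure_union] at hy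
  induction hy using closure_induction_left with
  | one => exact ⟨1, one_mem _, Or.inl rfl⟩
  | mul_left x hx y _ ih =>
    rcases hx with (rfl | rfl) | hx
    · exact mp y ih
    · exact mq y ih
    · exact mV x hx y ih
  | inv_mul_cancel x hx y _ ih =>
    rcases hx with (rfl | rfl) | hx
    · rw [show x⁻¹ * y = c⁻¹ * (x * y) by rw [← pp]; group]
      exact mV _ (inv_mem hc) _ (mp y ih)
    · rw [show x⁻¹ * y = c⁻¹ * (x * y) by rw [← qq]; group]
      exact mV _ (inv_mem hc) _ (mq y ih)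
    · exact mV _ (inv_mem hx) y ih

theorem ncm {V : Subgroup X} {k w w' v : X} (hk : k ∈ centralizer (V : Set X))
    (hw : w ∈ centralizer (V : Set X)) (hv : v ∈ V) (e : k * w = w' * k)
    (h : k * (w * v) * k⁻¹ * (w * v)⁻¹ ∈ V) : w' * w = w * w' := by
  have e1 : k * (w * v) * k⁻¹ * (w * v)⁻¹ = w' * w⁻¹ := by
    rw [← mul_assoc, e, mul_assoc w', ← hk v hv]; group
  rw [e1] at h
  have := hw _ h
  calc w' * w = (w' * w⁻¹ * w) * w := by group
    _ = w * (w' * w⁻¹) * w := by rw [this]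
    _ = w * w' := by group

theorem nrm [Finite X] {S : Set X} {k : X} (h : ∀ s ∈ S, k * s * k⁻¹ ∈ closure S) :
    k ∈ normalizer ((closure S : Subgroup X) : Set X) := by
  refine mem_normalizer_fintype fun x hx => ?_
  induction hx using closure_induction with
  | mem x hx => exact h x hx
  | one => simp
  | mul x y _ _ h1 h2 => simpa [mul_assoc] using mul_mem h1 h2
  | inv x _ h1 => simpa [mul_assoc] using inv_mem h1

theorem cen {S : Set X} {k : X} (h : ∀ s ∈ S, s * k = k * s) :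
    k ∈ centralizer ((closure S : Subgroup X) : Set X) := by
  rw [centralizer_closure]; exact h

end Abs

def P (i : Fin 3) : Sp6 := ⟨bl i 0 1 2 0, by revert i; decide +kernel⟩
def Q (i : Fin 3) : Sp6 := ⟨bl i 1 1 1 2, by revert i; decide +kernel⟩
def K (i : Fin 3) : Sp6 := ⟨bl i 1 1 0 1, by revert i; decide +kernel⟩
def Z (i : Fin 3) : Sp6 := ⟨bl i 2 0 0 2, by revert i; decide +kernel⟩
def Y : Sp6 := ⟨fromBlocks !![1, 1, 0; 2, 1, 0; 0, 0, 2] 0 0 !![2, 2, 0; 1, 2, 0; 0, 0, 2],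
  by decide +kernel⟩

theorem ey : E2 y8 = Y := by decide +kernel
theorem ez : E2 z0 = Z 0 * Z 1 := by decide +kernel
theorem ea : E2 a0 = Z 1 * Z 2 := by decide +kernel

theorem r1 : ∀ i j, Z j * K i = K i * Z j ∧ Z j * P i = P i * Z j ∧ Z j * Q i = Q i * Z j := by
  decide +kernel
theorem r2 : ∀ i j, i ≠ j → P j * K i = K i * P j ∧ Q j * K i = K i * Q j := by decide +kernel
theorem r3 : ∀ i, K i * K i * K i = 1 ∧ P i * P i = Z i ∧ Q i * Q i = Z i ∧
    Q i * P i = P i * Q i * Z i ∧ K i * P i = Q i * Z i * K i ∧ K i * Q i = P i * Q i * Z i * K i ∧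
    K i * (P i * Q i) = P i * K i := by decide +kernel
theorem r4 : ∀ i, ¬ ((Q i * Z i * P i).1 = (P i * (Q i * Z i)).1 ∨
      (Q i * Z i * P i).1 = -(P i * (Q i * Z i)).1) ∧
    ¬ ((P i * Q i * Z i * Q i).1 = (Q i * (P i * Q i * Z i)).1 ∨
      (P i * Q i * Z i * Q i).1 = -(Q i * (P i * Q i * Z i)).1) ∧
    ¬ ((P i * (P i * Q i)).1 = (P i * Q i * P i).1 ∨ (P i * (P i * Q i)).1 = -(P i * Q i * P i).1) ∧
    ¬ ((P i * Q i).1 = (Q i * P i).1 ∨ (P i * Q i).1 = -(Q i * P i).1) := by decide +kernel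
theorem r5 : P 0 * P 1 * Y * (P 0 * P 1) = Y ∧ Y * P 2 = P 2 * Y := by decide +kernel
theorem r6 : (Z 0).1 = -(Z 1 * Z 2).1 ∧ (Z 1).1 = -(Z 0 * Z 1 * (Z 1 * Z 2)).1 ∧
    (Z 2).1 = -(Z 0 * Z 1).1 := by decide +kernel

theorem cV {x : Sp6} (h : ∀ j, Z j * x = x * Z j) :
    mk2 x ∈ centralizer ((V0.map e2 : Subgroup X2) : Set X2) := by
  rw [V0, MonoidHom.map_closure]
  refine cen ?_
  rintro _ ⟨_, rfl | rfl, rfl⟩
  · change mk2 (E2 z0) * _ = _ * mk2 (E2 z0)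
    rw [← map_mul, ← map_mul, ez, mul_assoc, h, ← mul_assoc, h, mul_assoc]
  · change mk2 (E2 a0) * _ = _ * mk2 (E2 a0)
    rw [← map_mul, ← map_mul, ea, mul_assoc, h, ← mul_assoc, h, mul_assoc]

theorem zV (i : Fin 3) : mk2 (Z i) ∈ V0.map e2 := by
  have hz : mk2 (Z 0 * Z 1) ∈ V0.map e2 := ez ▸ ⟨z0, subset_closure (Or.inl rfl), rfl⟩
  have ha : mk2 (Z 1 * Z 2) ∈ V0.map e2 := ea ▸ ⟨a0, subset_closure (Or.inr rfl), rfl⟩
  fin_cases i
  · exact (mk2_eq _ _).2 (Or.inr r6.1) ▸ ha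
  · have := mul_mem hz ha
    rw [← map_mul] at this
    exact (mk2_eq _ _).2 (Or.inr r6.2.1) ▸ this
  · exact (mk2_eq _ _).2 (Or.inr r6.2.2) ▸ hz

theorem f2b : F2bS := by
  have kV : ∀ i, mk2 (K i) ∈ centralizer ((V0.map e2 : Subgroup X2) : Set X2) :=
    fun i => cV fun j => (r1 i j).1
  have pV : ∀ i, mk2 (P i) ∈ centralizer ((V0.map e2 : Subgroup X2) : Set X2) :=
    fun i => cV fun j => (r1 i j).2.1
  have qV : ∀ i, mk2 (Q i) ∈ centralizer ((V0.map e2 : Subgroup X2) : Set X2) :=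
    fun i => cV fun j => (r1 i j).2.2
  have pA : ∀ i, mk2 (P i) ∈ As dd2 := fun i => subset_closure (Or.inl ⟨i, rfl⟩)
  have qA : ∀ i, mk2 (Q i) ∈ As dd2 := fun i => subset_closure (Or.inr ⟨i, rfl⟩)
  have zA : ∀ i, mk2 (Z i) ∈ As dd2 := fun i => by
    rw [← (r3 i).2.1, map_mul]; exact mul_mem (pA i) (pA i)
  have pn : ∀ i, mk2 (P i) ∉ V0.map e2 := fun i h => (r4 i).2.2.2 ((mk2_eq _ _).1 (by
    rw [map_mul, map_mul]; exact qV i _ h))
  have cj : ∀ a b k : Sp6, k * a = b * k → mk2 k * mk2 a * (mk2 k)⁻¹ = mk2 b := fun a b k h => by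
    rw [← map_mul, h, map_mul, mul_inv_cancel_right]
  refine ⟨kV, fun i => nrm ?_, fun i => ?_, fun i y hy h => ?_, fun i j ij y hy => ?_,
    ⟨mk2 (P 0), mem_sup_left (subset_closure (Or.inl rfl)), mk2 (P 1),
      mem_sup_left (subset_closure (Or.inl rfl)), pn 0, pn 1, ?_⟩, ?_⟩
  · rintro _ (⟨j, rfl⟩ | ⟨j, rfl⟩)
    · change mk2 (K i) * mk2 (P j) * (mk2 (K i))⁻¹ ∈ As dd2
      by_cases e : i = j
      · subst e
        rw [cj _ _ _ (r3 i).2.2.2.2.1, map_mul]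
        exact mul_mem (qA i) (zA i)
      · rw [cj _ _ _ (r2 i j e).1.symm]; exact pA j
    · change mk2 (K i) * mk2 (Q j) * (mk2 (K i))⁻¹ ∈ As dd2
      by_cases e : i = j
      · subst e
        rw [cj _ _ _ (r3 i).2.2.2.2.2.1, map_mul, map_mul]
        exact mul_mem (mul_mem (pA i) (qA i)) (zA i)
      · rw [cj _ _ _ (r2 i j e).2.symm]; exact qA j
  · change mk2 (K i) ^ 3 = 1
    rw [← map_pow, pow_three', (r3 i).1, map_one]
  · obtain ⟨-, pp, qq, qp, kp, kq, kpq⟩ := r3 i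
    obtain ⟨v, hv, rfl | rfl | rfl | rfl⟩ := enum (pV i) (qV i) (zV i) (by rw [← map_mul, pp])
      (by rw [← map_mul, qq]) (by rw [← map_mul, qp, map_mul, map_mul]) hy
    · exact hv
    · exact absurd ((mk2_eq _ _).1 (by
        rw [map_mul _ _ (P i), map_mul _ (P i)]
        exact ncm (kV i) (pV i) hv (by rw [← map_mul, kp, map_mul]) h)) (r4 i).1
    · exact absurd ((mk2_eq _ _).1 (by
        rw [map_mul _ _ (Q i), map_mul _ (Q i) (P i * Q i * Z i)]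
        exact ncm (kV i) (qV i) hv (by rw [← map_mul, kq, map_mul]) h)) (r4 i).2.1
    · exact absurd ((mk2_eq _ _).1 (by
        rw [map_mul _ (P i) (P i * Q i), map_mul _ (P i * Q i) (P i), map_mul]
        exact ncm (kV i) (mul_mem (pV i) (qV i)) hv
          (by rw [← map_mul, ← map_mul, kpq, map_mul]) h)) (r4 i).2.2.1
  · have : Qs e2 dd2 j ≤ centralizer {mk2 (K i)} := by
      refine sup_le ((closure_le _).2 ?_) fun v hv => mem_centralizer_singleton_iff.2 (kV i v hv)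
      rintro _ (rfl | rfl)
      · refine mem_centralizer_singleton_iff.2 ?_
        change mk2 (P j) * _ = _ * mk2 (P j)
        rw [← map_mul, (r2 i j ij).1, map_mul]
      · refine mem_centralizer_singleton_iff.2 ?_
        change mk2 (Q j) * _ = _ * mk2 (Q j)
        rw [← map_mul, (r2 i j ij).2, map_mul]
    exact (mem_centralizer_singleton_iff.1 (this hy)).symm
  · change mk2 (E2 y8) * _ * (mk2 (E2 y8))⁻¹ ∈ _
    rw [ey, ← map_mul _ (P 0), cj (P 0 * P 1) (P 0 * P 1)⁻¹ Y (by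
      rw [eq_inv_mul_iff_mul_eq, ← mul_assoc, r5.1]), map_inv, map_mul]
    exact inv_mem (mul_mem (pA 0) (pA 1))
  · change mk2 (E2 y8) * mk2 (P 2) * (mk2 (E2 y8))⁻¹ ∈ _
    rw [ey, cj _ _ _ r5.2]
    exact pA 2

end Cfsg.Agent.H41.G40F2b
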