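import Cfsg.Agent.H78.G40A
import Cfsg.Agent.H69.L40Fr2

/-! L40G-KITB: involutions and symmetric matrices in `SL₃(3)`. -/

set_option autoImplicit false

namespace Cfsg.Agent.H41.G40KitB

open Cfsg.Agent.H46.L40 Cfsg.Agent.H78.G40 Cfsg.Agent.H69.L40Fr2

def L1 : List ℕ := [
  10974, 11217, 11460, 15375, 15618, 15861, 1875, 8436, 14997, 12432, 6114, 19479, 16833, 3954,
  10758, 1308, 7869, 14430, 11703, 18507, 5628, 16104, 9786, 3468, 1548, 14670, 8109, 2034,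
  15156, 8595, 1791, 14913, 8352, 2226, 2712, 2469, 4440, 4926, 4683, 1551, 14673, 8112, 3684,
  10731, 17049, 5898, 19506, 12702, 903, 14025, 7464, 2955, 16563, 9759, 5169, 12216, 18534,
  8292, 7806, 975, 14097, 7536, 1002, 1974, 13152, 13881, 14610, 15339, 16068, 16797, 17526,
  18255, 18984, 13395, 13638, 12666, 9993, 1056, 7617, 14178, 5376, 4161, 17769, 15825, 10479,
  12180, 1137, 14259, 7698, 3189, 6348, 15582, 18012, 13161, 13404, 13647, 6627, 7113, 6870,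
  1956, 8517, 15078, 8301, 1983, 14619, 14889, 2010, 8085, 984, 14106, 7545, 7815, 1011, 13890,
  14403, 1038, 7356]

def L2 : List ℕ := [
  10786, 1309, 18076, 12244, 2767, 15160, 16618, 7141, 6412, 18643, 1876, 9166, 17185, 4792,
  7708, 12811, 13540, 3334, 4252, 11542, 14458, 3901, 11191, 14107, 11596, 14512, 4306, 18103,
  1336, 10813, 985, 10462, 17752, 12325, 15241, 2848, 7897, 17374, 4981, 4630, 7546, 17023,
  13054, 13783, 3577, 15997, 8707, 5791, 5602, 15808, 8518, 15646, 8356, 5440, 6520, 16726, 7249,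
  2686, 15079, 12163, 16375, 6898, 6169, 7978, 5062, 17455, 1957, 18724, 9247, 17104, 7627, 4711,
  1548, 3735, 5922, 5220, 2304, 1575, 8109, 10296, 12483, 11781, 8865, 8136, 14670, 16857, 19044,
  18342, 15426, 14697, 5463, 2547, 1818, 1791, 3978, 6165, 8379, 12024, 9108, 12726, 8352, 10539,
  15669, 14940, 18585, 17100, 19287, 14913, 5706, 2790, 2061, 2034, 4221, 6408, 9351, 8622,
  12267, 10782, 12969, 8595, 15183, 18828, 15912, 19530, 15156, 17343, 17373, 1335, 11541, 16482,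
  1902, 11379, 10974, 11703, 12432, 1308, 12243, 16617, 18831, 2793, 8625, 19398, 2631, 7734,
  2226, 2955, 3684, 18804, 3495, 7869, 10083, 13728, 6438, 10650, 13566, 5547, 13161, 13890,
  14619, 10056, 14430, 5682, 11622, 12351, 13080, 984, 11919, 16293, 17049, 1011, 11217, 16158,
  1578, 11055, 3603, 4332, 2874, 3171, 7545, 18480, 18507, 2469, 8301, 19074, 2307, 7410, 15267,
  13809, 14538, 5358, 9732, 14106, 10326, 13242, 5223, 9759, 13404, 6114, 11298, 12027, 12756,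
  1956, 17265, 12891, 16968, 930, 11136, 16563, 1983, 11460, 4008, 2550, 3279, 4143, 19452, 8517,
  19479, 2712, 7815, 18426, 2388, 8220, 14214, 14943, 13485, 6330, 15078, 10704, 9678, 13323,
  6033, 10731, 13647, 5628]

def en (n k : ℕ) : ZMod 3 := ((n / 3 ^ k % 3 : ℕ) : ZMod 3)

def dt (a b c d e f g h i : ZMod 3) : ZMod 3 :=
  a * e * i - a * f * h - b * d * i + b * f * g + c * d * h - c * e * g

def dn (n : ℕ) : ZMod 3 :=
  dt (en n 0) (en n 1) (en n 2) (en n 3) (en n 4) (en n 5) (en n 6) (en n 7) (en n 8)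

def mk (n : ℕ) (h : dn n = 1) : S3 :=
  ⟨!![en n 0, en n 1, en n 2; en n 3, en n 4, en n 5; en n 6, en n 7, en n 8], by
    rw [Matrix.det_fin_three]; exact h⟩

def ok1 (a b c d e f g h i : ZMod 3) : Bool :=
  !((a * a + b * d + c * g == 1) && (a * b + b * e + c * h == 0) && (a * c + b * f + c * i == 0) && (d * a + e * d + f * g == 0) && (d * b + e * e + f * h == 1) && (d * c + e * f + f * i == 0) && (g * a + h * d + i * g == 0) && (g * b + h * e + i * h == 0) && (g * c + h * f + i * i == 1) && (dt a b c d e f g h i == 1)) ||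
  ((a == 1) && (b == 0) && (c == 0) && (d == 0) && (e == 1) && (f == 0) && (g == 0) && (h == 0) && (i == 1)) ||
  L1.any fun n => (en n 0 * 2 + en n 1 * 0 + en n 2 * 0 == a * en n 0 + b * en n 3 + c * en n 6) &&
      (en n 0 * 0 + en n 1 * 2 + en n 2 * 0 == a * en n 1 + b * en n 4 + c * en n 7) &&
      (en n 0 * 0 + en n 1 * 0 + en n 2 * 1 == a * en n 2 + b * en n 5 + c * en n 8) &&
      (en n 3 * 2 + en n 4 * 0 + en n 5 * 0 == d * en n 0 + e * en n 3 + f * en n 6) &&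
      (en n 3 * 0 + en n 4 * 2 + en n 5 * 0 == d * en n 1 + e * en n 4 + f * en n 7) &&
      (en n 3 * 0 + en n 4 * 0 + en n 5 * 1 == d * en n 2 + e * en n 5 + f * en n 8) &&
      (en n 6 * 2 + en n 7 * 0 + en n 8 * 0 == g * en n 0 + h * en n 3 + i * en n 6) &&
      (en n 6 * 0 + en n 7 * 2 + en n 8 * 0 == g * en n 1 + h * en n 4 + i * en n 7) &&
      (en n 6 * 0 + en n 7 * 0 + en n 8 * 1 == g * en n 2 + h * en n 5 + i * en n 8) && (dn n == 1)

def ok2 (a b c e f i : ZMod 3) : Bool :=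
  !(dt a b c b e f c f i == 1) ||
  L2.any fun n => (a == en n 0 * en n 0 + en n 1 * en n 1 + en n 2 * en n 2) &&
      (b == en n 0 * en n 3 + en n 1 * en n 4 + en n 2 * en n 5) &&
      (c == en n 0 * en n 6 + en n 1 * en n 7 + en n 2 * en n 8) &&
      (b == en n 3 * en n 0 + en n 4 * en n 1 + en n 5 * en n 2) &&
      (e == en n 3 * en n 3 + en n 4 * en n 4 + en n 5 * en n 5) &&
      (f == en n 3 * en n 6 + en n 4 * en n 7 + en n 5 * en n 8) &&
      (c == en n 6 * en n 0 + en n 7 * en n 1 + en n 8 * en n 2) &&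
      (f == en n 6 * en n 3 + en n 7 * en n 4 + en n 8 * en n 5) &&
      (i == en n 6 * en n 6 + en n 7 * en n 7 + en n 8 * en n 8) && (dn n == 1)

theorem k1 : ∀ a b c d e f g h i : ZMod 3, ok1 a b c d e f g h i = true := by decide +kernel

theorem k2 : ∀ a b c e f i : ZMod 3, ok2 a b c e f i = true := by decide +kernel

theorem inv (m : S3) (h : m * m = 1) (ne : m ≠ 1) : IsConj z0 m := by
  have hd := m.2
  rw [Matrix.det_fin_three] at hd
  have q : ∀ i j, m.1 i 0 * m.1 0 j + m.1 i 1 * m.1 1 j + m.1 i 2 * m.1 2 j = (1 : S3).1 i j :=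
    fun i j => by rw [← me, h]
  have k := k1 (m.1 0 0) (m.1 0 1) (m.1 0 2) (m.1 1 0) (m.1 1 1) (m.1 1 2) (m.1 2 0) (m.1 2 1) (m.1 2 2)
  simp only [ok1, Bool.or_eq_true, Bool.not_eq_true', Bool.and_eq_true, beq_iff_eq,
    List.any_eq_true, ← Bool.not_eq_true] at k
  rcases k with (k | k) | ⟨n, -, ⟨⟨⟨⟨⟨⟨⟨⟨k0, k1⟩, k2⟩, k3⟩, k4⟩, k5⟩, k6⟩, k7⟩, k8⟩, kd⟩
  · exact absurd ⟨⟨⟨⟨⟨⟨⟨⟨⟨q 0 0, q 0 1⟩, q 0 2⟩, q 1 0⟩, q 1 1⟩, q 1 2⟩, q 2 0⟩, q 2 1⟩, q 2 2⟩, hd⟩ k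
  · obtain ⟨⟨⟨⟨⟨⟨⟨⟨k0, k1⟩, k2⟩, k3⟩, k4⟩, k5⟩, k6⟩, k7⟩, k8⟩ := k
    exact absurd (ext9 ⟨k0, k1, k2, k3, k4, k5, k6, k7, k8⟩) ne
  · refine isConj_iff.2 ⟨mk n kd, mul_inv_eq_of_eq_mul (ext9 ?_)⟩
    simp only [me]
    exact ⟨k0, k1, k2, k3, k4, k5, k6, k7, k8⟩

theorem gr (c : S3) (h : c * tr c = 1) : ∃ d, c = d * (tr d)⁻¹ := by
  have hd := c.2
  rw [Matrix.det_fin_three] at hd
  have e : Matrix.SpecialLinearGroup.transpose c = c := by
    rw [← inv_eq_of_mul_eq_one_left (tr_self c), inv_eq_of_mul_eq_one_left h]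
  have s : ∀ i j, c.1 j i = c.1 i j := fun i j => congrArg (fun x : S3 => x.1 i j) e
  rw [s 0 1, s 0 2, s 1 2] at hd
  have k := k2 (c.1 0 0) (c.1 0 1) (c.1 0 2) (c.1 1 1) (c.1 1 2) (c.1 2 2)
  simp only [ok2, Bool.or_eq_true, Bool.not_eq_true', Bool.and_eq_true, beq_iff_eq,
    List.any_eq_true, ← Bool.not_eq_true] at k
  rcases k with k | ⟨n, -, ⟨⟨⟨⟨⟨⟨⟨⟨k0, k1⟩, k2⟩, k3⟩, k4⟩, k5⟩, k6⟩, k7⟩, k8⟩, kd⟩
  · exact absurd hd k
  · refine ⟨mk n kd, ?_⟩
    rw [inv_eq_of_mul_eq_one_left (tr_self (mk n kd))]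
    refine ext9 ?_
    simp only [me]
    rw [s 0 1, s 0 2, s 1 2]
    exact ⟨k0, k1, k2, k3, k4, k5, k6, k7, k8⟩

theorem kitB : KitBS := ⟨inv, gr⟩

end Cfsg.Agent.H41.G40KitB
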