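import Cfsg.Agent.H48.M2Defs
import Cfsg.Agent.H3.Cores

/-! Maximal 2-local subgroups of the Monster: the hyperbolic case, first step. -/

set_option autoImplicit false

namespace Cfsg.Agent.H48.M2

open Cfsg Subgroup Cfsg.Agent.H48 Cfsg.Agent.H48.Rec Cfsg.Agent.H49 Cfsg.Agent.H95.Par
open Cfsg.Agent.H97.Gr (DD ZZ)
open Cfsg.Agent.H97.Yt (M)

namespace H1

theorem idx_le {G : Type*} [Group G] [Finite G] {H K : Subgroup G}
    (h : ∀ x ∈ H, ∀ y ∈ H, x ∉ K → y ∉ K → x * y ∈ K) :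
    Nat.card H ≤ 2 * Nat.card ↥(H ⊓ K) := by
  classical
  by_cases hk : H ≤ K
  · rw [inf_eq_left.2 hk]; omega
  obtain ⟨t, ht, nt⟩ := SetLike.not_le_iff_exists.1 hk
  let f : H → Bool × ↥(H ⊓ K) := fun x =>
    if e : (x : G) ∈ K then (true, ⟨x, x.2, e⟩) else (false, ⟨t * x, mul_mem ht x.2, h t ht x x.2 nt e⟩)
  have inj : Function.Injective f := by
    intro x y e
    by_cases ex : (x : G) ∈ K <;> by_cases ey : (y : G) ∈ K <;>
      simp only [f, ex, ey, dif_pos, dif_neg, not_false_eq_true, Prod.mk.injEq,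
        true_and, Bool.true_eq_false, Bool.false_eq_true, false_and] at e
    · exact Subtype.ext (congrArg (fun z : ↥(H ⊓ K) => (z : G)) e)
    · exact Subtype.ext (mul_left_cancel (congrArg (fun z : ↥(H ⊓ K) => (z : G)) e))
  have := Nat.card_le_card_of_injective f inj
  rwa [Nat.card_prod, Nat.card_eq_fintype_card (α := Bool), Fintype.card_bool] at this

theorem two_le {G : Type*} [Group G] [Finite G] {H L : Subgroup G} (hl : H ≤ L) {t : G}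
    (ht : t ∈ L) (nt : t ∉ H) : 2 * Nat.card H ≤ Nat.card L := by
  obtain ⟨k, hk⟩ := card_dvd_of_le hl
  have hp : 0 < Nat.card L := Nat.card_pos
  have ne : Nat.card L ≠ Nat.card H := fun e =>
    nt ((eq_of_le_of_card_ge hl e.le).symm ▸ ht)
  rcases k with _ | _ | k
  · omega
  · omega
  · rw [hk]; nlinarith

theorem ext {V H : Subgroup M} (hV : El V) (hH : H ≤ V) {t : M} (ht : t ∈ V) :
    ∃ H1 : Subgroup M, ∀ y, y ∈ H1 ↔ y ∈ H ∨ t * y ∈ H := by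
  have mv : ∀ a, t * a ∈ H → a ∈ V := fun a h => by
    simpa using mul_mem (inv_mem ht) (hH h)
  refine ⟨{ carrier := {y | y ∈ H ∨ t * y ∈ H}
            mul_mem' := ?_, one_mem' := Or.inl (one_mem _), inv_mem' := ?_ }, fun y => Iff.rfl⟩
  · rintro a b (ha | ha) (hb | hb)
    · exact Or.inl (mul_mem ha hb)
    · refine Or.inr ?_
      rw [← mul_assoc, hV.cm ht (hH ha), mul_assoc]
      exact mul_mem ha hb
    · refine Or.inr ?_
      rw [← mul_assoc]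
      exact mul_mem ha hb
    · refine Or.inl ?_
      have := mul_mem ha hb
      rwa [hV.cm ht (mv a ha), mul_assoc, ← mul_assoc t, hV t ht, one_mul] at this
  · rintro a (ha | ha)
    · exact Or.inl (inv_mem ha)
    · refine Or.inr ?_
      rwa [inv_eq_of_mul_eq_one_right (hV a (mv a ha))]

theorem four_le {V H L : Subgroup M} (hV : El V) (hl : H ≤ L) (hL : L ≤ V) {s t : M}
    (hs : s ∈ L) (ht : t ∈ L) (ns : s ∉ H) (nt : t ∉ H) (nst : s * t ∉ H) :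
    4 * Nat.card H ≤ Nat.card L := by
  obtain ⟨H1, h1⟩ := ext hV (hl.trans hL) (hL hs)
  have a1 : 2 * Nat.card H ≤ Nat.card H1 :=
    two_le (fun x hx => (h1 x).2 (Or.inl hx)) (t := s)
      ((h1 s).2 (Or.inr (by rw [hV s (hL hs)]; exact one_mem _))) ns
  have a2 : 2 * Nat.card H1 ≤ Nat.card L := by
    refine two_le (fun x hx => ?_) ht fun e => ((h1 t).1 e).elim nt nst
    rcases (h1 x).1 hx with e | e
    · exact hl e
    · simpa using mul_mem (inv_mem hs) (hl e)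
  omega

theorem inf_ne_bot {A U U1 U2 : Subgroup M} (hA : El A) (hU : U ≤ A) (c : Nat.card U = 32)
    (h1 : 8 ≤ Nat.card ↥(U1 ⊓ U)) (h2 : 8 ≤ Nat.card ↥(U2 ⊓ U)) : U1 ⊓ U2 ⊓ U ≠ ⊥ := by
  intro e
  have n : U1 ⊓ U ≤ normalizer ((U2 ⊓ U : Subgroup M) : Set M) := fun x hx =>
    centralizer_le_normalizer _ fun y hy => hA.cm (hU hy.2) (hU hx.2)
  have k := H3.card_sup_mul_card_inf_of_le_normalizer n
  have e' : U1 ⊓ U ⊓ (U2 ⊓ U) = ⊥ := by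
    rw [eq_bot_iff, ← e]
    exact fun x hx => ⟨⟨hx.1.1, hx.2.1⟩, hx.1.2⟩
  have l : Nat.card ↥(U1 ⊓ U ⊔ U2 ⊓ U) ≤ Nat.card U :=
    card_le_of_le (sup_le inf_le_right inf_le_right)
  rw [e', card_bot, mul_one] at k
  nlinarith

variable {R V A : Subgroup M} {w w' : M}

theorem le_cp (hAk : AkStmt) (h : Hs R V A w w') : V ⊓ Qz w ≤ CP A := fun y hy => by
  have e := (hAk A h.ark w h.a1 h.m1.zz w' (mem_sup_right h.a2) h.np).2.2
  have : y ∈ Jh w w' := ⟨hy.2, centralizer_le_normalizer _ fun x hx => by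
    rcases hx with rfl | rfl
    · exact h.vs.el.cm h.m2.mem hy.1
    · exact h.vs.el.cm (mul_mem h.m2.mem h.m1.mem) hy.1⟩
  rw [e] at this
  exact this.2

theorem le_nn (hAk : AkStmt) (h : Hs R V A w w') : R ≤ NN A := fun r hr => by
  have e := (hAk A h.ark w h.a1 h.m1.zz w' (mem_sup_right h.a2) h.np).2.1
  have := n_Ak (y := w') h.m1.zz (h.vs.cm hr h.m1.mem) (h.vs.cm hr h.m2.mem)
  rwa [e] at this

theorem half (hPf : PfStmt) (h : Hs R V A w w') :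
    Nat.card ↥(V ⊓ A) = 2 * Nat.card ↥(V ⊓ Qz w ⊓ A) := by
  have e : V ⊓ Qz w ⊓ A = V ⊓ A ⊓ Qz w := inf_right_comm _ _ _
  rw [e]
  refine le_antisymm (idx_le fun x hx y hy => (hPf A h.ark).ix w h.a1 h.m1.zz x
    (mem_sup_right hx.2) y (mem_sup_right hy.2)) ?_
  exact two_le inf_le_left (t := w') ⟨h.m2.mem, h.a2⟩ fun e => h.np e.2

theorem sp (hAk : AkStmt) (h : Hs R V A w w') {p : M} (hp : p ∈ V ⊓ Qz w) (np : p ∉ A) :
    Sp A w p := ⟨mem_sup_left hp.2, le_cp hAk h hp, h.vs.el p hp.1, np⟩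

end H1

open _root_.Cfsg.Agent.H48.M2.H1 in
theorem h1_of (hAk : AkStmt) (hPf : PfStmt) (h1 : Tr1Stmt) (h4 : Tr4Stmt) (h5 : Tr5Stmt) :
    H1Stmt := by
  intro R V A w w' h p1 hp1
  by_contra n1
  have pf := hPf A h.ark
  have el := h.vs.el
  have c0 : Nat.card ↥(V ⊓ Qz w ⊓ A) = Nat.card ↥(V ⊓ Qz w' ⊓ A) := by
    have a := half hPf h
    have b := half hPf h.symm
    omega
  have c1 := h.m1.card_eq h.m2
  have tr : ∀ x ∈ V ⊓ Qz w', x ∈ Qz w ⊔ A → x ∈ A := fun x hx e =>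
    pf.tr w h.a1 h.m1.zz w' h.a2 h.m2.zz h.np ⟨⟨hx.2, le_cp hAk h.symm hx⟩, e⟩
  have pos : 0 < Nat.card ↥(V ⊓ Qz w) := Nat.card_pos
  obtain ⟨p', hp', n'⟩ : ∃ p' ∈ V ⊓ Qz w', p' ∉ A := by
    by_contra! hc
    have a := two_le (inf_le_left : V ⊓ Qz w ⊓ A ≤ V ⊓ Qz w) hp1 fun e => n1 e.2
    rw [inf_eq_left.2 (show V ⊓ Qz w' ≤ A from hc)] at c0
    omega
  obtain ⟨p2, hp2, n2, gen⟩ : ∃ p2 ∈ V ⊓ Qz w, p2 ∉ A ∧
      ∀ B : Subgroup M, A ≤ B → p1 ∈ B → p2 ∈ B → V ⊓ Qz w ≤ B := by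
    by_cases hc : ∃ p2 ∈ V ⊓ Qz w, p2 ∉ A ∧ p1 * p2 ∉ A
    · obtain ⟨p2, hp2, n2, n12⟩ := hc
      refine ⟨p2, hp2, n2, fun B hB b1 b2 => ?_⟩
      have a := h4 A (V ⊓ Qz w') w p1 p2 h.ark h.a1 h.m1.zz (sp hAk h hp1 n1) (sp hAk h hp2 n2)
        (el.cm hp1.1 hp2.1) n12 (le_cp hAk h.symm)
        fun k hk => ⟨el.cm hk.1 hp1.1, el.cm hk.1 hp2.1⟩
      have b : Nat.card ↥(V ⊓ Qz w' ⊓ (Qz w ⊔ A)) ≤ Nat.card ↥(V ⊓ Qz w' ⊓ A) :=
        card_le_of_le fun x hx => ⟨hx.1, tr x hx.1 hx.2⟩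
      have c := four_le el (inf_le_inf_left (V ⊓ Qz w) hB) (inf_le_left.trans inf_le_left)
        (s := p1) (t := p2) ⟨hp1, b1⟩ ⟨hp2, b2⟩ (fun e => n1 e.2) (fun e => n2 e.2)
        (fun e => n12 e.2)
      exact inf_eq_left.1 (eq_of_le_of_card_ge inf_le_left (by omega))
    · push Not at hc
      refine ⟨p1, hp1, n1, fun B hB b1 _ y hy => ?_⟩
      by_cases e : y ∈ A
      · exact hB e
      · simpa using mul_mem (inv_mem b1) (hB (hc y hy e))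
  have s1 := sp hAk h hp1 n1
  have s2 := sp hAk h hp2 n2
  have s' := sp hAk h.symm hp' n'
  obtain ⟨-, -, -, t1, -⟩ := h1 A w p1 h.ark h.a1 h.m1.zz s1
  obtain ⟨-, -, -, t2, -⟩ := h1 A w p2 h.ark h.a1 h.m1.zz s2
  obtain ⟨k1, k2, k3, t', -⟩ := h1 A w' p' h.ark h.a2 h.m2.zz s'
  have nb : Us A p1 ⊓ Us A p2 ⊓ Us A p' ≠ ⊥ := inf_ne_bot pf.el k2 k1
    (h5 A w w' p1 p' h.ark h.a1 h.m1.zz h.a2 h.m2.zz h.np s1 s' (el.cm hp1.1 hp'.1))
    (h5 A w w' p2 p' h.ark h.a1 h.m1.zz h.a2 h.m2.zz h.np s2 s' (el.cm hp2.1 hp'.1))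
  obtain ⟨u, hu, uV, u1⟩ := h.vs.fp (Us A p1 ⊓ Us A p2 ⊓ Us A p') (fun x hx => pf.el x (k2 hx.2)) nb fun r hr =>
    n_inf (n_inf (n_Us (le_nn hAk h hr) (h.vs.cm hr hp1.1))
      (n_Us (le_nn hAk h hr) (h.vs.cm hr hp2.1))) (n_Us (le_nn hAk h hr) (h.vs.cm hr hp'.1))
  have uz : u ∈ ZZ := (k3 u hu.2 u1).1
  have yl : V ⊓ Qz w ≤ V ⊓ (Qz u ⊔ A) :=
    le_inf inf_le_left (gen _ le_sup_right (t1 u hu.1.1 u1) (t2 u hu.1.2 u1))
  have a := four_le el yl inf_le_left (s := w') (t := p') ⟨h.m2.mem, mem_sup_right h.a2⟩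
    ⟨hp'.1, t' u hu.2 u1⟩ (fun e => h.np e.2) (fun e => n' (tr p' hp' (mem_sup_left e.2)))
    (fun e => n' (tr p' hp' (by
      simpa using mul_mem (inv_mem (mem_sup_right h.a2 : w' ∈ Qz w ⊔ A))
        (mem_sup_left e.2 : w' * p' ∈ Qz w ⊔ A))))
  have b : Nat.card ↥(V ⊓ (Qz u ⊔ A)) ≤ 2 * Nat.card ↥(V ⊓ (Qz u ⊔ A) ⊓ Qz u) :=
    idx_le fun x hx y hy => pf.ix u (k2 hu.2) uz x hx.2 y hy.2
  have c : Nat.card ↥(V ⊓ (Qz u ⊔ A) ⊓ Qz u) ≤ Nat.card ↥(V ⊓ Qz u) :=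
    card_le_of_le fun x hx => ⟨hx.1.1, hx.2⟩
  have d := h.m1.max u uV uz
  omega

end Cfsg.Agent.H48.M2
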