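import Cfsg.Agent.H45.Split2

/-! Splitting of a Sylow 2-subgroup which is a direct product, with a weaker hypothesis. -/

set_option autoImplicit false

namespace Cfsg.Agent.H41.Spl

open Subgroup H8 H7 H87 H45.Spl
open scoped Pointwise commutatorElement

variable {G : Type*} [Group G]

local notation "C[" B "]" => centralizer ((B : Subgroup G) : Set G)
local notation "N[" B "]" => normalizer ((B : Subgroup G) : Set G)

/-- the conditions on the factor `S₁` -/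
structure Sd (S₁ S₂ B : Subgroup G) : Prop where
  ind : Indec S₁
  zc : S₁ ⊓ C[S₁] ≤ ⁅S₁, S₁⁆
  le : B ≤ S₁
  nrm : S₁ ≤ N[B]
  cen : S₁ ⊓ C[B] ≤ B
  der : B ≤ ⁅C[S₂] ⊓ C[S₁ ⊓ C[S₁]], C[S₂] ⊓ C[S₁ ⊓ C[S₁]]⁆
  foc : ∃ Y ≤ C[S₂], S₁ ≤ ⁅Y, Y⁆

theorem Sd.foc' {S₁ S₂ B A : Subgroup G} (h : Sd S₁ S₂ B) (hA : A ≤ S₂) :
    S₁ ≤ ⁅C[A], C[A]⁆ := by
  obtain ⟨Y, y1, y2⟩ := h.foc
  have := y1.trans (H83.cent_anti hA)
  exact y2.trans (commutator_mono this this)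

theorem cj_comm {D E : Subgroup G} {a x : G} (h : ∀ d ∈ D, a * d * a⁻¹ ∈ E) (hx : x ∈ ⁅D, D⁆) :
    a * x * a⁻¹ ∈ ⁅E, E⁆ := by
  have : ⁅D, D⁆ ≤ (⁅E, E⁆ : Subgroup G).comap (MulAut.conj a).toMonoidHom :=
    commutator_le.2 fun u hu v hv => by
      rw [mem_comap, map_commutatorElement]
      exact commutator_mem_commutator (h u hu) (h v hv)
  exact this hx

variable [Finite G]

local instance factTwoSq : Fact (Nat.Prime 2) := ⟨Nat.prime_two⟩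

theorem k1 {S S₁ S₂ B₁ B₂ : Subgroup G} (hS : IsSylowIn 2 S ⊤)
    (hp : IsInternalDirectProduct S₁ S₂ S) (s₁ : Sd S₁ S₂ B₁) (s₂ : Sd S₂ S₁ B₂) :
    ⁅C[B₁], C[B₁]⁆ ⊓ S = S₂ := by
  have l : S₂ ≤ C[B₁] := (idp_cent (idp_symm hp)).trans (H83.cent_anti s₁.le)
  have n : S ≤ N[B₁] := hp.2.2.2.2 ▸ sup_le s₁.nrm (l.trans (centralizer_le_normalizer _))
  have t := (hS.mono n le_top).inf_of_le_normalizer (H83.le_norm_cent le_rfl)
  rw [inf_eq_right.2 (centralizer_le_normalizer _)] at t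
  have := kl (A := S₁ ⊓ C[B₁]) t
    (le_inf (inf_le_inf_right _ hp.1) fun a ha c hc => (hc a (s₁.cen ha)).symm)
    (le_inf hp.2.1 l) (fun x hx => by
      obtain ⟨d, hd, e, he, rfl⟩ := cent_dec (idp_symm hp) l hx.1 hx.2
      exact mul_mem (mem_sup_left hd) (mem_sup_right he)) (s₂.foc' s₁.le)
  rwa [← inf_assoc, inf_right_comm, inf_eq_left.2 (comm_self_le _)] at this

/-- `P = S₁ × P₂` is fully normalised, radical, and its normaliser does not exchange factors -/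
structure Ctx (S S₁ S₂ B₁ B₂ P P₂ : Subgroup G) : Prop where
  hS : IsSylowIn 2 S ⊤
  hp : IsInternalDirectProduct S₁ S₂ S
  s₁ : Sd S₁ S₂ B₁
  s₂ : Sd S₂ S₁ B₂
  le : P₂ ≤ S₂
  q : IsInternalDirectProduct S₁ P₂ P
  syl : IsSylowIn 2 (S ⊓ N[P]) N[P]
  rad : ∀ K ≤ N[P], N[P] ≤ N[K] → (∀ x ∈ K, (orderOf x).Coprime 2 → x ∈ C[P]) → S ⊓ K ≤ P
  ns : ∀ a ∈ N[P], S₁ ⊓ MulAut.conj a • P₂ = ⊥

namespace Ctx

variable {S S₁ S₂ B₁ B₂ P P₂ : Subgroup G} (h : Ctx S S₁ S₂ B₁ B₂ P P₂)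
include h

omit [Finite G] in
theorem PS : P ≤ S := h.q.2.2.2.2 ▸ sup_le h.hp.1 (h.le.trans h.hp.2.1)

omit [Finite G] in
theorem cj₂ {a p : G} (ha : a ∈ N[P]) (hp : p ∈ P₂) : a * p * a⁻¹ ∈ C[S₁] := fun s hs => by
  have m : a * p * a⁻¹ ∈ MulAut.conj a • P₂ := conj_mem_conj_smul.2 hp
  have q' := idp_symm (idp_smul h.q ha)
  generalize a * p * a⁻¹ = y at m
  rw [← commutatorElement_eq_one_iff_mul_comm, ← mem_bot, ← h.ns a ha]
  refine ⟨?_, Subgroup.mul_mem _ (H83.conj_mem (idp_norm q') (h.q.1 hs) m) (inv_mem m)⟩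
  rw [commutatorElement_def, mul_assoc, mul_assoc, ← mul_assoc y]
  exact mul_mem hs (H83.conj_mem (idp_norm h.q) (q'.1 m) (inv_mem hs))

omit [Finite G] in
theorem cj₁ {a s : G} (ha : a ∈ N[P]) (hs : s ∈ S₁) : a * s * a⁻¹ ∈ C[P₂] := fun p hp => by
  have := h.cj₂ (inv_mem ha) hp s hs
  calc p * (a * s * a⁻¹) = a * (a⁻¹ * p * a⁻¹⁻¹ * s) * a⁻¹ := by group
    _ = _ := by rw [← this]; group

omit [Finite G] h in
theorem cjZ {a z : G} (ha : a ∈ N[P]) (hz : z ∈ C[P]) : a * z * a⁻¹ ∈ C[P] :=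
  H83.conj_mem (H83.le_norm_cent le_rfl) ha hz

theorem nL : N[P] ≤ N[P ⊓ C[P₂]] := fun a ha => mem_normalizer_fintype fun x hx => by
  refine ⟨conj_mem_of_norm ha hx.1, ?_⟩
  obtain ⟨s, hs, z, hz, rfl⟩ := cent_dec h.q (idp_cent h.q) hx.1 hx.2
  rw [← conj_mul]
  exact mul_mem (h.cj₁ ha hs) (H83.cent_anti h.q.2.1
    (cjZ ha (idp_cent_all h.q ⟨idp_cent (idp_symm h.q) hz.1, hz.2⟩)))

theorem nR : N[P] ≤ N[P ⊓ C[S₁]] := fun a ha => mem_normalizer_fintype fun x hx => by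
  refine ⟨conj_mem_of_norm ha hx.1, ?_⟩
  obtain ⟨s, hs, z, hz, rfl⟩ := cent_dec (idp_symm h.q) (idp_cent (idp_symm h.q)) hx.1 hx.2
  rw [← conj_mul]
  exact mul_mem (h.cj₂ ha hs) (H83.cent_anti h.q.1
    (cjZ ha (idp_cent_all h.q ⟨hz.2, idp_cent h.q hz.1⟩)))

omit [Finite G] in
theorem decL {x : G} (hx : x ∈ P ⊓ C[P₂]) : ∃ s ∈ S₁, ∃ z ∈ P₂ ⊓ C[P], x = s * z := by
  obtain ⟨s, hs, z, hz, rfl⟩ := cent_dec h.q (idp_cent h.q) hx.1 hx.2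
  exact ⟨s, hs, z, ⟨hz.1, idp_cent_all h.q ⟨idp_cent (idp_symm h.q) hz.1, hz.2⟩⟩, rfl⟩

theorem nZ : N[P] ≤ N[S₁ ⊓ C[S₁]] := fun a ha => mem_normalizer_fintype fun x hx => by
  have l : S₁ ≤ P ⊓ C[P₂] := le_inf h.q.1 (idp_cent h.q)
  refine ⟨(comm_le (A := P₂ ⊓ C[P]) (inf_le_right.trans (H83.cent_anti inf_le_left)) l
    fun y hy => ?_).trans (comm_self_le _) (H83.conj_mem (H83.le_norm_comm h.nL h.nL) ha
      (commutator_mono l l (h.s₁.zc hx))),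
    H83.cent_anti h.q.1 (cjZ ha (idp_cent_all h.q ⟨hx.2, idp_cent h.q hx.1⟩))⟩
  obtain ⟨s, hs, z, hz, rfl⟩ := h.decL hy
  exact mul_mem (mem_sup_left hs) (mem_sup_right hz)

theorem sylL : IsSylowIn 2 (P ⊓ C[P₂]) C[P₂] := by
  refine isSylowIn_of_maximal inf_le_right (h.hS.isPGroup.to_le (inf_le_left.trans h.PS))
    fun U u1 u2 u3 => by_contra fun n => ?_
  obtain ⟨x, x1, x2, x3⟩ := exists_mem_normalizer_not_mem u1 u3 n
  have e : P ⊓ C[P₂] ⊔ P₂ = P := le_antisymm (sup_le inf_le_left h.q.2.1)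
    (h.q.2.2.2.2.ge.trans (sup_le_sup_right (le_inf h.q.1 (idp_cent h.q)) _))
  have x4 : x ∈ N[P] := e ▸ H83.le_norm_sup (zpowers_le.2 x3)
    (zpowers_le.2 (centralizer_le_normalizer _ (u2 x1))) (mem_zpowers x)
  obtain ⟨a, ha, k⟩ := h.syl.exists_conj_le (u1.to_le (zpowers_le.2 x1)) (zpowers_le.2 x4)
  have y1 : a * x * a⁻¹ ∈ S := (k (conj_mem_conj_smul.2 (mem_zpowers x))).1
  have y2 : a * x * a⁻¹ ∈ C[P₂] := fun p hp => by
    have m := H83.conj_mem' h.nR ha ⟨h.q.2.1 hp, idp_cent (idp_symm h.q) hp⟩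
    obtain ⟨r, hr, z, hz, j⟩ := cent_dec (idp_symm h.q) (idp_cent (idp_symm h.q)) m.1 m.2
    obtain ⟨d, hd, f, hf, i⟩ := idp_dec h.hp y1
    have z1 := H83.conj_mem h.nZ ha hz
    have c1 : Commute (a * z * a⁻¹) (a * x * a⁻¹) := by
      rw [i]
      exact Commute.mul_right (z1.2 d hd).symm (idp_comm h.hp z1.1 hf)
    have c2 : Commute (a * r * a⁻¹) (a * x * a⁻¹) := by
      change _ = _
      rw [conj_mul, conj_mul, u2 x1 r hr]
    have := c2.mul_left c1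
    rwa [conj_mul, ← j, show a * (a⁻¹ * p * a) * a⁻¹ = p by group] at this
  obtain ⟨d, hd, f, hf, i⟩ := cent_dec h.hp ((idp_cent h.hp).trans (H83.cent_anti h.le)) y1 y2
  have y3 : a * x * a⁻¹ ∈ P := i ▸ mul_mem (h.q.1 hd) (h.rad _ (centralizer_le_normalizer _)
    (H83.le_norm_cent le_rfl) (fun _ hx _ => hx)
    ⟨h.hp.2.1 hf.1, idp_cent_all h.q ⟨idp_cent (idp_symm h.hp) hf.1, hf.2⟩⟩)
  exact x2 ((mem_normalizer_iff.1 (h.nL ha) x).2 ⟨y3, y2⟩)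

theorem k2 : ⁅C[P₂], C[P₂]⁆ ⊓ P = S₁ := by
  have := kl (A := P₂ ⊓ C[P]) h.sylL (le_inf (inf_le_inf h.q.2.1 (H83.cent_anti h.q.2.1))
    fun a ha c hc => (hc a ha.1).symm) (le_inf h.q.1 (idp_cent h.q)) (fun y hy => by
      obtain ⟨s, hs, z, hz, rfl⟩ := h.decL hy
      exact mul_mem (mem_sup_left hs) (mem_sup_right hz)) (h.s₁.foc' h.le)
  rwa [← inf_assoc, inf_right_comm, inf_eq_left.2 (comm_self_le _)] at this

theorem k1' : ⁅C[B₁], C[B₁]⁆ ⊓ P = P₂ := by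
  rw [← inf_eq_right.2 h.PS, ← inf_assoc, k1 h.hS h.hp h.s₁ h.s₂]
  refine le_antisymm (fun x hx => ?_) (le_inf h.le h.q.2.1)
  obtain ⟨d, hd, e, he, rfl⟩ := idp_dec h.q hx.2
  rwa [idp_one h.hp hd ((S₂.mul_mem_cancel_right (h.le he)).1 hx.1), one_mul]

theorem BS {a b : G} (ha : a ∈ N[P]) (hb : b ∈ B₁) : a * b * a⁻¹ ∈ S₁ := by
  rw [← h.k2]
  refine ⟨cj_comm (fun d hd p hp => ?_) (h.s₁.der hb), conj_mem_of_norm ha (h.q.1 (h.s₁.le hb))⟩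
  have m := H83.conj_mem' h.nR ha ⟨h.q.2.1 hp, idp_cent (idp_symm h.q) hp⟩
  obtain ⟨r, hr, z, hz, j⟩ := cent_dec (idp_symm h.q) (idp_cent (idp_symm h.q)) m.1 m.2
  have c : Commute (a⁻¹ * p * a) d := by
    rw [j]
    exact Commute.mul_left (hd.1 r (h.le hr)) (hd.2 z hz)
  calc p * (a * d * a⁻¹) = a * (a⁻¹ * p * a * d) * a⁻¹ := by group
    _ = _ := by rw [c.eq]; group

theorem main {a w : G} (ha : a ∈ N[P]) (hw : w ∈ N[P]) (hw' : w ∈ C[S₁]) :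
    a * w * a⁻¹ ∈ N[S₁] ∧ a * w * a⁻¹ ∈ N[P₂] := by
  have vN : a * w * a⁻¹ ∈ N[P] := mul_mem (mul_mem ha hw) (inv_mem ha)
  have vB : a * w * a⁻¹ ∈ N[B₁] := centralizer_le_normalizer _ fun b hb => by
    have := hw' _ (h.BS (inv_mem ha) hb)
    calc b * (a * w * a⁻¹) = a * (a⁻¹ * b * a⁻¹⁻¹ * w) * a⁻¹ := by group
      _ = _ := by rw [this]; group
  have v2 := norm_of_eq h.k1' vB vN
  exact ⟨norm_of_eq h.k2 v2 vN, v2⟩

end Ctx

theorem no_swap {S S₁ S₂ B₁ B₂ : Subgroup G} (hS : IsSylowIn 2 S ⊤) (hp : IsInternalDirectProduct S₁ S₂ S)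
    (s₁ : Sd S₁ S₂ B₁) (s₂ : Sd S₂ S₁ B₂) {a : G} (ha : a ∈ N[S]) :
    S₁ ⊓ MulAut.conj a • S₂ = ⊥ := by
  have sm : ∀ (b : G) (U : Subgroup G), ⁅MulAut.conj b • U, MulAut.conj b • U⁆ =
      MulAut.conj b • ⁅U, U⁆ := fun b U => (commutator_conj_smul U U b).symm
  have nm : ∀ (b : G) (U : Subgroup G), U ≤ MulAut.conj b • U → b ∈ N[U] := fun b U k =>
    mem_normalizer_iff_conj_smul_eq.2 (eq_of_le_of_card_ge k (card_conj_smul U b).le).symm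
  have dj : ⁅S₁, S₁⁆ ≤ ⁅S₂, S₂⁆ → S₁ = ⊥ := fun k => by_contra fun n => by
    obtain ⟨z, z1, z2, -⟩ := exists_invol (hS.isPGroup.to_le hp.1) n
    exact z2 (idp_one hp z1.1 (comm_self_le _ (k (s₁.zc z1))))
  by_cases n : S₁ = ⊥
  · rw [n, bot_inf_eq]
  have sq : ∀ b ∈ N[S], b * b ∈ N[⁅S₁, S₁⁆] := fun b hb => by
    have q := idp_smul hp hb
    rcases krs hp q s₁.ind with k | k
    · have k1 := comm_le_smul (idp_norm hp) hp.1 (idp_symm q) k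
      rw [sm] at k1
      rcases krs (idp_symm hp) q s₂.ind with j | j
      · have j1 := comm_le_smul (idp_norm (idp_symm hp)) hp.2.1 (idp_symm q) j
        rw [sm] at j1
        rw [mem_normalizer_iff_conj_smul_eq.1 (nm _ _ j1)] at k1
        exact absurd (dj k1) n
      · have j1 := comm_le_smul (idp_norm (idp_symm hp)) hp.2.1 q j
        rw [sm] at j1
        refine nm _ _ (k1.trans ?_)
        rw [← conj_smul_conj_smul]
        exact pointwise_smul_le_pointwise_smul_iff.2 j1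
    · have k1 := comm_le_smul (idp_norm hp) hp.1 q k
      rw [sm] at k1
      exact mul_mem (nm _ _ k1) (nm _ _ k1)
  have aN : a ∈ N[⁅S₁, S₁⁆] := by
    obtain ⟨s, hs, k, hk, rfl⟩ := (hS.mono le_normalizer le_top).exists_mul_of_forall_coprime_mem
      (K := N[⁅S₁, S₁⁆]) (fun g hg o => H83.mem_of_pow_mem_of_coprime (n := 2)
        (by rw [pow_two]; exact sq g hg) o) ha
    exact mul_mem (H83.le_norm_comm (idp_norm hp) (idp_norm hp) hs) hk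
  refine (krs hp (idp_smul hp ha) s₁.ind).resolve_left fun k => n (dj ?_)
  have k1 := comm_le_smul (idp_norm hp) hp.1 (idp_symm (idp_smul hp ha)) k
  rw [sm, ← mem_normalizer_iff_conj_smul_eq.1 aN] at k1
  exact pointwise_smul_le_pointwise_smul_iff.1 k1

theorem norm_le {S S₁ S₂ B₁ B₂ : Subgroup G} (hS : IsSylowIn 2 S ⊤)
    (hp : IsInternalDirectProduct S₁ S₂ S) (s₁ : Sd S₁ S₂ B₁) (s₂ : Sd S₂ S₁ B₂) :
    N[S] ≤ N[S₂] := fun a ha => by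
  have c : Ctx S S₁ S₂ B₁ B₂ S S₂ := ⟨hS, hp, s₁, s₂, le_rfl, hp,
    by rw [inf_eq_left.2 le_normalizer]; exact hS.mono le_normalizer le_top,
    fun _ _ _ _ => inf_le_left, fun a ha => no_swap hS hp s₁ s₂ ha⟩
  obtain ⟨Y, y1, y2⟩ := s₂.foc
  refine mem_normalizer_fintype fun s hs => ?_
  refine (k1 hS hp s₁ s₂).le ⟨cj_comm (fun y hy b hb => ?_) (y2 hs), conj_mem_of_norm ha (hp.2.1 hs)⟩
  have := y1 hy _ (c.BS (inv_mem ha) hb)
  calc b * (a * y * a⁻¹) = a * (a⁻¹ * b * a⁻¹⁻¹ * y) * a⁻¹ := by group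
    _ = _ := by rw [this]; group

theorem ess_step {S S₁ S₂ B₁ B₂ P : Subgroup G} (hS : IsSylowIn 2 S ⊤)
    (hp : IsInternalDirectProduct S₁ S₂ S) (hc : Nat.card S₁ = Nat.card S₂) (s₁ : Sd S₁ S₂ B₁)
    (s₂ : Sd S₂ S₁ B₂) (h : Ess 2 S P) (l : S₁ ≤ P) : ∃ x ∈ S, x ∈ N[P] ∧ x ∉ P ∧
      ∀ g ∈ N[P], g * x * g⁻¹ ∈ N[S₁ ⊓ P] ∧ g * x * g⁻¹ ∈ N[S₂ ⊓ P] := by
  have q := ess_idp hS.isPGroup hp h
  rw [inf_eq_right.2 l] at q
  have n : ¬ S₂ ≤ P := fun k => h.ne (le_antisymm h.le (hp.2.2.2.2 ▸ sup_le l k))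
  have c : Ctx S S₁ S₂ B₁ B₂ P (P ⊓ S₂) := ⟨hS, hp, s₁, s₂, inf_le_right, q, h.syl,
    fun K k1 k2 k3 => h.inf_le_of_coprime hS.isPGroup k1 k2 k3, fun a ha => by
      refine (krs q (idp_smul q ha) s₁.ind).resolve_left fun k => n ?_
      have i := idp_card (idp_smul q ha)
      have j := relIndex_le_of_le_right l (i ▸ Nat.card_pos.ne' :
        (MulAut.conj a • S₁).relIndex P ≠ 0)
      rw [i, card_conj_smul, ← inf_relIndex_left, k, relIndex_bot_left, hc] at j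
      exact (eq_of_le_of_card_ge inf_le_right j).ge.trans inf_le_left⟩
  obtain ⟨x, x1, x2, -, x4⟩ := exists_step (hS.isPGroup.to_le hp.2.1) n
  have xC := idp_cent (idp_symm hp) x1
  have xN := norm_of_side q (centralizer_le_normalizer _ xC) x4
  refine ⟨x, hp.2.1 x1, xN, x2, fun g hg => ?_⟩
  rw [inf_eq_left.2 l, inf_comm]
  exact c.main hg xN xC

/-- both factors are strongly closed -/
theorem split_top (S : Sylow 2 G) {S₁ S₂ B₁ B₂ : Subgroup G} (hp : IsInternalDirectProduct S₁ S₂ S)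
    (hc : Nat.card S₁ = Nat.card S₂) (s₁ : Sd S₁ S₂ B₁) (s₂ : Sd S₂ S₁ B₂) :
    IsStronglyClosed S₁ S := by
  have hS := isSylowIn_top S
  refine sc_of_ess S hp.1 (norm_le hS (idp_symm hp) s₂ s₁) fun P h => ?_
  rcases ess_side S.2 hp h with l | l
  · obtain ⟨x, a, b, c, d⟩ := ess_step hS hp hc s₁ s₂ h l
    exact ⟨x, a, b, c, fun g hg => (d g hg).1⟩
  · obtain ⟨x, a, b, c, d⟩ := ess_step hS (idp_symm hp) hc.symm s₂ s₁ h l
    exact ⟨x, a, b, c, fun g hg => (d g hg).2⟩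

end Cfsg.Agent.H41.Spl
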