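import Mathlib
import Cfsg.Agent.H41.S6Kit

/-!
# Kit for `S6Defs`, part 2: `P3` induces `GL₃(2)`, centralizers, and lemmas in `G`
-/

set_option autoImplicit false
set_option maxRecDepth 100000
set_option synthInstance.maxSize 4096
set_option synthInstance.maxHeartbeats 200000
set_option linter.unusedSectionVars false

namespace Cfsg.Agent.H41.S6

open Cfsg Subgroup
open Cfsg.Agent.H44 Cfsg.Agent.H55.Sp6 Cfsg.Agent.H2.L3E

universe u

instance (u v w : ℕ) : Decidable (Ind u v w) := by unfold Ind; infer_instance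

def glT : List ℕ :=
  [0, 0, 0, 0, 0, 0, 0, 0, 0, 0, 0, 0, 0, 0, 0, 0, 0, 0, 0, 0, 0, 0, 0, 0, 0, 0, 0, 0, 0, 0, 0, 0, 
  0, 0, 0, 0, 0, 0, 0, 0, 0, 0, 0, 0, 0, 0, 0, 0, 0, 0, 0, 0, 0, 0, 0, 0, 0, 0, 0, 0, 0, 0, 0, 0, 
  0, 0, 0, 0, 0, 0, 0, 0, 0, 0, 0, 0, 0, 0, 0, 0, 0, 0, 0, 0, 292, 41, 2047, 290, 0, 0, 0, 0, 2045, 
  288, 2031, 2019, 0, 0, 61118, 8731, 0, 0, 14281, 2040, 0, 0, 8639, 1234, 0, 0, 7855, 1122, 0, 0, 
  16298, 1892, 2048, 291, 0, 0, 0, 0, 944, 8647, 2042, 258, 0, 0, 0, 0, 0, 0, 0, 0, 0, 0, 0, 0, 0, 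
  0, 100220, 11509, 14127, 508, 0, 0, 0, 0, 0, 0, 0, 0, 0, 0, 0, 0, 14323, 1905, 2024, 14197, 0, 
  178, 0, 1248, 0, 1158, 0, 1354, 0, 521, 0, 520, 9494, 0, 12657, 0, 0, 25, 0, 177, 0, 193, 0, 165, 
  0, 74, 0, 2132, 1356, 0, 1842, 0, 0, 0, 0, 0, 0, 0, 0, 0, 0, 0, 0, 0, 14317, 1644, 3557, 2018, 0, 
  0, 0, 0, 2046, 272, 2028, 289, 0, 0, 0, 0, 0, 0, 0, 0, 0, 1247, 8737, 0, 0, 1844, 9479, 0, 0, 
  1235, 3641, 0, 14296, 0, 0, 1808, 0, 270, 2328, 0, 2321, 0, 0, 263, 0, 176, 1240, 0, 0, 160, 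
  1156, 0, 0, 0, 0, 0, 0, 0, 0, 0, 0, 0, 64, 9, 0, 0, 2122, 303, 0, 0, 0, 2, 0, 6, 0, 44, 0, 1, 15, 
  0, 0, 43, 309, 0, 0, 0, 0, 0, 0, 0, 0, 0, 0, 0, 1436, 205, 0, 0, 652, 93, 0, 4, 0, 30, 0, 46, 0, 
  18, 0, 29, 211, 0, 0, 13, 127, 0, 0, 0, 0, 0, 0, 0, 0, 0, 0, 0, 1093, 156, 0, 0, 2214, 1332, 0, 
  5, 0, 19, 47, 0, 313, 0, 0, 36, 134, 0, 330, 0, 0, 2192, 0, 0, 10697, 1528, 0, 0, 656, 4593, 0, 
  0, 0, 0, 0, 0, 0, 0, 0, 39, 1506, 0, 333, 0, 0, 137, 0, 33, 0, 215, 327, 0, 131, 0, 0, 0, 0, 0, 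
  0, 0, 0, 0, 0, 0, 1779, 72, 16185, 2130, 0, 0, 0, 3, 0, 23, 0, 27, 0, 45, 0, 10, 260, 0, 2318, 0, 
  0, 304, 0, 31, 0, 219, 0, 129, 0, 325, 0, 206, 1632, 0, 892, 0, 0, 94, 0, 0, 0, 0, 0, 0, 0, 0, 0, 
  0, 1926, 1444, 16332, 76, 0, 0, 0, 0, 0, 0, 0, 0, 0, 0, 0, 0, 505, 254, 2312, 14911, 0, 0, 0, 38, 
  0, 37, 331, 0, 332, 0, 0, 22, 162, 0, 0, 190, 316, 0, 0, 218, 1534, 0, 0, 904, 2276, 0, 0, 234, 
  0, 233, 2291, 0, 659, 0, 0, 0, 10109, 275, 2333, 533, 0, 0, 0, 0, 0, 0, 0, 0, 0, 0]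

def glG (i : ℕ) : List ℕ :=
  [[], [1, 16, 17], [2, 8, 10], [2, 32, 34], [4, 16, 20], [1, 32, 33], [4, 8, 12]].getD i []

def glW (u v w : ℕ) : List ℕ :=
  (fun n => glG (n % 7) ++ (glG (n / 7 % 7) ++ (glG (n / 49 % 7) ++ (glG (n / 343 % 7) ++
    (glG (n / 2401 % 7) ++ glG (n / 16807 % 7)))))) (glT.getD (u + 8 * v + 64 * w) 0)

theorem gl {u v w : ℕ} (h : Ind u v w) : ∃ p ∈ P3, act p 1 = u ∧ act p 2 = v ∧ act p 4 = w := by
  have key : ∀ u < 8, ∀ v < 8, ∀ w < 8, Ind u v w → (∀ a ∈ glW u v w, a < 64) ∧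
      wd (glW u v w) 1 = u ∧ wd (glW u v w) 2 = v ∧ wd (glW u v w) 4 = w := by decide +kernel
  obtain ⟨hl, h1, h2, h4⟩ := key u h.1 v h.2.1 w h.2.2.1 h
  have e1 := (act_wd hl (by omega : 1 < 64)).trans h1
  have e2 := (act_wd hl (by omega : 2 < 64)).trans h2
  have e4 := (act_wd hl (by omega : 4 < 64)).trans h4
  exact ⟨_, mem_P3.mpr (by rw [e1, e2, e4]; exact ⟨h.1, h.2.1, h.2.2.1⟩), e1, e2, e4⟩

/-- what can be done on the codes can be done in `P3` -/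
theorem gl_ac {u v w : ℕ} (h : Ind u v w) : ∃ p ∈ P3, (∀ x < 8, act p x = ap u v w 0 0 0 x) ∧
    ∀ c < 64, cjc (ap u v w 0 0 0) c < 64 ∧ p * ac c * p⁻¹ = ac (cjc (ap u v w 0 0 0) c) := by
  obtain ⟨p, hp, rfl, rfl, rfl⟩ := gl h
  exact ⟨p, hp, fun x hx => ap_lt8 p hx, fun c hc => conj_ac_ap hp hc⟩

theorem orb {c : ℕ} (hc : c < 64) : ∃ p ∈ P3, p * ac c * p⁻¹ = ac (rep c) := by
  have key : ∀ c < 64, ∃ u < 8, ∃ v < 8, ∃ w < 8, Ind u v w ∧
      cjc (ap u v w 0 0 0) c = rep c := by decide +kernel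
  obtain ⟨u, -, v, -, w, -, h, e⟩ := key c hc
  obtain ⟨p, hp, -, h2⟩ := gl_ac h
  exact ⟨p, hp, by rw [(h2 c hc).2, e]⟩

theorem rep_mem : ∀ c < 64, rep c ∈ [0, 1, 8, 3, 7] := by decide +kernel

/-- `P3` induces `GL(Λ)` -/
theorem glL {x y z : ℕ} (h : Ind x y z) : ∃ p ∈ P3, p * a12 * p⁻¹ = ac (8 * x) ∧
    p * a13 * p⁻¹ = ac (8 * y) ∧ p * a23 * p⁻¹ = ac (8 * z) := by
  have key : ∀ x < 8, ∀ y < 8, ∀ z < 8, Ind x y z → ∃ u < 8, ∃ v < 8, ∃ w < 8, Ind u v w ∧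
      cjc (ap u v w 0 0 0) 8 = 8 * x ∧ cjc (ap u v w 0 0 0) 16 = 8 * y ∧
      cjc (ap u v w 0 0 0) 32 = 8 * z := by decide +kernel
  obtain ⟨u, -, v, -, w, -, h', e1, e2, e3⟩ := key x h.1 y h.2.1 z h.2.2.1 h
  obtain ⟨p, hp, -, h2⟩ := gl_ac h'
  exact ⟨p, hp, by rw [a12_ac, (h2 8 (by omega)).2, e1], by rw [a13_ac, (h2 16 (by omega)).2, e2],
    by rw [a23_ac, (h2 32 (by omega)).2, e3]⟩

theorem comm_act {l s : Sp} (h : l * s = s * l) (x : ℕ) : act s (act l x) = act l (act s x) := by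
  rw [← act_mul, ← h, act_mul]

/-- the centralizer of `Λ` is `A` -/
theorem cen_Lam {l : Sp} (h1 : l * a12 = a12 * l) (h2 : l * a13 = a13 * l)
    (h3 : l * a23 = a23 * l) : l ∈ A := by
  have key : ∀ x < 64, wd [1, 2, 3] x = x → wd [1, 4, 5] x = x → wd [2, 4, 6] x = x → x < 8 := by
    decide +kernel
  have hW : ∀ u < 8, act l u < 8 := fun u hu => by
    have f : ∀ s ∈ Lam, l * s = s * l → act s (act l u) = act l u := fun s hs e => by
      rw [comm_act e, mem_A.mp (Lam_le_A hs) u hu]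
    refine key _ (act_lt l u) ?_ ?_ ?_
    · rw [← act_wd (by decide) (act_lt l u)]; exact f _ a12_Lam h1
    · rw [← act_wd (by decide) (act_lt l u)]; exact f _ a13_Lam h2
    · rw [← act_wd (by decide) (act_lt l u)]; exact f _ a23_Lam h3
  have hp : l ∈ P3 := mem_P3.mpr ⟨hW 1 (by omega), hW 2 (by omega), hW 4 (by omega)⟩
  have key2 : ∀ u < 8, ∀ v < 8, ∀ w < 8, Ind u v w → cjc (ap u v w 0 0 0) 8 = 8 →
      cjc (ap u v w 0 0 0) 16 = 16 → cjc (ap u v w 0 0 0) 32 = 32 → u = 1 ∧ v = 2 ∧ w = 4 := by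
    decide +kernel
  have f : ∀ c < 64, l * ac c = ac c * l →
      cjc (ap (act l 1) (act l 2) (act l 4) 0 0 0) c = c := fun c hc e => by
    obtain ⟨a, b⟩ := conj_ac_ap hp hc
    rw [e, mul_inv_cancel_right] at b
    exact (ac_inj hc a b).symm
  have hi := ind_of_P3 hp
  exact mem_A3.mpr (key2 _ hi.1 _ hi.2.1 _ hi.2.2.1 hi (f 8 (by omega) h1) (f 16 (by omega) h2)
    (f 32 (by omega) h3))

theorem cen_A {l : Sp} (h : ∀ a ∈ A, l * a = a * l) : l ∈ A :=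
  cen_Lam (h _ (Lam_le_A a12_Lam)) (h _ (Lam_le_A a13_Lam)) (h _ (Lam_le_A a23_Lam))

theorem g_mem_A_iff {x : ℕ} (hx : x < 64) : g x ∈ A ↔ x < 8 := by
  refine ⟨fun h => ?_, g_mem_A⟩
  have key : ∀ x < 64, mv x 1 = 1 → mv x 2 = 2 → mv x 4 = 4 → x < 8 := by decide +kernel
  obtain ⟨h1, h2, h4⟩ := mem_A3.mp h
  rw [act_g hx (by omega)] at h1 h2 h4
  exact key x hx h1 h2 h4

theorem g_mem_P3_iff {x : ℕ} (hx : x < 64) : g x ∈ P3 ↔ x < 8 := by
  refine ⟨fun h => ?_, fun h => A_le_P3 (g_mem_A h)⟩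
  have key : ∀ x < 64, mv x 1 < 8 → mv x 2 < 8 → mv x 4 < 8 → x < 8 := by decide +kernel
  obtain ⟨h1, h2, h4⟩ := mem_P3.mp h
  rw [act_g hx (by omega)] at h1 h2 h4
  exact key x hx h1 h2 h4

/-- the normalizer of `A` is `P3` -/
theorem nor_A {l : Sp} (h : ∀ a ∈ A, l * a * l⁻¹ ∈ A) : l ∈ P3 := by
  have f : ∀ u < 8, act l u < 8 := fun u hu => by
    have := h _ (g_mem_A hu)
    rw [conj_g] at this
    exact (g_mem_A_iff (act_lt l u)).mp this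
  exact mem_P3.mpr ⟨f 1 (by omega), f 2 (by omega), f 4 (by omega)⟩

/-- `U = A ⟨r₁₂, r₂₃⟩` -/
theorem T0_par {s : Sp} (hs : s ∈ T0) : ∃ a ∈ A, ∃ d ∈ Subgroup.closure ({r12, r23} : Set Sp),
    s = a * d := by
  have h1 := T0_one hs
  have h2 := (lv_facts _ (act_lt s 2)).2.1 (hs 2 (by omega))
  have h4 := (lv_facts _ (act_lt s 4)).2.2 (hs 4 (by omega))
  have key : ∀ v ∈ [2, 3], ∀ w ∈ [4, 5, 6, 7], ∃ l ∈ ([[], [0], [1], [0, 1], [1, 0], [0, 1, 0],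
      [1, 0, 1], [0, 1, 0, 1]] : List (List ℕ)),
      (fun m => (∀ a ∈ m, a < 64) ∧ wd m 1 = 1 ∧ wd m 2 = v ∧ wd m 4 = w)
        (l.flatMap fun i => if i = 0 then [1, 16, 17] else [2, 32, 34]) := by decide +kernel
  obtain ⟨l, -, hl, e1, e2, e4⟩ := key _ h2 _ h4
  have hd : ∀ l : List ℕ, ev g (l.flatMap fun i => if i = 0 then [1, 16, 17] else [2, 32, 34]) ∈
      Subgroup.closure ({r12, r23} : Set Sp) := by
    intro l
    induction l with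
    | nil => exact one_mem _
    | cons i l ih =>
      rw [List.flatMap_cons, ev_append]
      refine mul_mem (subset_closure ?_) ih
      split_ifs
      · exact Or.inl rfl
      · exact Or.inr rfl
  set d := ev g (l.flatMap fun i => if i = 0 then [1, 16, 17] else [2, 32, 34]) with hdd
  have dP : d ∈ P3 := T0_le_P3 ((closure_le _).mpr (by
    rintro x (rfl | rfl)
    · exact r12_T0
    · exact r23_T0) (hd l))
  have f1 : act d 1 = 1 := (act_wd hl (by omega)).trans e1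
  have f2 : act d 2 = act s 2 := (act_wd hl (by omega)).trans e2
  have f4 : act d 4 = act s 4 := (act_wd hl (by omega)).trans e4
  have ha : d⁻¹ * s ∈ A := by
    rw [mem_A3, act_mul, act_mul, act_mul, h1, ← f2, ← f4, act_inv_act _ (by omega),
      act_inv_act _ (by omega)]
    refine ⟨?_, rfl, rfl⟩
    conv_lhs => rw [← f1]
    exact act_inv_act _ (by omega)
  exact ⟨_, P3_conj_A dP ha, d, hd l, by group⟩

/-! ### the group `V0` -/

theorem sg_mem_V0 {v : ℕ} (hv : v < 64) (hb : bf 1 v = 0) : sg 1 v ∈ V0 := by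
  have := mul_mem g1_mem_V0 (wV_mem hv hb false)
  rwa [wV, if_neg (by simp), ← ev_cons, Nat.xor_comm] at this

theorem sg_lt {u v : ℕ} (hu : u < 64) (hv : v < 64) : ∀ a ∈ [u, v, u ^^^ v], a < 64 := by
  simp [hu, hv, xor_lt hu hv]

/-- every element of `V0` is `σ(v)` or `σ(v) b` -/
theorem V0_par {y : Sp} (hy : y ∈ V0) :
    ∃ v < 64, bf 1 v = 0 ∧ (y = sg 1 v ∨ y = sg 1 v * g 1) := by
  obtain ⟨x, hx, c, hb, rfl⟩ := param_V0 hy
  have key : ∀ x < 64, bf 1 x = 0 → cols (wd (wV x true)) = cols (wd [1, x, 1 ^^^ x]) ∧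
      cols (wd (wV x false)) = cols (wd ([1, x, 1 ^^^ x] ++ [1])) := by decide +kernel
  refine ⟨x, hx, hb, ?_⟩
  cases c
  · right
    rw [sg, g_eq 1, ← ev_append]
    exact (ev_eq_iff (wV_lt hx _) (append_lt (sg_lt (by omega) hx) (by simp))).mpr (key x hx hb).2
  · left
    exact (ev_eq_iff (wV_lt hx _) (sg_lt (by omega) hx)).mpr (key x hx hb).1

theorem sg_mul {u v : ℕ} (hu : u < 64) (hv : v < 64) (bu : bf 1 u = 0) (bv : bf 1 v = 0) :
    sg 1 u * sg 1 v = sg 1 (u ^^^ v) * g 1 ^ bf u v := by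
  have key : ∀ u < 64, bf 1 u = 0 → ∀ v < 64, bf 1 v = 0 →
      cols (wd ([1, u, 1 ^^^ u] ++ [1, v, 1 ^^^ v])) = cols (wd ([1, u ^^^ v, 1 ^^^ (u ^^^ v)] ++
        if bf u v = 0 then [] else [1])) := by decide +kernel
  have e : g 1 ^ bf u v = ev g (if bf u v = 0 then [] else [1]) := by
    rcases (bf_facts u hu v hv).2.1 with h | h <;> simp [h, ev_nil, ev_single]
  rw [e, sg, sg, sg, ← ev_append, ← ev_append]
  refine (ev_eq_iff (append_lt (sg_lt (by omega) hu) (sg_lt (by omega) hv))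
    (append_lt (sg_lt (by omega) (xor_lt hu hv)) ?_)).mpr (key u hu bu v hv bv)
  split_ifs <;> simp

/-- `σ(u) b^i = σ(v) b^j` forces `u ≡ v` and `i = j` -/
theorem sg_inj {u v : ℕ} (hu : u < 64) (hv : v < 64) (bu : bf 1 u = 0) (bv : bf 1 v = 0) :
    (sg 1 u = sg 1 v ↔ u / 2 = v / 2) ∧ sg 1 u ≠ sg 1 v * g 1 := by
  have key : ∀ u < 64, bf 1 u = 0 → ∀ v < 64, bf 1 v = 0 →
      (cols (wd [1, u, 1 ^^^ u]) = cols (wd [1, v, 1 ^^^ v]) ↔ u / 2 = v / 2) ∧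
      cols (wd [1, u, 1 ^^^ u]) ≠ cols (wd ([1, v, 1 ^^^ v] ++ [1])) := by decide +kernel
  obtain ⟨k1, k2⟩ := key u hu bu v hv bv
  refine ⟨(ev_eq_iff (sg_lt (by omega) hu) (sg_lt (by omega) hv)).trans k1, fun e => k2 ?_⟩
  rw [sg, sg, g_eq 1, ← ev_append] at e
  exact (ev_eq_iff (sg_lt (by omega) hu) (append_lt (sg_lt (by omega) hv) (by simp))).mp e

theorem alt_sg {v : ℕ} (hv : v < 64) (hb : bf 1 v = 0) :
    Alt (sg 1 v) ∧ ¬ Alt (sg 1 v * g 1) := by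
  have key : ∀ v < 64, bf 1 v = 0 → altB (wd [1, v, 1 ^^^ v]) = true ∧
      ¬ altB (wd ([1, v, 1 ^^^ v] ++ [1])) = true := by decide +kernel
  rw [sg, g_eq 1, ← ev_append, alt_ev (sg_lt (by omega) hv),
    alt_ev (append_lt (sg_lt (by omega) hv) (by simp))]
  exact key v hv hb

theorem P1_conj_sg {l : Sp} (hl : l ∈ P1) {v : ℕ} (hv : v < 64) (hb : bf 1 v = 0) :
    l * sg 1 v * l⁻¹ = sg 1 (act l v) ∧ bf 1 (act l v) = 0 := by
  have h1 := mem_P1.mp hl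
  refine ⟨by rw [conj_sg l (by omega) hv, h1], ?_⟩
  rw [← hb, ← bf_act l (by omega : 1 < 64) hv, h1]

theorem P1_comm {l : Sp} (hl : l ∈ P1) : l * g 1 = g 1 * l := comm_of_act_one (mem_P1.mp hl)

theorem V0_sq {y : Sp} (hy : y ∈ V0) : y * y = 1 := (V0_facts hy).1

/-! ### lemmas in `G` -/

section G

variable {G : Type u} [Group G] {ι : Sp →* G} {t : G}

namespace Hy

variable (h : Hy ι t)
include h

theorem tinv : t⁻¹ = t := inv_eq_of_mul_eq_one_right h.tt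

theorem ttx (x : G) : t * (t * x) = x := by rw [← mul_assoc, h.tt, one_mul]

theorem t_ne_one : t ≠ 1 := fun e => h.tn 1 (by rw [map_one, e])

theorem ne_t (l l' : Sp) : ι l ≠ t * ι l' := fun e =>
  h.tn (l * l'⁻¹) (by rw [map_mul, map_inv, e, mul_inv_cancel_right])

theorem conj_t (l : Sp) : ι l * t * (ι l)⁻¹ = t := by rw [← h.ct, mul_inv_cancel_right]

theorem conj_tl (l a : Sp) : ι l * (t * ι a) * (ι l)⁻¹ = t * ι (l * a * l⁻¹) := by
  rw [map_mul, map_mul, map_inv, ← mul_assoc, ← h.ct]; group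

theorem mem_sup (X : Subgroup Sp) {x : G} :
    x ∈ X.map ι ⊔ zpowers t ↔ ∃ a ∈ X, x = ι a ∨ x = t * ι a := by
  constructor
  · intro hx
    let S : Subgroup G :=
      { carrier := {x | ∃ a ∈ X, x = ι a ∨ x = t * ι a}
        one_mem' := ⟨1, one_mem _, Or.inl (map_one ι).symm⟩
        mul_mem' := by
          rintro _ _ ⟨a, ha, rfl | rfl⟩ ⟨b, hb, rfl | rfl⟩ <;> refine ⟨a * b, mul_mem ha hb, ?_⟩
          · exact Or.inl (map_mul ι a b).symm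
          · right; rw [← mul_assoc, ← h.ct, map_mul, mul_assoc]
          · right; rw [map_mul, mul_assoc]
          · left; rw [mul_assoc, ← mul_assoc (ι a), ← h.ct, mul_assoc, h.ttx, map_mul]
        inv_mem' := by
          rintro _ ⟨a, ha, rfl | rfl⟩ <;> refine ⟨a⁻¹, inv_mem ha, ?_⟩
          · exact Or.inl (map_inv ι a).symm
          · right; rw [mul_inv_rev, h.tinv, h.ct, map_inv] }
    have : X.map ι ⊔ zpowers t ≤ S := sup_le (by rintro _ ⟨a, ha, rfl⟩; exact ⟨a, ha, Or.inl rfl⟩)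
      (zpowers_le.mpr ⟨1, one_mem _, Or.inr (by simp)⟩)
    exact this hx
  · rintro ⟨a, ha, rfl | rfl⟩
    · exact mem_sup_left (mem_map_of_mem ι ha)
    · exact mul_mem (mem_sup_right (mem_zpowers t)) (mem_sup_left (mem_map_of_mem ι ha))

theorem mem_E3 {x : G} : x ∈ E3 ι t ↔ ∃ a ∈ A, x = ι a ∨ x = t * ι a := h.mem_sup A
theorem mem_E1 {x : G} : x ∈ E1 ι t ↔ ∃ a ∈ V0, x = ι a ∨ x = t * ι a := h.mem_sup V0

theorem E3_comm {x y : G} (hx : x ∈ E3 ι t) (hy : y ∈ E3 ι t) : x * y = y * x := by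
  obtain ⟨a, ha, hx⟩ := h.mem_E3.mp hx
  obtain ⟨b, hb, hy⟩ := h.mem_E3.mp hy
  have e : Commute (ι a) (ι b) := by rw [Commute, SemiconjBy, ← map_mul, A_comm ha hb, map_mul]
  have ta : Commute t (ι a) := h.ct a
  have tb : Commute t (ι b) := h.ct b
  rcases hx with rfl | rfl <;> rcases hy with rfl | rfl
  · exact e
  · exact (ta.symm.mul_right e).eq
  · exact (tb.mul_left e).eq
  · exact (((Commute.refl t).mul_right tb).mul_left (ta.symm.mul_right e)).eq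

theorem E3_sq {x : G} (hx : x ∈ E3 ι t) : x * x = 1 := by
  obtain ⟨a, ha, rfl | rfl⟩ := h.mem_E3.mp hx
  · rw [← map_mul, A_sq ha, map_one]
  · rw [mul_assoc, ← mul_assoc (ι a), ← h.ct, mul_assoc, h.ttx, ← map_mul, A_sq ha, map_one]

/-- `C(t) ∩ C(Λ) = E3` -/
theorem cen_E3 {x : G} (ht : x * t = t * x) (hL : ∀ a ∈ Lam, x * ι a = ι a * x) :
    x ∈ E3 ι t := by
  obtain ⟨l, hl⟩ := h.cen x ht
  have f : ∀ a ∈ Lam, l * a = a * l := fun a ha => h.inj (by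
    have := hL a ha
    rcases hl with rfl | rfl
    · rw [map_mul, map_mul, this]
    · rw [mul_assoc, ← mul_assoc (ι a), ← h.ct, mul_assoc] at this
      rw [map_mul, map_mul, mul_left_cancel this])
  exact h.mem_E3.mpr ⟨l, cen_Lam (f _ a12_Lam) (f _ a13_Lam) (f _ a23_Lam), hl⟩

/-- `C(t) ∩ C(V0) = E1` -/
theorem cen_E1 {x : G} (ht : x * t = t * x) (hL : ∀ a ∈ V0, x * ι a = ι a * x) :
    x ∈ E1 ι t := by
  obtain ⟨l, hl⟩ := h.cen x ht
  have f : ∀ a ∈ V0, l * a = a * l := fun a ha => h.inj (by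
    have := hL a ha
    rcases hl with rfl | rfl
    · rw [map_mul, map_mul, this]
    · rw [mul_assoc, ← mul_assoc (ι a), ← h.ct, mul_assoc] at this
      rw [map_mul, map_mul, mul_left_cancel this])
  exact h.mem_E1.mpr ⟨l, mem_V0_of_comm f, hl⟩

/-- an element of order dividing 3 of `C(t)` lies in `L` -/
theorem cen_cube {x : G} (ht : x * t = t * x) (h3 : x ^ 3 = 1) : ∃ l, x = ι l := by
  obtain ⟨l, e | e⟩ := h.cen x ht
  · exact ⟨l, e⟩
  · exfalso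
    have c : Commute t (ι l) := h.ct l
    rw [e, c.mul_pow, pow_succ t 2, pow_two, h.tt, one_mul, ← map_pow] at h3
    exact h.ne_t 1 (l ^ 3) (by rw [map_one, h3])

/-- transport along conjugation -/
theorem conj (x : G) : Hy ((MulAut.conj x).toMonoidHom.comp ι) (x * t * x⁻¹) where
  inj := (MulAut.conj x).injective.comp h.inj
  tt := by rw [conj_mul, h.tt]; simp
  tn := fun l e => h.tn l ((MulAut.conj x).injective e)
  ct := fun l => by
    show x * t * x⁻¹ * (x * ι l * x⁻¹) = x * ι l * x⁻¹ * (x * t * x⁻¹)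
    rw [conj_mul, conj_mul, h.ct]
  cen := fun y hy => by
    obtain ⟨l, e⟩ := h.cen (x⁻¹ * y * x) (by
      calc x⁻¹ * y * x * t = x⁻¹ * (y * (x * t * x⁻¹)) * x := by group
        _ = t * (x⁻¹ * y * x) := by rw [hy]; group)
    refine ⟨l, e.imp (fun e => ?_) (fun e => ?_)⟩
    · show y = x * ι l * x⁻¹
      rw [← e]; group
    · show y = x * t * x⁻¹ * (x * ι l * x⁻¹)
      rw [conj_mul, ← e]; group
  no2 := fun M hM => by
    have := normal_of_index_eq_two hM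
    exact this.conj_mem _ (h.no2 M hM) x

theorem card_cen [Finite G] : Nat.card (centralizer ({t} : Set G)) = 2 * 1451520 := by
  have e : Function.Bijective (fun p : Bool × Sp => (⟨if p.1 then t * ι p.2 else ι p.2, by
      rw [mem_centralizer_singleton_iff]
      split_ifs
      · rw [mul_assoc, ← h.ct]
      · exact (h.ct _).symm⟩ : centralizer ({t} : Set G))) := by
    constructor
    · rintro ⟨_ | _, a⟩ ⟨_ | _, b⟩ e <;> have e' := congrArg Subtype.val e <;>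
        simp only [Bool.false_eq_true, if_false, if_true] at e'
      · rw [h.inj e']
      · exact absurd e' (h.ne_t _ _)
      · exact absurd e'.symm (h.ne_t _ _)
      · rw [h.inj (mul_left_cancel e')]
    · rintro ⟨x, hx⟩
      obtain ⟨l, rfl | rfl⟩ := h.cen x (mem_centralizer_singleton_iff.mp hx)
      · exact ⟨(false, l), rfl⟩
      · exact ⟨(true, l), rfl⟩
  rw [← Nat.card_eq_of_bijective _ e, Nat.card_prod, card_Sp]; simp

theorem card_map (X : Subgroup Sp) : Nat.card (X.map ι) = Nat.card X :=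
  (Nat.card_congr (X.equivMapOfInjective ι h.inj).toEquiv).symm

end Hy

theorem mem_NE [Finite G] {n : G} : n ∈ NE ι t ↔ ∀ x ∈ E3 ι t, n * x * n⁻¹ ∈ E3 ι t :=
  ⟨fun hn x hx => (mem_normalizer_iff.mp hn x).mp hx, fun hn => mem_normalizer_fintype hn⟩

theorem mem_Nh {n : G} : n ∈ Nh ι t ↔ n ∈ NE ι t ∧ ∀ a ∈ Lam, n * ι a = ι a * n := by
  refine and_congr_right fun _ => ⟨fun hn a ha => (hn _ (mem_map_of_mem ι ha)).symm, ?_⟩
  rintro hn _ ⟨a, ha, rfl⟩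
  exact (hn a ha).symm

namespace Hy

variable [Finite G] (h : Hy ι t)
include h

theorem P3_NE {p : Sp} (hp : p ∈ P3) : ι p ∈ NE ι t := mem_NE.mpr fun x hx => by
  obtain ⟨a, ha, rfl | rfl⟩ := h.mem_E3.mp hx
  · exact h.mem_E3.mpr ⟨_, P3_conj_A hp ha, Or.inl (by simp)⟩
  · exact h.mem_E3.mpr ⟨_, P3_conj_A hp ha, Or.inr (h.conj_tl p a)⟩

theorem NE_P3 {l : Sp} (hl : ι l ∈ NE ι t) : l ∈ P3 := nor_A fun a ha => by
  obtain ⟨b, hb, e | e⟩ := h.mem_E3.mp (mem_NE.mp hl _ (h.mem_E3.mpr ⟨a, ha, Or.inl rfl⟩))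
  · rw [← map_inv, ← map_mul, ← map_mul] at e
    rw [h.inj e]; exact hb
  · rw [← map_inv, ← map_mul, ← map_mul] at e
    exact absurd e (h.ne_t _ _)

theorem E3_Nh {x : G} (hx : x ∈ E3 ι t) : x ∈ Nh ι t :=
  mem_Nh.mpr ⟨mem_NE.mpr fun y hy => by rw [h.E3_comm hx hy, mul_inv_cancel_right]; exact hy,
    fun a ha => h.E3_comm hx (h.mem_E3.mpr ⟨a, Lam_le_A ha, Or.inl rfl⟩)⟩

theorem P3_Nh {p : Sp} (hp : p ∈ P3) {n : G} (hn : n ∈ Nh ι t) : ι p * n * (ι p)⁻¹ ∈ Nh ι t := by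
  obtain ⟨h1, h2⟩ := mem_Nh.mp hn
  refine mem_Nh.mpr ⟨mul_mem (mul_mem (h.P3_NE hp) h1) (inv_mem (h.P3_NE hp)), fun a ha => ?_⟩
  have := h2 _ (P3_conj_Lam (inv_mem hp) ha)
  simp only [map_mul, map_inv, inv_inv] at this
  calc ι p * n * (ι p)⁻¹ * ι a = ι p * (n * ((ι p)⁻¹ * ι a * ι p)) * (ι p)⁻¹ := by group
    _ = ι a * (ι p * n * (ι p)⁻¹) := by rw [this]; group

/-- elements of `N̂` with the same image of `t` are congruent modulo `E3` -/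
theorem Nh_uniq {n m : G} (hn : n ∈ Nh ι t) (hm : m ∈ Nh ι t) (e : n * t * n⁻¹ = m * t * m⁻¹) :
    m⁻¹ * n ∈ E3 ι t :=
  h.cen_E3 (by
    calc m⁻¹ * n * t = m⁻¹ * (n * t * n⁻¹) * n := by group
      _ = t * (m⁻¹ * n) := by rw [e]; group)
    (mem_Nh.mp (mul_mem (inv_mem hm) hn)).2

omit [Finite G] in
theorem MV_comm {Γ : Subgroup Sp} {M : Subgroup G} (hM : MV ι t Γ M) {x y : G} (hx : x ∈ M)
    (hy : y ∈ M) : x * y = y * x := by
  have e := hM.ea _ (mul_mem hx hy)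
  have := inv_eq_of_mul_eq_one_right e
  rw [mul_inv_rev, inv_eq_of_mul_eq_one_right (hM.ea _ hx),
    inv_eq_of_mul_eq_one_right (hM.ea _ hy)] at this
  exact this.symm

theorem MV_card {Γ : Subgroup Sp} (hΓ : Γ ≤ A) {M : Subgroup G} (hM : MV ι t Γ M) :
    Nat.card M = 64 * Nat.card Γ := by
  have hc : ∀ m ∈ M, ∀ γ ∈ Γ, m * ι γ * m⁻¹ = ι γ := fun m hm γ hγ => by
    rw [h.MV_comm hM hm (hM.le (mem_map_of_mem ι (hΓ hγ))), mul_inv_cancel_right]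
  let φ : M →* G :=
    { toFun := fun m => t * (m * t * (m : G)⁻¹)
      map_one' := by simp [h.tt]
      map_mul' := fun m n => by
        obtain ⟨a, ha, ea⟩ := hM.tr _ m.2
        obtain ⟨b, hb, eb⟩ := hM.tr _ n.2
        have : ((m * n : M) : G) * t * ((m * n : M) : G)⁻¹ = m * (n * t * (n : G)⁻¹) * (m : G)⁻¹ := by
          push_cast; group
        rw [this, eb, ← conj_mul, hc _ m.2 b hb, ea, h.ttx, h.ttx, mul_assoc, h.ttx] }
  have hk : φ.ker = (A.map ι).subgroupOf M := by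
    ext m
    rw [MonoidHom.mem_ker, mem_subgroupOf]
    constructor
    · intro e
      refine hM.ker _ m.2 ?_
      have e' : t * (m * t * (m : G)⁻¹) = 1 := e
      have : (m : G) * t * (m : G)⁻¹ = t := by rw [← h.ttx (m * t * (m : G)⁻¹), e', mul_one]
      rw [mul_inv_eq_iff_eq_mul] at this; exact this
    · rintro ⟨a, -, e⟩
      show t * (m * t * (m : G)⁻¹) = 1
      rw [← e, h.conj_t, h.tt]
  have hr : φ.range = Γ.map ι := by
    ext x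
    constructor
    · rintro ⟨m, rfl⟩
      obtain ⟨a, ha, ea⟩ := hM.tr _ m.2
      exact ⟨a, ha, by show ι a = t * (m * t * (m : G)⁻¹); rw [ea, h.ttx]⟩
    · rintro ⟨a, ha, rfl⟩
      obtain ⟨m, hm, e⟩ := hM.sur a ha
      exact ⟨⟨m, hm⟩, by show t * (m * t * m⁻¹) = ι a; rw [e, h.ttx]⟩
  rw [← φ.ker.card_mul_index, index_ker, hr, h.card_map, hk,
    Nat.card_congr (subgroupOfEquivOfLe hM.le).toEquiv, h.card_map, card_A]

end Hy

end G

end Cfsg.Agent.H41.S6
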