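import Cfsg.Agent.H58.SWDefs
import Cfsg.Agent.S3682

/-! Project SW: the Thompson-Wielandt data of a primitive group. -/

set_option autoImplicit false

namespace Cfsg.Agent.H41.SWTw0

open Subgroup MulAction Cfsg Cfsg.Agent.H58.SW Cfsg.Agent.H62 Cfsg.Agent.H52

universe u v

variable {G : Type u} [Group G] [Finite G]

theorem mem_core {M Y : Subgroup G} (hY : Y ≤ M) {r k : ℕ} (hr : r.Prime) (h : Y.relIndex M ≤ r)
    {x : G} (hx : x ∈ Y) (e : x ^ r ^ k = 1) : x ∈ coreIn M Y := by
  have hn : ((coreIn M Y).subgroupOf Y).Normal :=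
    normal_subgroupOf_of_le_normalizer (hY.trans (le_normalizer_coreIn M Y))
  have h1 : x ^ (coreIn M Y).relIndex Y ∈ coreIn M Y :=
    pow_index_mem (H := (coreIn M Y).subgroupOf Y) ⟨x, hx⟩
  have h0 : Y.relIndex M ≠ 0 := index_ne_zero_of_finite
  have h2 : r.Coprime (Y.relIndex M - 1).factorial :=
    (Nat.Prime.coprime_iff_not_dvd hr).2 fun c => by
      have := (hr.dvd_factorial).1 c
      omega
  have h3 : ((coreIn M Y).relIndex Y).Coprime (orderOf x) :=
    ((h2.symm.coprime_dvd_left (coreIn_relIndex_dvd' M Y hY)).pow_right k).coprime_dvd_right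
      (orderOf_dvd_of_pow_eq_one e)
  obtain ⟨m, hm⟩ := exists_pow_eq_self_of_coprime h3
  exact hm ▸ pow_mem h1 m

theorem nrm {M Y : Subgroup G} (hY : Y ≤ M) {r : ℕ} (hr : r.Prime) (h : Y.relIndex M ≤ r) :
    M ≤ normalizer ((closure {x | x ∈ Y ∧ ∃ k, x ^ r ^ k = 1} : Subgroup G) : Set G) := by
  refine H33.le_normalizer_of_forall_conj fun g hg x hx => ?_
  induction hx using closure_induction with
  | mem x hx =>
    obtain ⟨hx, k, e⟩ := hx
    exact subset_closure ⟨coreIn_le_right _ _ (conj_mem_coreIn (mem_core hY hr h hx e) hg), k,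
      by rw [conj_pow, e]; simp⟩
  | one => simp
  | mul x y _ _ h1 h2 => simpa [mul_assoc] using mul_mem h1 h2
  | inv x _ h1 => simpa [mul_assoc] using inv_mem h1

omit [Finite G] in
theorem op_le {r : ℕ} {Y H : Subgroup G} (h1 : Y ≤ H) (h2 : H ≤ normalizer (Y : Set G)) :
    Op r Y ≤ Op r H :=
  le_map_pCore_subtype ((Op_le Y).trans h1) (h2.trans (normalizer_le_normalizer_map_pCore Y))
    (isPGroup_map_pCore_subtype Y)

theorem tw0 : TW0Stmt.{u, v} := by
  intro G Ω _ _ _ _ _ N hN n0 hprim a b d hd h2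
  by_cases h : coreIn (stabilizer G a) (coreIn (stabilizer G a) (stabilizer G a ⊓ stabilizer G b) ⊓
        coreIn (stabilizer G b) (stabilizer G a ⊓ stabilizer G b)) = ⊥ ∨
      coreIn (stabilizer G b) (coreIn (stabilizer G a) (stabilizer G a ⊓ stabilizer G b) ⊓
        coreIn (stabilizer G b) (stabilizer G a ⊓ stabilizer G b)) = ⊥
  · exact Or.inl (Nat.le_of_dvd (by positivity) (S3682.card_dvd_of_bot a b d hd h))
  right
  obtain ⟨hA, hB⟩ := not_or.1 h
  have hne := stabilizer_ne_of_two_le a b (hd ▸ h2)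
  have hab : a ≠ b := fun h => hne (by rw [h])
  haveI : Nontrivial Ω := ⟨⟨a, b, hab⟩⟩
  have ca := IsPreprimitive.isCoatom_stabilizer_of_isPreprimitive G a
  have cb := IsPreprimitive.isCoatom_stabilizer_of_isPreprimitive G b
  obtain ⟨g0, hg0⟩ := exists_smul_eq G a b
  obtain ⟨p, hp, h1, -, -, h3, -⟩ := Cfsg.Agent.S5752.result (stabilizer G a) (stabilizer G b)
    ca g0 (by rw [← hg0, stabilizer_smul_eq_stabilizer_map_conj]) hne
    (stabilizer_normalCore_eq_bot a)
    (fun i => (coreSeq (stabilizer G a) (stabilizer G b) i).1)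
    (fun i => (coreSeq (stabilizer G a) (stabilizer G b) i).2) rfl rfl (fun _ => rfl) (fun _ => rfl)
    hA hB
  haveI : Fact p.Prime := ⟨hp⟩
  have hD : IsPGroup p ↥(coreIn (stabilizer G a) (coreIn (stabilizer G a)
      (stabilizer G a ⊓ stabilizer G b) ⊓
        coreIn (stabilizer G b) (stabilizer G a ⊓ stabilizer G b))) := h1.to_le le_sup_left
  have i1 := (relIndex_inf_stabilizer (G := G) a b).trans hd
  have i2 := (relIndex_inf_stabilizer' (G := G) a b).trans hd
  have tr : IsPretransitive N Ω := by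
    refine IsQuasiPreprimitive.isPretransitive_of_normal fun e => n0 ?_
    refine normal_eq_bot_of_le_stabilizer N hN a fun x hx => ?_
    have : a ∈ fixedPoints N Ω := e ▸ Set.mem_univ a
    exact this ⟨x, hx⟩
  obtain ⟨⟨g, gN⟩, hg⟩ := exists_smul_eq N b a
  change g • b = a at hg
  have ea : stabilizer G a = (stabilizer G b).map (MulAut.conj g).toMonoidHom := by
    rw [← hg, stabilizer_smul_eq_stabilizer_map_conj]
  have DT := (coreIn_le_right (stabilizer G a) (coreIn (stabilizer G a)
      (stabilizer G a ⊓ stabilizer G b) ⊓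
        coreIn (stabilizer G b) (stabilizer G a ⊓ stabilizer G b))).trans inf_le_right
  have TH := coreIn_le_right (stabilizer G b) (stabilizer G a ⊓ stabilizer G b)
  refine ⟨p, stabilizer G a, stabilizer G b, _, _, Op p (stabilizer G b), g,
    ⟨hp, ?_, gN, fun x => ?_, hne, cb, fun K hK l => normal_eq_bot_of_le_stabilizer K hK b l, i2, hA,
      DT, ?_, fun h hh x hx => conj_mem_coreIn hx hh, fun x hx => ?_, TH,
      fun h hh x hx => conj_mem_coreIn hx hh, ?_, Op_le _,
      fun h hh x hx => (mem_normalizer_iff.1 (le_normalizer_Op _ hh) x).1 hx,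
      isPGroup_map_pCore_subtype _, fun Y hY nY t ht ct => ?_⟩, (card_stabilizer_eq a b).symm⟩
  · by_contra c
    have k := H33.eq_bot_of_le_normalizer ca (stabilizer_normalCore_eq_bot a) cb hne
      ((closure_le _).2 fun x hx => hx.1.1) (nrm inf_le_left hp (by omega))
      (nrm inf_le_right hp (by omega))
    refine hA (eq_bot_iff.2 fun x hx => ?_)
    rw [← k]
    obtain ⟨n, e⟩ := hD ⟨x, hx⟩
    exact subset_closure ⟨TH (DT hx), n, congrArg Subtype.val e⟩
  · rw [ea]
    exact ⟨fun ⟨y, hy, e⟩ => by subst e; simpa [mul_assoc] using hy,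
      fun hx => ⟨_, hx, by simp [mul_assoc]⟩⟩
  · exact (le_map_pCore_subtype DT ((TH.trans inf_le_left).trans (le_normalizer_coreIn _ _))
      hD).trans (op_le (coreIn_le_left _ _) (le_normalizer_coreIn _ _))
  · have k : x ∈ Op p (stabilizer G a) :=
      le_map_pCore_subtype (coreIn_le_left _ _) (le_normalizer_coreIn _ _) hD hx
    rw [ea, ← map_Op_of_injective _ (MulAut.conj g).injective] at k
    obtain ⟨y, hy, e⟩ := k
    subst e
    simpa [mul_assoc] using hy
  · have := coreIn_relIndex_dvd (stabilizer G b) (stabilizer G a ⊓ stabilizer G b)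
    rw [i2] at this
    exact Nat.le_of_dvd (Nat.factorial_pos d) this
  · have n := H33.le_normalizer_of_forall_conj nY
    have f := H33.fstar_eq_pCore_of_normal hY n h3
    have l := op_le (r := p) hY n
    have k : (⟨t, ht⟩ : Y) ∈ generalizedFittingSubgroup Y :=
      centralizer_fstar_le fun y hy => Subtype.ext
        (ct y ⟨l ⟨y, f ▸ hy, rfl⟩, y.2⟩).symm.eq
    exact l ⟨_, f ▸ k, rfl⟩

end Cfsg.Agent.H41.SWTw0
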