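import Cfsg.Agent.H41.U6Defs
import Cfsg.Agent.H41.StH
import Cfsg.Agent.H41.U6

/-!
# Groups with a standard subgroup `2 U₆(2)`
-/

set_option autoImplicit false
set_option linter.unusedSectionVars false

universe u

namespace Cfsg.Agent.H41.U6S

open Cfsg.Agent.H41.Rec Cfsg.Agent.H42 Cfsg.Agent.H45 Cfsg.Agent.H60 Equiv Subgroup

variable {G : Type u} [Group G] [Finite G]

theorem std21 (tau : TauStmt) (two : TwoStmt.{u}) (inn : InnStmt.{u}) (fix : FixStmt.{u})
    (ker : KerStmt.{u}) [IsSimpleGroup G] (hG : ¬ IsMulCommutative G)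
    (hbal : ∀ t : G, orderOf t = 2 → centralizerPPrimeCore 2 t = ⊥)
    {L : Subgroup G} (hL : IsStandardSubgroup L) (hZ : Nat.card (center L) = 2)
    (e : L ⧸ center L ≃* L21.F.grp) : Spor.IsoFi22 G := by
  obtain ⟨⟨z0, hz0⟩, z1, z2⟩ := (Nat.card_eq_two_iff' (1 : center L)).1 hZ
  have z3 : ∀ x ∈ center L, x = 1 ∨ x = z0 := fun x hx => or_iff_not_imp_left.2 fun c =>
    congrArg Subtype.val (z2 ⟨x, hx⟩ fun c' => c (congrArg Subtype.val c'))
  obtain ⟨z, zL⟩ := z0
  have z4 : z ≠ 1 := fun c => z1 (Subtype.ext (Subtype.ext c))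
  have zK : z ∈ centralizer (L : Set G) := fun g hg => congrArg Subtype.val (mem_center_iff.1 hz0 ⟨g, hg⟩)
  have z5 : ∀ x ∈ L, x ∈ centralizer (L : Set G) → x = 1 ∨ x = z := fun x h1 h2 =>
    (z3 ⟨x, h1⟩ (mem_center_iff.2 fun g => Subtype.ext (h2 g g.2))).imp (congrArg Subtype.val) (congrArg Subtype.val)
  have := Fact.mk Nat.prime_two
  have z6 : orderOf z = 2 := orderOf_eq_prime (by
    rw [sq]
    exact (z5 _ (mul_mem zL zL) (mul_mem zK zK)).resolve_right (by simpa)) z4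
  have ct : H10.Std.Ctr L z := ⟨hL, z6, zL, zK, fun x h1 h2 _ => z5 x h1 h2⟩
  have hO : oddCore G = ⊥ := (inferInstance : (pPrimeCore 2 G).Normal).eq_bot_or_eq_top.resolve_right fun c => by
    have h1 := H3.not_dvd_card_pPrimeCore 2 G
    rw [c, card_top] at h1
    exact h1 (z6 ▸ orderOf_dvd_natCard z)
  have hc : centralizer {z} ≠ ⊤ := fun c => hG (by
    have h1 : center G = ⊤ := (center G).normal_of_characteristic.eq_bot_or_eq_top.resolve_left fun b =>
      z4 (b.le (mem_center_iff.2 fun g => mem_centralizer_singleton_iff.1 (c.ge (mem_top g))))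
    exact ⟨⟨fun a b => mem_center_iff.1 (h1.ge (mem_top b)) a⟩⟩)
  obtain ⟨g, g1, g2⟩ := H10.Std.exists_conj_comm hL hO (fun c => hc (ct.norm_eq ▸ normalizer_eq_top L)) z6 zK
  let f : L →* L21.F.grp := e.toMonoidHom.comp (QuotientGroup.mk' _)
  have f1 : Function.Surjective f := e.surjective.comp (QuotientGroup.mk'_surjective _)
  have f2 : f.ker = center L := ext fun x => by simp [f]
  obtain ⟨Φ, hΦ⟩ := exists_indAut f1 f2
  obtain ⟨a, ha⟩ := H43.Fi.exists_autEquiv aut21_t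
  let ρ : centralizer ({z} : Set G) →* Perm (Fin 693) := L21.F.aut.subtype.comp (a.symm.toMonoidHom.comp
    (Φ.comp (L.normalizerMonoidHom.comp (inclusion ct.norm_eq.ge))))
  have LC : L ≤ centralizer {z} := le_normalizer.trans ct.norm_eq.le
  have r1 : ∀ x : centralizer ({z} : Set G), ∀ hx : x.1 ∈ L, ρ x = f ⟨x, hx⟩ := fun x hx =>
    congrArg Subtype.val ((a.symm_apply_eq (y := ⟨_, L21.F.grp_le_aut (f ⟨x, hx⟩).2⟩)).2
      (MulEquiv.ext fun y => Subtype.ext (by
      obtain ⟨y, rfl⟩ := f1 y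
      rw [ha]
      exact (congrArg Subtype.val ((hΦ _ y).trans (map_mul f (⟨x, hx⟩ * y) ⟨x, hx⟩⁻¹))).trans (by simp))))
  have r2 : (L.subgroupOf (centralizer {z})).map ρ = L21.F.grp := le_antisymm
    (by rintro _ ⟨x, hx, rfl⟩; exact r1 x hx ▸ (f _).2) fun y hy =>
      let ⟨x, hx⟩ := f1 ⟨y, hy⟩
      ⟨⟨x, LC x.2⟩, x.2, (r1 _ x.2).trans (congrArg Subtype.val hx)⟩
  have pf : Group.IsPerfect (L.subgroupOf (centralizer {z})) :=
    hL.1.1.ofSurjective (f := (subgroupOfEquivOfLe LC).symm.toMonoidHom) (subgroupOfEquivOfLe LC).symm.surjective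
  have r3 : ∀ x ∈ L.subgroupOf (centralizer {z}), ρ x = 1 ↔ x = 1 ∨ x = dC z := fun x hx => by
    rw [r1 x hx, OneMemClass.coe_eq_one, ← MonoidHom.mem_ker, f2]
    refine ⟨fun c => (z3 _ c).imp (fun b => Subtype.ext (Subtype.mk.inj b)) fun b => Subtype.ext (Subtype.mk.inj b), ?_⟩
    rintro (rfl | rfl)
    exacts [one_mem _, hz0]
  have nor : ∀ x : centralizer ({z} : Set G), ∀ y ∈ L.subgroupOf (centralizer {z}),
      x * y * x⁻¹ ∈ L.subgroupOf (centralizer {z}) := fun x y hy =>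
    (mem_normalizer_iff.1 (ct.norm_eq.ge x.2) _).1 hy
  have dc : ∀ x, x * dC z = dC z * x := fun x => Subtype.ext (mem_centralizer_singleton_iff.1 x.2)
  have ex : Ex L21.F (ρ.comp (L.subgroupOf (centralizer {z})).subtype) ⟨dC z, zL⟩ :=
    ⟨by rw [MonoidHom.range_comp, range_subtype, r2], fun a => (r3 a a.2).trans
      (or_congr OneMemClass.coe_eq_one (Subtype.ext_iff (a2 := ⟨dC z, zL⟩)).symm),
      fun c => z4 (congrArg (fun x => x.1.1) c)⟩
  have kK : ∀ k, ρ k = 1 → k.1 ∈ centralizer (L : Set G) := fun k hk y hy => by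
    have := hom_eq_of_center pf (f := (L.subgroupOf (centralizer {z})).subtype)
      (g := (MulAut.conj k).toMonoidHom.comp (L.subgroupOf (centralizer {z})).subtype) fun b => by
        rcases ex.eq_or (a := ⟨_, nor k b b.2⟩) (b := b) (by simp [hk]) with e | e
        · have e := congrArg Subtype.val e
          simp only at e
          simp [e]
        · have e : k * b * k⁻¹ = b * dC z := congrArg Subtype.val e
          exact mem_center_iff.mpr fun g => by simp [e, dc g]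
    exact (congrArg Subtype.val (mul_inv_eq_iff_eq_mul.mp (congrArg (· ⟨⟨y, LC hy⟩, hy⟩) this).symm)).symm
  have gu : Gu (centralizer {z}).subtype ρ _ (dC z) := ⟨fun x => Subtype.property _, nor, zL, dc,
    fun c => z4 (congrArg Subtype.val c), r3, r2, pf, Subtype.val_injective,
    fun x hx => ⟨⟨x, mem_centralizer_singleton_iff.2 hx.symm⟩, rfl⟩, fun k k' h1 h2 h3 h4 x hx =>
      ⟨⟨x, ct.norm_eq.le (H10.Std.norm_of_conj_mem hL (orderOf_eq_prime (by rw [sq]; exact congrArg Subtype.val h3)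
        fun c => h4 (Subtype.ext c)) (kK k h1) (hx.symm ▸ kK k' h2))⟩, rfl⟩⟩
  have tw := two tau _ G _ ρ _ _ gu
  have hK : ∀ k, ρ k = 1 → k = 1 ∨ k = dC z := ker fix _ G _ ρ _ _ gu
    (inn _ G _ ρ _ _ gu tw ⟨g, g1.symm, g2⟩) fun M h1 h2 =>
    le_bot_iff.1 ((H3.le_pPrimeCore (Nat.coprime_two_right.2 h2)).trans
      ((map_eq_bot_iff_of_injective _ Subtype.val_injective).1 (hbal z z6)).le)
  have k1 : ∀ k, ρ k = 1 → k ∈ L.subgroupOf (centralizer {z}) := fun k hk => by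
    rcases hK k hk with rfl | rfl
    exacts [one_mem _, zL]
  have mN : ∀ x, x ∈ L.subgroupOf (centralizer {z}) ↔ ρ x ∈ L21.F.grp := fun x =>
    ⟨fun hx => r2.le ⟨x, hx, rfl⟩, fun hx => by
      obtain ⟨y, hy, e⟩ := r2.ge hx
      exact (mul_mem_cancel_left (inv_mem hy)).mp (k1 _ (by simp [e]))⟩
  have ix : (L.subgroupOf (centralizer {z})).index ∣ 2 := by
    by_cases ho : ∀ o, ρ o ∈ L21.F.grp
    · rw [(eq_top_iff' _).2 fun o => (mN o).2 (ho o), index_top]
      exact one_dvd 2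
    · obtain ⟨o, ho⟩ := not_forall.1 ho
      refine (index_eq_two_iff.2 ⟨o, fun b => ?_⟩).dvd
      by_cases hb : ρ b ∈ L21.F.grp
      · exact .inr ⟨(mN b).2 hb, fun c => ho ((mul_mem_cancel_left hb).mp (map_mul ρ b o ▸ (mN _).1 c))⟩
      · exact .inl ⟨(mN _).2 (tw b o hb ho), mt (mN b).1 hb⟩
  obtain ⟨H, a1, -, ⟨a3⟩, a4⟩ := H99.F22.hub (in_C z) dc ix pf ex (fun k hk => k1 k (Equiv.ext fun p => by
      obtain ⟨n, hn, e⟩ := r2.ge (FS.T_mem_grp (F := L21.F) p)
      refine (FS.commute_T_iff (gu.aut k)).mp (mul_inv_eq_iff_eq_mul.mp ?_)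
      rw [← e, ← map_inv, ← map_mul, ← map_mul]
      rcases hk n hn with c | c <;> rw [c]
      rw [map_mul, (r3 _ zL).2 (.inr rfl), mul_one]))
    (hn_of ⟨g, mem_centralizer_singleton_iff.2 g1, g2⟩)
  obtain ⟨v⟩ := exists_fi22_equiv
  obtain rfl := a1.eq_bot_or_eq_top.resolve_left fun c => z4 (a4.le fun x hx => by
    rw [c] at hx
    rw [mem_bot.1 hx, one_mul, mul_one])
  exact ⟨topEquiv.symm.trans (a3.symm.trans v)⟩

end Cfsg.Agent.H41.U6S
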